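import Groth.Agent.PicCurve.Classes

/-!
# Rigidifying classes along the section
-/

noncomputable section

set_option autoImplicit false
set_option linter.style.haveILetI false
set_option linter.unusedSectionVars false
set_option backward.isDefEq.respectTransparency false
set_option backward.isDefEq.respectTransparency.types false
set_option maxHeartbeats 1000000
set_option synthInstance.maxHeartbeats 400000
attribute [-instance] CategoryTheory.catToReflQuiver

universe u

open CategoryTheory CategoryTheory.Limits AlgebraicGeometry TopologicalSpace Opposite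
open Groth.Agent.H23.PicMul

namespace Groth.Agent.PicCurve

open Groth.Agent.FppfPic

/-- the inverse class -/
def invCl {Y : Scheme.{u}} {a : PicF.Cl Y} (ha : PicF.IsInvertibleCl a) : PicF.Cl Y :=
  (exists_inv (⟨a, ha⟩ : PicLoc.PicSet Y)).choose.1

theorem isInvertibleCl_invCl {Y : Scheme.{u}} {a : PicF.Cl Y} (ha : PicF.IsInvertibleCl a) :
    PicF.IsInvertibleCl (invCl ha) :=
  (exists_inv (⟨a, ha⟩ : PicLoc.PicSet Y)).choose.2

theorem invCl_mul {Y : Scheme.{u}} {a : PicF.Cl Y} (ha : PicF.IsInvertibleCl a) : invCl ha * a = 1 :=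
  (exists_inv (⟨a, ha⟩ : PicLoc.PicSet Y)).choose_spec

theorem mul_invCl {Y : Scheme.{u}} {a : PicF.Cl Y} (ha : PicF.IsInvertibleCl a) : a * invCl ha = 1 := by
  rw [mul_comm, invCl_mul]

theorem eq_invCl {Y : Scheme.{u}} {a b : PicF.Cl Y} (ha : PicF.IsInvertibleCl a) (h : a * b = 1) : b = invCl ha := by
  have h1 := congrArg (invCl ha * ·) h
  simp only [← _root_.mul_assoc, invCl_mul, _root_.one_mul, _root_.mul_one] at h1
  exact h1

theorem eq_of_invCl_mul {Y : Scheme.{u}} {a b c : PicF.Cl Y} (hc : PicF.IsInvertibleCl c) (h : a * c = b * c) : a = b := by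
  have h1 := congrArg (· * invCl hc) h
  simp only [_root_.mul_assoc, mul_invCl, _root_.mul_one] at h1
  exact h1

theorem pull_invCl {Y Y' : Scheme.{u}} (g : Y' ⟶ Y) {a : PicF.Cl Y} (ha : PicF.IsInvertibleCl a) :
    PicF.pullCl g (invCl ha) = invCl (FppfPic.isInvertibleCl_pull g ha) :=
  eq_invCl _ (by rw [← pullCl_mul, mul_invCl, pullCl_one])

/-- classes from the base are trivial near every point -/
theorem exists_open_trivial {Y : Scheme.{u}} {n : PicF.Cl Y} (hn : PicF.IsInvertibleCl n) (y : Y) :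
    ∃ V : Y.Opens, y ∈ V ∧ PicF.pullCl V.ι n = 1 := by
  obtain ⟨N, rfl, hN⟩ := hn
  obtain ⟨V, hV, e, he⟩ := InvX.exists_frame hN y
  exact ⟨V, hV, (PicGrp.cl_eq_cl_iff _ _).2
    (H23.TrivBasic.triv_of_frame ((InvX.isFrame_pullElt V.ι he).res V.ι_preimage_self.ge))⟩

variable {X S : Scheme.{u}} (f : X ⟶ S) (σ : S ⟶ X) (hσ : σ ≫ f = 𝟙 S)

theorem pull_sec_proj (T : Over S) (n : PicF.Cl T.left) :
    PicF.pullCl (PicF.secT f σ hσ T) (PicF.pullCl (PicF.XTproj f T) n) = n := by
  rw [PicClLib.pullCl_comp, show PicF.secT f σ hσ T ≫ PicF.XTproj f T = 𝟙 _ from pullback.lift_snd _ _ _,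
    PicClLib.pullCl_id]

theorem pull_proj {T T' : Over S} (g : T' ⟶ T) (n : PicF.Cl T.left) :
    PicF.pullCl (PicF.XTmap f g) (PicF.pullCl (PicF.XTproj f T) n) =
      PicF.pullCl (PicF.XTproj f T') (PicF.pullCl g.left n) := by
  rw [PicClLib.pullCl_comp, (isPullback_XTmap f g).w, ← PicClLib.pullCl_comp]

theorem pull_sec {T T' : Over S} (g : T' ⟶ T) (a : PicF.Cl (PicF.XT f T)) :
    PicF.pullCl (PicF.secT f σ hσ T') (PicF.pullCl (PicF.XTmap f g) a) =
      PicF.pullCl g.left (PicF.pullCl (PicF.secT f σ hσ T) a) := by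
  rw [PicClLib.pullCl_comp, secT_XTmap, ← PicClLib.pullCl_comp]

/-- the rigidified class of a class -/
def rigify {T : Over S} {a : PicF.Cl (PicF.XT f T)} (ha : PicF.IsInvertibleCl a) : PicF.Rig f σ hσ T :=
  ⟨a * PicF.pullCl (PicF.XTproj f T) (invCl (FppfPic.isInvertibleCl_pull (PicF.secT f σ hσ T) ha)),
    isInvertibleCl_mul ha (FppfPic.isInvertibleCl_pull _ (isInvertibleCl_invCl _)),
    show PicF.pullCl (PicF.secT f σ hσ T) (a * PicF.pullCl (PicF.XTproj f T) _) = 1 by
      rw [pullCl_mul, pull_sec_proj]; exact mul_invCl _⟩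

theorem rigify_congr {T : Over S} {a b : PicF.Cl (PicF.XT f T)} (ha : PicF.IsInvertibleCl a)
    (hb : PicF.IsInvertibleCl b) (h : a = b) : rigify f σ hσ ha = rigify f σ hσ hb := by
  subst h; rfl

theorem rigPull_rigify {T T' : Over S} (g : T' ⟶ T) {a : PicF.Cl (PicF.XT f T)} (ha : PicF.IsInvertibleCl a) :
    rigPull f σ hσ g (rigify f σ hσ ha) = rigify f σ hσ (FppfPic.isInvertibleCl_pull (PicF.XTmap f g) ha) := by
  refine Subtype.ext ?_
  show PicF.pullCl _ (a * _) = PicF.pullCl _ a * _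
  rw [pullCl_mul, pull_proj, pull_invCl]
  congr 2
  exact eq_invCl _ (by rw [pull_sec]; exact mul_invCl _)

theorem rigify_self {T : Over S} (c : PicF.Rig f σ hσ T) : rigify f σ hσ c.2.1 = c := by
  refine Subtype.ext ?_
  have h1 : PicF.pullCl (PicF.secT f σ hσ T) c.1 = 1 := c.2.2
  have h2 : (1 : PicF.Cl T.left) = invCl (FppfPic.isInvertibleCl_pull (PicF.secT f σ hσ T) c.2.1) :=
    eq_invCl _ (by rw [h1, _root_.one_mul])
  show c.1 * PicF.pullCl (PicF.XTproj f T) _ = c.1
  rw [← h2, pullCl_one, _root_.mul_one]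

theorem rigify_mul_base {T : Over S} {a : PicF.Cl (PicF.XT f T)} (ha : PicF.IsInvertibleCl a) {n : PicF.Cl T.left}
    (hn : PicF.IsInvertibleCl n) :
    rigify f σ hσ (isInvertibleCl_mul ha (FppfPic.isInvertibleCl_pull (PicF.XTproj f T) hn)) = rigify f σ hσ ha := by
  refine Subtype.ext ?_
  show a * PicF.pullCl (PicF.XTproj f T) n * PicF.pullCl (PicF.XTproj f T) _ = a * PicF.pullCl (PicF.XTproj f T) _
  rw [_root_.mul_assoc, ← pullCl_mul]
  congr 2
  refine eq_invCl _ ?_
  rw [← _root_.mul_assoc]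
  have hs : PicF.pullCl (PicF.secT f σ hσ T) (a * PicF.pullCl (PicF.XTproj f T) n) =
      PicF.pullCl (PicF.secT f σ hσ T) a * n := by rw [pullCl_mul, pull_sec_proj]
  exact (congrArg (fun x => x * _) hs.symm).trans (mul_invCl _)

/-- classes with the same rigidification agree near every point of the base -/
theorem exists_open_eq {T : Over S} {a b : PicF.Cl (PicF.XT f T)} (ha : PicF.IsInvertibleCl a)
    (hb : PicF.IsInvertibleCl b) (h : rigify f σ hσ ha = rigify f σ hσ hb) (t : T.left) :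
    ∃ V : T.left.Opens, t ∈ V ∧ PicF.pullCl (PicF.XTmap f (AbDual.ovrHom T V.ι)) a =
      PicF.pullCl (PicF.XTmap f (AbDual.ovrHom T V.ι)) b := by
  have hsa := FppfPic.isInvertibleCl_pull (PicF.secT f σ hσ T) ha
  have hsb := FppfPic.isInvertibleCl_pull (PicF.secT f σ hσ T) hb
  obtain ⟨V, htV, hV⟩ := exists_open_trivial (isInvertibleCl_invCl hsa) t
  obtain ⟨W, htW, hW⟩ := exists_open_trivial (isInvertibleCl_invCl hsb) t
  refine ⟨V ⊓ W, ⟨htV, htW⟩, ?_⟩
  have e : a * PicF.pullCl (PicF.XTproj f T) (invCl hsa) = b * PicF.pullCl (PicF.XTproj f T) (invCl hsb) :=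
    congrArg Subtype.val h
  have hres : ∀ {U : T.left.Opens} (hU : V ⊓ W ≤ U) {n : PicF.Cl T.left}, PicF.pullCl U.ι n = 1 →
      PicF.pullCl (AbDual.ovrHom T (V ⊓ W).ι).left n = 1 := fun {U} hU n hn => by
    show PicF.pullCl (V ⊓ W).ι n = 1
    rw [← Scheme.homOfLE_ι T.left hU, ← PicClLib.pullCl_comp, hn, pullCl_one]
  have e' := congrArg (PicF.pullCl (PicF.XTmap f (AbDual.ovrHom T (V ⊓ W).ι))) e
  rwa [pullCl_mul, pullCl_mul, pull_proj, pull_proj, hres inf_le_left hV, hres inf_le_right hW, pullCl_one,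
    _root_.mul_one, _root_.mul_one] at e'

end Groth.Agent.PicCurve

end
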