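import Groth.Agent.PicCurve.Torsion
import Groth.Agent.CurveCd.CurveGm
import Groth.Agent.EtLC12.MuConst
import Groth.Agent.EtGmH1.Compare
import Groth.Agent.EtMu5.Main
import Groth.Agent.CurveCd.FieldKummer
import Groth.Prelude.Def_Curve

/-!
# Kummer theory on a smooth proper curve over an algebraically closed field
-/

noncomputable section

set_option autoImplicit false
set_option linter.style.haveILetI false
set_option linter.unusedSectionVars false
set_option backward.isDefEq.respectTransparency false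
set_option backward.isDefEq.respectTransparency.types false
set_option maxHeartbeats 1000000
set_option synthInstance.maxHeartbeats 400000

universe u v w

open CategoryTheory CategoryTheory.Limits AlgebraicGeometry Opposite CategoryTheory.Abelian
  MonoidalCategory CartesianMonoidalCategory
open scoped MonObj
open Groth.Agent.H23.PicMul

namespace Groth.Agent.PicCurve

open AVTorsLib (base tor mem_tor)

/-- the quotient modulo `n` through a surjection whose kernel is the multiples of `n` -/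
def quotEquiv {P : Type v} [AddCommGroup P] {Q : Type w} [AddCommGroup Q] (δ : P →+ Q) (n : ℕ)
    (hs : Function.Surjective δ) (hk : ∀ y, δ y = 0 ↔ ∃ z, n • z = y) :
    (P ⧸ (nsmulAddMonoidHom n : P →+ P).range) ≃+ Q :=
  (QuotientAddGroup.quotientAddEquivOfEq (AddSubgroup.ext fun y => by
    rw [AddMonoidHom.mem_ker, hk]; rfl)).trans (QuotientAddGroup.quotientKerEquivOfSurjective δ hs)

/-- torsion transports along an injection whose image contains all torsion -/
def torEquivOfInj {P : Type v} [AddCommGroup P] {Q : Type w} [AddCommGroup Q] (ψ : P →+ Q)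
    (hinj : Function.Injective ψ) (n : ℕ) (hsurj : ∀ q : Q, n • q = 0 → ∃ p, ψ p = q) :
    (tor n : AddSubgroup P) ≃+ (tor n : AddSubgroup Q) :=
  AddEquiv.ofBijective
    ((ψ.comp (tor n).subtype).codRestrict (tor n) fun p => by
      rw [mem_tor, AddMonoidHom.comp_apply, AddSubgroup.subtype_apply, ← map_nsmul, (mem_tor p.1).1 p.2, map_zero])
    ⟨fun a b h => Subtype.ext (hinj (congrArg Subtype.val h)), fun q => by
      obtain ⟨p, hp⟩ := hsurj q.1 ((mem_tor q.1).1 q.2)
      exact ⟨⟨p, (mem_tor p).2 (hinj (by rw [map_nsmul, hp, (mem_tor q.1).1 q.2, map_zero]))⟩, Subtype.ext hp⟩⟩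

section Seq

variable {X : Scheme.{u}} {n : ℕ}

/-- the power map acts on cohomology by multiplication -/
theorem comp_powMap (q : ℕ) (y : EtCoh.H X (EtCoh.Gm X) q) :
    y.comp (Ext.mk₀ (EtCoh.powMap X n)) (add_zero q) = n • y := by
  rw [EtCoh.powMap]
  induction n with
  | zero => simp
  | succ n ih => rw [succ_nsmul, succ_nsmul, Ext.mk₀_add, Ext.comp_add, ih, Ext.comp_mk₀_id]

variable (hn : IsUnit (n : Γ(X, ⊤)))

include hn in
theorem kummer_shortExact :
    (ShortComplex.mk (kernel.ι (EtCoh.powMap X n)) (EtCoh.powMap X n) (kernel.condition _)).ShortExact := by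
  haveI : Epi (EtCoh.powMap X n) := S0108.result X n hn
  exact { exact := ShortComplex.exact_of_f_is_kernel _ (kernelIsKernel _) }

include hn in
/-- `H¹(μ_n)` is the torsion of `H¹(G_m)` when the global units are divisible -/
theorem nonempty_H1_mu (hdiv : ∀ z : EtCoh.H X (EtCoh.Gm X) 0, ∃ w, n • w = z) :
    Nonempty (EtCoh.H X (EtCoh.mu X n) 1 ≃+ (tor n : AddSubgroup (EtCoh.H X (EtCoh.Gm X) 1))) := by
  let S := ShortComplex.mk (kernel.ι (EtCoh.powMap X n)) (EtCoh.powMap X n) (kernel.condition _)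
  have hS : S.ShortExact := kummer_shortExact hn
  let j : EtCoh.H X (EtCoh.mu X n) 1 →+ EtCoh.H X (EtCoh.Gm X) 1 :=
    (Ext.mk₀ (kernel.ι (EtCoh.powMap X n))).postcomp _ (add_zero 1)
  have hmem : ∀ x, j x ∈ (tor n : AddSubgroup (EtCoh.H X (EtCoh.Gm X) 1)) := fun x => by
    rw [mem_tor, ← comp_powMap 1 (j x)]
    show (x.comp (Ext.mk₀ (kernel.ι (EtCoh.powMap X n))) (add_zero 1)).comp (Ext.mk₀ (EtCoh.powMap X n)) (add_zero 1) = 0
    rw [Ext.comp_assoc_of_second_deg_zero, Ext.mk₀_comp_mk₀, kernel.condition, Ext.mk₀_zero, Ext.comp_zero]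
  refine ⟨AddEquiv.ofBijective (j.codRestrict _ hmem) ⟨(injective_iff_map_eq_zero _).2 fun x hx => ?_, fun y => ?_⟩⟩
  · obtain ⟨z, hz⟩ := Ext.covariant_sequence_exact₁ _ hS x (congrArg Subtype.val hx) (rfl : 0 + 1 = 1)
    obtain ⟨w, hw⟩ := hdiv z
    rw [← hz, ← hw, ← comp_powMap 0 w]
    exact (Ext.comp_assoc_of_second_deg_zero _ _ _ _).trans
      ((congrArg (fun t => w.comp t _) hS.comp_extClass).trans (Ext.comp_zero _ _ _ _ _))
  · obtain ⟨x, hx⟩ := Ext.covariant_sequence_exact₂ _ hS y.1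
      ((comp_powMap 1 y.1).trans ((mem_tor y.1).1 y.2))
    exact ⟨x, Subtype.ext hx⟩

include hn in
/-- the boundary map on `H¹(G_m)` is surjective with kernel the multiples of `n` -/
theorem exists_boundary (h2 : Subsingleton (EtCoh.H X (EtCoh.Gm X) 2)) :
    ∃ δ : EtCoh.H X (EtCoh.Gm X) 1 →+ EtCoh.H X (EtCoh.mu X n) 2, Function.Surjective δ ∧
      ∀ y, δ y = 0 ↔ ∃ z, n • z = y := by
  let S := ShortComplex.mk (kernel.ι (EtCoh.powMap X n)) (EtCoh.powMap X n) (kernel.condition _)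
  have hS : S.ShortExact := kummer_shortExact hn
  refine ⟨hS.extClass.postcomp _ (rfl : 1 + 1 = 2), fun x => ?_, fun y => ⟨fun hy => ?_, ?_⟩⟩
  · obtain ⟨z, hz⟩ := Ext.covariant_sequence_exact₁ _ hS x (h2.elim _ _) (rfl : 1 + 1 = 2)
    exact ⟨z, hz⟩
  · obtain ⟨z, hz⟩ := Ext.covariant_sequence_exact₃ _ hS y (rfl : 1 + 1 = 2) hy
    exact ⟨z, (comp_powMap 1 z).symm.trans hz⟩
  · rintro ⟨z, rfl⟩
    show (n • z).comp hS.extClass rfl = 0
    rw [← comp_powMap 1 z]
    exact (Ext.comp_assoc_of_second_deg_zero _ _ _ _).trans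
      ((congrArg (fun w => z.comp w _) hS.comp_extClass).trans (Ext.comp_zero _ _ _ _ _))

end Seq

variable {k : Type u} [Field k] [IsAlgClosed k] {X : Scheme.{u}}

/-- global units on an integral scheme proper over an algebraically closed field are constants -/
theorem surjective_const [IsIntegral X] (f : X ⟶ Spec (CommRingCat.of k)) [IsProper f] :
    Function.Bijective ((Scheme.ΓSpecIso (CommRingCat.of k)).inv ≫ f.appTop).hom := by
  let φ := ((Scheme.ΓSpecIso (CommRingCat.of k)).inv ≫ f.appTop).hom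
  letI : Algebra k Γ(X, ⊤) := φ.toAlgebra
  have hi : φ.IsIntegral := by
    apply RingHom.isIntegral_respectsIso.2 (e := (Scheme.ΓSpecIso _).symm.commRingCatIsoToRingEquiv)
    exact isIntegral_appTop_of_universallyClosed f
  haveI : Algebra.IsIntegral k Γ(X, ⊤) := ⟨hi⟩
  exact IsAlgClosed.algebraMap_bijective_of_isIntegral (k := k) (K := Γ(X, ⊤))

/-- the units of `H⁰(G_m)` are divisible -/
theorem divisible_H0 [IsIntegral X] (f : X ⟶ Spec (CommRingCat.of k)) [IsProper f] {n : ℕ} (hn : n ≠ 0)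
    (z : EtCoh.H X (EtCoh.Gm X) 0) : ∃ w, n • w = z := by
  let φ := ((Scheme.ΓSpecIso (CommRingCat.of k)).inv ≫ f.appTop).hom
  let u : Γ(X, ⊤)ˣ := (EtMu5.h0Gm X z).toMul
  obtain ⟨c, hc⟩ := (surjective_const f).2 (u : Γ(X, ⊤))
  obtain ⟨d, hd⟩ := IsAlgClosed.exists_pow_nat_eq c (Nat.pos_of_ne_zero hn)
  have hp : φ d ^ n = (u : Γ(X, ⊤)) := by rw [← map_pow, hd]; exact hc
  have hu : IsUnit (φ d) := (isUnit_pow_iff hn).1 (hp ▸ u.isUnit)
  refine ⟨(EtMu5.h0Gm X).symm (Additive.ofMul hu.unit), (EtMu5.h0Gm X).injective ?_⟩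
  rw [map_nsmul, AddEquiv.apply_symm_apply]
  exact congrArg Additive.ofMul (Units.ext (by rw [Units.val_pow_eq_pow_val]; exact hp) : hu.unit ^ n = u)

/-- `n` is invertible on a scheme over a field in which it is invertible -/
theorem isUnit_natCast_Γ {K : Type u} [Field K] {Y : Scheme.{u}} (f : Y ⟶ Spec (CommRingCat.of K)) {n : ℕ}
    (hn : (n : K) ≠ 0) : IsUnit (n : Γ(Y, ⊤)) := by
  have h := (IsUnit.mk0 _ hn).map ((Scheme.ΓSpecIso (CommRingCat.of K)).inv ≫ f.appTop).hom
  rwa [map_natCast] at h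

/-- roots of unity make `μ_n` constant -/
theorem nonempty_mu_iso_const' {Y : Scheme.{u}} (f : Y ⟶ Spec (CommRingCat.of k)) {n : ℕ} (hn : (n : k) ≠ 0) :
    Nonempty (EtCoh.mu Y n ≅ EtCoh.const Y (ZMod n)) := by
  haveI : NeZero (n : k) := ⟨hn⟩
  haveI : NeZero n := ⟨fun h => hn (by simp [h])⟩
  obtain ⟨ζ, hζ⟩ := HasEnoughRootsOfUnity.exists_primitiveRoot k n
  let φ := ((Scheme.ΓSpecIso (CommRingCat.of k)).inv ≫ f.appTop).hom
  refine EtLC12.MuConst.nonempty_mu_iso_const (isUnit_natCast_Γ f hn) (φ ζ) ?_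
  have h := (Polynomial.isRoot_cyclotomic_iff).2 hζ
  rw [Polynomial.IsRoot, ← Polynomial.map_cyclotomic_int n k, Polynomial.eval_map] at h
  have h' := congrArg φ h
  rw [map_zero, Polynomial.hom_eval₂] at h'
  rw [Polynomial.aeval_def]
  rw [Subsingleton.elim (algebraMap ℤ Γ(Y, ⊤)) (φ.comp (Int.castRingHom k))]
  exact h'

section Curve

variable [X.Over (Spec (CommRingCat.of k))] [IsIntegral X] [IsProper (X ↘ Spec (CommRingCat.of k))]
  [Smooth (X ↘ Spec (CommRingCat.of k))] (hdim : topologicalKrullDim X = 1)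

include hdim in
/-- the torsion of `H¹(G_m)` and the quotients modulo integers -/
theorem gm_structure (n : ℕ) (hn : (n : k) ≠ 0) :
    Nonempty ((tor n : AddSubgroup (EtCoh.H X (EtCoh.Gm X) 1)) ≃+ (Fin (2 * Curv2.genus k X) → ZMod n)) ∧
    Nonempty ((EtCoh.H X (EtCoh.Gm X) 1 ⧸ (nsmulAddMonoidHom n : EtCoh.H X (EtCoh.Gm X) 1 →+ _).range) ≃+
      ZMod n) := by
  obtain ⟨A, _, _, hA1, hA2, hA3, hdimA, Θ, hinj, hmul, hinv, htor, D, hD, hD0, c₁, hc₁, hDc₁⟩ :=
    exists_abelian_torsion (k := k) X hdim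
  haveI := hA1; haveI := hA2; haveI := hA3
  letI : PicGrp.Law X := H23.PicMul.law X
  obtain ⟨E⟩ := EtGmH1.nonempty_addEquiv X
  have hn0 : n ≠ 0 := fun h => hn (by simp [h])
  let ψ : Additive (base k ⟶ A) →+ Additive (PicLoc.PicSet X) :=
    AddMonoidHom.mk' (G := Additive (PicLoc.PicSet X))
      (fun a : Additive (base k ⟶ A) =>
        (Additive.ofMul (⟨Θ a.toMul, hinv _⟩ : PicLoc.PicSet X) : Additive (PicLoc.PicSet X)))
      (fun a b => congrArg Additive.ofMul (Subtype.ext (hmul a.toMul b.toMul)))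
  have hψ : Function.Injective ψ := fun a b h => Additive.toMul.injective
    (hinj (congrArg (fun z : Additive (PicLoc.PicSet X) => z.toMul.1) h))
  have hpow : ∀ (c : PicLoc.PicSet X) (m : ℕ), (c ^ m).1 = c.1 ^ m := fun c m => by
    induction m with
    | zero => rw [pow_zero, pow_zero]; rfl
    | succ m ih => rw [pow_succ, pow_succ, ← ih]; rfl
  let Ψ : Additive (base k ⟶ A) →+ EtCoh.H X (EtCoh.Gm X) 1 := E.toAddMonoidHom.comp ψ
  have hsurj : ∀ q : EtCoh.H X (EtCoh.Gm X) 1, n • q = 0 → ∃ p, Ψ p = q := fun q hq => by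
    have h1 : n • E.symm q = 0 := by rw [← map_nsmul, hq, map_zero]
    obtain ⟨a, ha⟩ := htor n (E.symm q).toMul.1 hn0 (E.symm q).toMul.2
      ((hpow _ n).symm.trans (congrArg (fun z : Additive (PicLoc.PicSet X) => z.toMul.1) h1))
    refine ⟨Additive.ofMul a, ?_⟩
    show E (ψ (Additive.ofMul a)) = q
    rw [show ψ (Additive.ofMul a) = E.symm q from congrArg Additive.ofMul (Subtype.ext ha :
      (⟨Θ a, hinv a⟩ : PicLoc.PicSet X) = (E.symm q).toMul), AddEquiv.apply_symm_apply]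
  refine ⟨?_, ?_⟩
  · obtain ⟨e⟩ := AVTorsLib.nonempty_torsPts_equiv (A := A) hdimA n hn
    exact ⟨(torEquivOfInj Ψ (E.injective.comp hψ) n hsurj).symm.trans
      ((AVTorsLib.torAddEquiv A n).trans e.toAdditiveLeft)⟩
  · let D' : Additive (PicLoc.PicSet X) →+ ℤ :=
      AddMonoidHom.mk' (fun c => D c.toMul.1) (fun a b => hD _ _ a.toMul.2 b.toMul.2)
    let χ : EtCoh.H X (EtCoh.Gm X) 1 →+ ZMod n :=
      ((Int.castAddHom (ZMod n)).comp D').comp E.symm.toAddMonoidHom
    let c : Additive (PicLoc.PicSet X) := Additive.ofMul ⟨c₁, hc₁⟩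
    have hs : Function.Surjective χ := fun z => by
      obtain ⟨m, rfl⟩ := ZMod.intCast_surjective z
      refine ⟨E (m • c), ?_⟩
      show ((D' (E.symm (E (m • c))) : ℤ) : ZMod n) = m
      rw [AddEquiv.symm_apply_apply, map_zsmul]
      show ((m • D c₁ : ℤ) : ZMod n) = m
      rw [hDc₁, smul_eq_mul, mul_one]
    have hk : ∀ y, χ y = 0 ↔ ∃ z, n • z = y := by
      intro y
      constructor
      · intro hy
        obtain ⟨m, hm⟩ := (ZMod.intCast_zmod_eq_zero_iff_dvd _ n).1 (show ((D' (E.symm y) : ℤ) : ZMod n) = 0 from hy)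
        let r := E.symm y - n • (m • c)
        have hr : D' r = 0 := by
          rw [map_sub, map_nsmul, map_zsmul, hm]
          show (n : ℤ) * m - n • (m • D c₁) = 0
          rw [hDc₁]
          simp
        obtain ⟨a, ha⟩ := (hD0 r.toMul.1 r.toMul.2).1 hr
        obtain ⟨b, hb⟩ := AVTorsLib.divisible (A := A) n (Nat.pos_of_ne_zero hn0) (Additive.ofMul a)
        refine ⟨E (ψ b + m • c), ?_⟩
        show n • E (ψ b + m • c) = y
        rw [← map_nsmul, nsmul_add, ← map_nsmul ψ, hb,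
          show ψ (Additive.ofMul a) = r from congrArg Additive.ofMul (Subtype.ext ha :
            (⟨Θ a, hinv a⟩ : PicLoc.PicSet X) = r.toMul), sub_add_cancel, AddEquiv.apply_symm_apply]
      · rintro ⟨z, rfl⟩
        show χ (n • z) = 0
        rw [map_nsmul, nsmul_eq_mul, ZMod.natCast_self, zero_mul]
    exact ⟨quotEquiv χ n hs hk⟩


include hdim in
/-- `H¹(X, ℤ/n) = (ℤ/n)^{2g}` -/
theorem nonempty_H1_const (n : ℕ) (hn : (n : k) ≠ 0) :
    Nonempty (EtCoh.H X (EtCoh.const X (ZMod n)) 1 ≃+ (Fin (2 * Curv2.genus k X) → ZMod n)) := by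
  have hn0 : n ≠ 0 := fun h => hn (by simp [h])
  let f := X ↘ Spec (CommRingCat.of k)
  haveI : IsProper f := ‹_›
  obtain ⟨i⟩ := nonempty_mu_iso_const' f hn
  obtain ⟨e₁⟩ := nonempty_H1_mu (isUnit_natCast_Γ f hn) (divisible_H0 f hn0)
  obtain ⟨⟨e₂⟩, -⟩ := gm_structure hdim n hn
  exact ⟨(((Sheaf.functorH _ 1).mapIso i.symm).addCommGroupIsoToAddEquiv.trans e₁).trans e₂⟩

include hdim in
/-- `H²(X, ℤ/n) = ℤ/n` -/
theorem nonempty_H2_const (n : ℕ) (hn : (n : k) ≠ 0) :
    Nonempty (EtCoh.H X (EtCoh.const X (ZMod n)) 2 ≃+ ZMod n) := by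
  let f := X ↘ Spec (CommRingCat.of k)
  haveI : IsProper f := ‹_›
  haveI : QuasiCompact f := inferInstance
  haveI : LocallyOfFiniteType f := inferInstance
  obtain ⟨i⟩ := nonempty_mu_iso_const' f hn
  obtain ⟨δ, hs, hk⟩ := exists_boundary (isUnit_natCast_Γ f hn)
    (CurveCd.subsingleton_H_Gm_curve k X f hdim.le 2 le_rfl)
  obtain ⟨-, ⟨e₂⟩⟩ := gm_structure hdim n hn
  exact ⟨(((Sheaf.functorH _ 2).mapIso i.symm).addCommGroupIsoToAddEquiv.trans
    (quotEquiv δ n hs hk).symm).trans e₂⟩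

end Curve

end Groth.Agent.PicCurve

end
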