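import Groth.Agent.SepCurveTwist.Main
import Groth.Agent.Lib.CurveRR

/-!
# Twists by rational points when there are enough of them
-/

noncomputable section

set_option autoImplicit false
set_option linter.style.haveILetI false
set_option linter.unusedSectionVars false
set_option backward.isDefEq.respectTransparency false
set_option backward.isDefEq.respectTransparency.types false
set_option maxHeartbeats 1000000
set_option synthInstance.maxHeartbeats 400000
attribute [-instance] CategoryTheory.catToReflQuiver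

universe u

open CategoryTheory CategoryTheory.Limits AlgebraicGeometry TopologicalSpace Opposite
open Groth.Agent.PnCoh.Finite (mapLin)

namespace Groth.Agent.PicCurve

open Groth.Agent.CurveBundle Groth.Agent.CurveSlope Groth.Agent.CurvePoint Groth.Agent.SepCurveTwist

variable (k : Type u) [Field k] {X : Scheme.{u}} [X.Over (Spec (CommRingCat.of k))]
  [IsProper (X ↘ Spec (CommRingCat.of k))] [Smooth (X ↘ Spec (CommRingCat.of k))] [IsIntegral X]
  (hdim : topologicalKrullDim X = 1)

/-- the support of the cokernel of a section has at most as many points as the degree -/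
theorem card_support_cokernel_le (K : Type u) [Field K] {Y : Scheme.{u}} [Y.Over (Spec (CommRingCat.of K))]
    [IsIntegral Y] [IsProper (Y ↘ Spec (CommRingCat.of K))] (hdimY : topologicalKrullDim Y = 1)
    {M : Y.Modules} (hM : PicF.IsInvertible M) (φ : Coh.structureModule Y ⟶ M) (hφ : φ ≠ 0)
    (S : Finset Y) (hS : (S : Set Y) = CohB1.support (cokernel φ)) :
    (S.card : ℤ) ≤ Curv2.euler K Y M - Curv2.euler K Y (Coh.structureModule Y) := by
  haveI := CurveCohLib.isNoetherian_of_proper (k := K) (X := Y)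
  have hc := CurveDeg.isCoh_of_isInvertible hM
  obtain ⟨hm, -⟩ := CurveCohLib.Nonspecial.section_of_sub K hc hM (𝟙 M) φ hφ
  haveI := hm
  have hTc : Coh.IsCoh (cokernel φ) := QCoh.isCoh_cokernel QCoh.isQCoh_structureModule hc φ
  obtain ⟨-, hcl⟩ := finite_support_cokernel K hdimY hM φ hφ
  obtain ⟨h, hfin⟩ := CurveCohLib.euler_eq_sum_stalks (k := K) hTc hcl S hS.ge
  have hadd : Curv2.euler K Y M = Curv2.euler K Y (Coh.structureModule Y) + Curv2.euler K Y (cokernel φ) :=
    CurveBundle.euler_add' K _ _ _ (CurveSlope.shortExact_cokernel_of_mono φ)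
      QCoh.isCoh_structureModule' hc hTc
  rw [hadd, add_sub_cancel_left, h, Finset.card_eq_sum_ones, Nat.cast_sum]
  refine Finset.sum_le_sum fun y hy => ?_
  letI := CurveCohLib.stalkModuleK K (cokernel φ) y
  haveI := hfin y hy
  have hne : ¬ Subsingleton ((cokernel φ).presheaf.stalk y) := (hS ▸ hy : y ∈ CohB1.support (cokernel φ))
  haveI : Nontrivial ((cokernel φ).presheaf.stalk y) := not_subsingleton_iff_nontrivial.1 hne
  exact_mod_cast (Module.finrank_pos (R := K) (M := (cokernel φ).presheaf.stalk y))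

include hdim in
/-- a rational point has degree minus one -/
theorem deg_ptMod (x : X) (hx : IsClosed ({x} : Set X)) (hr : Function.Surjective (Curv2.resMap k X x)) :
    Curv2.deg k X (ptMod x hx) 1 = -1 := by
  haveI := CurveCohLib.isNoetherian_of_proper (k := k) (X := X)
  have h : Curv2.euler k X (Coh.structureModule X) = Curv2.euler k X (ptMod x hx) +
      Curv2.euler k X (ClSub.quotMod (ptIdeal x hx)) :=
    CurveBundle.euler_add' k _ _ _ (shortExact_pt x hx)
      (CurveDeg.isCoh_of_isInvertible (isInvertible_ptMod x hx k hdim)) QCoh.isCoh_structureModule' (isCoh_quot x hx k)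
  rw [euler_quot k x hx hr] at h
  unfold Curv2.deg
  push_cast
  omega

variable (K : Type u) [Field K] [Algebra k K] {Y : Scheme.{u}} [Y.Over (Spec (CommRingCat.of K))]
  (g : Y ⟶ X) (hpb : IsPullback g (Y ↘ Spec (CommRingCat.of K)) (X ↘ Spec (CommRingCat.of k))
      (Spec.map (CommRingCat.ofHom (algebraMap k K))))

include hdim hpb

/-- one rational point fewer -/
theorem exists_point_drop_of_card [IsIntegral Y] [IsProper (Y ↘ Spec (CommRingCat.of K))]
    (hdimY : topologicalKrullDim Y = 1) {M : Y.Modules} (hM : PicF.IsInvertible M)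
    (hsec : Nontrivial (Coh.HH Y M 0)) (S : Finset X)
    (hS : ∀ x ∈ S, IsClosed ({x} : Set X) ∧ Function.Surjective (Curv2.resMap k X x))
    (hcard : Curv2.euler K Y M - Curv2.euler K Y (Coh.structureModule Y) < (S.card : ℤ)) :
    ∃ I : X.Modules, PicF.IsInvertible I ∧
      Curv2.euler K Y ((DCoh.tensorBi.obj M).obj ((Scheme.Modules.pullback g).obj I)) =
        Curv2.euler K Y M - 1 ∧
      Module.finrank K (Coh.HH Y ((DCoh.tensorBi.obj M).obj ((Scheme.Modules.pullback g).obj I)) 0) <
        Module.finrank K (Coh.HH Y M 0) := by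
  classical
  haveI := CurveCohLib.isNoetherian_of_proper (k := K) (X := Y)
  haveI := CurveCohLib.isNoetherian_of_proper (k := k) (X := X)
  obtain ⟨t, ht⟩ := exists_ne (0 : Coh.HH Y M 0)
  obtain ⟨hfin, hcl⟩ := finite_support_cokernel K hdimY hM _ (CurveSpecial.homOfClass_ne_zero ht)
  obtain ⟨hgf, hgs⟩ := CurveBC.flat_surjective k K g hpb
  haveI := hgf
  haveI := hgs
  have hgen : g (genericPoint Y) = genericPoint X := by
    obtain ⟨y, hy⟩ := g.surjective (genericPoint X)
    have h1 : g (genericPoint Y) ⤳ genericPoint X :=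
      hy ▸ ((genericPoint_spec Y).specializes (Set.mem_univ y)).map g.continuous
    exact (h1.antisymm ((genericPoint_spec X).specializes (Set.mem_univ _))).eq
  have hηc : ¬ IsClosed ({genericPoint X} : Set X) := fun hc => by
    obtain ⟨S', hS2, -⟩ := CurveSection.exists_closed_finset k hdim 2
    have hall : ∀ z : X, z = genericPoint X := fun z =>
      ((genericPoint_spec X).specializes (Set.mem_univ z)).mem_closed hc (Set.mem_singleton _)
    have : S'.card ≤ 1 := Finset.card_le_one.2 fun a _ b _ => (hall a).trans (hall b).symm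
    omega
  have hle := card_support_cokernel_le K hdimY hM _ (CurveSpecial.homOfClass_ne_zero ht) hfin.toFinset
    hfin.coe_toFinset
  obtain ⟨x, hxS, hxT⟩ : ∃ x ∈ S, x ∉ hfin.toFinset.image g := by
    by_contra! hall
    have h1 := (Finset.card_le_card (show S ⊆ hfin.toFinset.image g from hall)).trans Finset.card_image_le
    omega
  obtain ⟨hx, hxr⟩ := hS x hxS
  have hxg : x ≠ genericPoint X := fun h => hηc (h ▸ hx)
  refine ⟨ptMod x hx, isInvertible_ptMod x hx k hdim, ?_⟩
  haveI := quasiSeparatedSpace_of_quasiSeparated (X ↘ Spec (CommRingCat.of k))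
  haveI := QuasiCompact.compactSpace_of_compactSpace (X ↘ Spec (CommRingCat.of k))
  haveI : (Scheme.Modules.pullback g).Additive :=
    Adjunction.left_adjoint_additive (Scheme.Modules.pullbackPushforwardAdjunction g)
  haveI := KFlatLib.preservesHomology_pullback g
  haveI := Functor.preservesFiniteLimits_of_preservesHomology (Scheme.Modules.pullback g)
  haveI := Functor.preservesFiniteColimits_of_preservesHomology (Scheme.Modules.pullback g)
  let Q := (Scheme.Modules.pullback g).obj (ClSub.quotMod (ptIdeal x hx))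
  have hQX := isCoh_quot x hx k
  have hsuppQ : CohB1.support Q ⊆ g ⁻¹' {x} := by
    rw [show CohB1.support Q = g ⁻¹' CohB1.support (ClSub.quotMod (ptIdeal x hx)) from
      QCoh.support_pullback g hQX.1 hQX.2]
    exact Set.preimage_mono (support_quot_subset x hx)
  have hclQ : ∀ y ∈ CohB1.support Q, IsClosed ({y} : Set Y) := fun y hy => by
    by_contra hyc
    obtain rfl := CurveCohLib.eq_genericPoint_of_not_isClosed hdimY hyc
    exact hxg ((hsuppQ hy : g (genericPoint Y) = x).symm.trans hgen)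
  have hQ : Coh.IsCoh Q := ZClosLib.isCoh_pullback g hQX
  have heQ : Curv2.euler K Y Q = 1 :=
    (CurveBC.euler_eq k K g hpb _ hQX.1).trans (euler_quot k x hx hxr)
  have hM1 := InvEnd.isFinLocFreeOfRank_one hM
  have hMf : FlatMod.IsFinLocFree M := CurveStable.isFinLocFree_of_rank hM1
  have hT1 := shortExact_of_iso_mid _ _ _
    ((shortExact_pt x hx).map_of_exact (Scheme.Modules.pullback g)) (CurveBC.unitIso g)
  have hT2 := shortExact_of_iso_mid _ _ _
    (CurveTensor.shortExact_tensor hMf _ _ _ hT1) (KFlatLib.tensorUnitIso M)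
  have hC := CurveTensor.isCoh_tensor hMf hQ
  have hMc := CurveDeg.isCoh_of_isInvertible hM
  have heC : Curv2.euler K Y ((DCoh.tensorBi.obj M).obj Q) = 1 := by
    rw [CurveTensor.euler_tensor_torsion K hM1 hQ hclQ, heQ]
    norm_num
  refine ⟨?_, finrank_lt K _ _ _ hT2 hMc (show Curv2.euler K Y ((DCoh.tensorBi.obj M).obj Q) ≠ 0 by omega) t
    fun y hy => not_not.1 fun hs => hxT (Finset.mem_image.2
      ⟨y, hfin.mem_toFinset.2 hs, hsuppQ (CurveTensor.support_tensor_subset hy)⟩)⟩
  have hI : Coh.IsCoh ((DCoh.tensorBi.obj M).obj ((Scheme.Modules.pullback g).obj (ptMod x hx))) :=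
    CurveTensor.isCoh_tensor hMf (CurveDeg.isCoh_of_isInvertible
      (PicClLib.isInvertible_pullback g (isInvertible_ptMod x hx k hdim)))
  have hadd : Curv2.euler K Y M =
      Curv2.euler K Y ((DCoh.tensorBi.obj M).obj ((Scheme.Modules.pullback g).obj (ptMod x hx))) +
        Curv2.euler K Y ((DCoh.tensorBi.obj M).obj Q) := euler_add' K _ _ _ hT2 hI hMc hC
  omega

/-- with more than twice the genus rational points every class has a good twist -/
theorem exists_twist_of_card [GeometricallyConnected (X ↘ Spec (CommRingCat.of k))] (S : Finset X)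
    (hS : ∀ x ∈ S, IsClosed ({x} : Set X) ∧ Function.Surjective (Curv2.resMap k X x))
    (hcard : 2 * Curv2.genus k X < S.card) {L : Y.Modules} (hL : PicF.IsInvertible L) :
    ∃ L₀ : X.Modules, PicF.IsInvertible L₀ ∧
      Module.finrank K (Coh.HH Y (CohB1.tensorMod L ((Scheme.Modules.pullback g).obj L₀)) 0) = 1 ∧
      Subsingleton (Coh.HH Y (CohB1.tensorMod L ((Scheme.Modules.pullback g).obj L₀)) 1) := by
  classical
  have h0 := CurveBC.finrank_h0_of_geometricallyConnected k X
  haveI := CurveBC.isProper k K g hpb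
  haveI := CurveBC.isIntegral k K g hpb h0
  have hdimY := CurveBC.topologicalKrullDim_eq k K g hpb hdim
  haveI := CurveCohLib.isNoetherian_of_proper (k := K) (X := Y)
  haveI := CurveCohLib.isNoetherian_of_proper (k := k) (X := X)
  haveI := quasiSeparatedSpace_of_quasiSeparated (X ↘ Spec (CommRingCat.of k))
  haveI := QuasiCompact.compactSpace_of_compactSpace (X ↘ Spec (CommRingCat.of k))
  let W : X.Modules → Y.Modules := fun L₀ => (DCoh.tensorBi.obj L).obj ((Scheme.Modules.pullback g).obj L₀)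
  have hW : ∀ L₀, PicF.IsInvertible L₀ → PicF.IsInvertible (W L₀) := fun L₀ h =>
    InvX.isInvertible_tensorMod hL (PicClLib.isInvertible_pullback g h)
  have hχ : ∀ L₀, PicF.IsInvertible L₀ → Curv2.euler K Y (W L₀) =
      (Module.finrank K (Coh.HH Y (W L₀) 0) : ℤ) - Module.finrank K (Coh.HH Y (W L₀) 1) := fun L₀ h =>
    CurveRR.euler_eq_h0_sub_h1 K hdimY.le (CurveDeg.isCoh_of_isInvertible (hW L₀ h)).1
  have hO : Curv2.euler K Y (Coh.structureModule Y) = 1 - (Curv2.genus k X : ℤ) := by
    rw [CurveRR.euler_eq_h0_sub_h1 K hdimY.le QCoh.isQCoh_structureModule, CurveBC.finrank_h0 k K g hpb h0,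
      CurveBC.finrank_hh_unit k K g hpb 1]
    rfl
  have hdeg : ∀ L₀, PicF.IsInvertible L₀ →
      Curv2.deg K Y (W L₀) 1 = Curv2.deg K Y L 1 + Curv2.deg k X L₀ 1 := fun L₀ hL₀ =>
    (CurveRR.deg_tensor K hdimY hL (PicClLib.isInvertible_pullback g hL₀)).trans
      (congrArg _ (CurveBC.deg_eq k K g hpb _ (CurveDeg.isCoh_of_isInvertible hL₀).1 1))
  -- modules of every degree
  have hany : ∀ d : ℤ, ∃ L₀ : X.Modules, PicF.IsInvertible L₀ ∧ Curv2.deg k X L₀ 1 = d := by
    intro d
    obtain ⟨L₀, hL₀, hd⟩ := CurveDuality.exists_deg_ge k hdim d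
    obtain ⟨x₀, hx₀⟩ := Finset.card_pos.1 (lt_of_le_of_lt (Nat.zero_le _) hcard)
    obtain ⟨hx, hxr⟩ := hS x₀ hx₀
    obtain ⟨m, hm⟩ : ∃ m : ℕ, Curv2.deg k X L₀ 1 = d + m := ⟨(Curv2.deg k X L₀ 1 - d).toNat, by omega⟩
    clear hd
    induction m generalizing L₀ with
    | zero => exact ⟨L₀, hL₀, by simpa using hm⟩
    | succ m ih =>
      refine ih (CohB1.tensorMod L₀ (ptMod x₀ hx)) (InvX.isInvertible_tensorMod hL₀ (isInvertible_ptMod x₀ hx k hdim)) ?_
      rw [show CohB1.tensorMod L₀ (ptMod x₀ hx) = (DCoh.tensorBi.obj L₀).obj (ptMod x₀ hx) from rfl,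
        CurveRR.deg_tensor k hdim hL₀ (isInvertible_ptMod x₀ hx k hdim), deg_ptMod k hdim x₀ hx hxr, hm]
      push_cast
      ring
  suffices key : ∀ n : ℕ, ∀ L₀, PicF.IsInvertible L₀ → Module.finrank K (Coh.HH Y (W L₀) 0) = n + 1 →
      Module.finrank K (Coh.HH Y (W L₀) 1) = 0 → Curv2.euler K Y (W L₀) ≤ (Curv2.genus k X : ℤ) + 1 →
      ∃ L₁, PicF.IsInvertible L₁ ∧ Module.finrank K (Coh.HH Y (W L₁) 0) = 1 ∧
        Module.finrank K (Coh.HH Y (W L₁) 1) = 0 by
    obtain ⟨L₀, hL₀, hd⟩ := hany ((Curv2.genus k X : ℤ) + 1 - Curv2.euler K Y L)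
    have hdeg' := hdeg L₀ hL₀
    unfold Curv2.deg at hdeg' hd
    push_cast at hdeg' hd
    have hgen : Curv2.genus K Y = Curv2.genus k X := CurveBC.genus_eq k K g hpb
    haveI := h1_of_genus_le K hdimY (hW L₀ hL₀) (by omega)
    have h1 : Module.finrank K (Coh.HH Y (W L₀) 1) = 0 := Module.finrank_zero_of_subsingleton
    obtain ⟨n, hn⟩ : ∃ n, Module.finrank K (Coh.HH Y (W L₀) 0) = n + 1 :=
      ⟨Module.finrank K (Coh.HH Y (W L₀) 0) - 1, by
        have := hχ L₀ hL₀
        omega⟩
    obtain ⟨L₁, hL₁, a, b⟩ := key n L₀ hL₀ hn h1 (by omega)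
    haveI : Module.Finite K (Coh.HH Y (W L₁) 1) :=
      CurveCohLib.finite_HH (k := K) (CurveDeg.isCoh_of_isInvertible (hW L₁ hL₁)) 1
    exact ⟨L₁, hL₁, a, (Module.finrank_zero_iff (R := K) (M := Coh.HH Y (W L₁) 1)).1 b⟩
  intro n
  induction n with
  | zero => exact fun L₀ h a b _ => ⟨L₀, h, a, b⟩
  | succ n ih =>
    intro L₀ h a b c
    obtain ⟨I, hI, he, hlt⟩ := exists_point_drop_of_card k hdim K g hpb hdimY (hW L₀ h)
      (Module.nontrivial_of_finrank_eq_succ a) S hS (by omega)
    have hI' := InvX.isInvertible_tensorMod h hI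
    obtain ⟨e₁⟩ := H23.PicMul.pull g L₀ I
    obtain ⟨e₂⟩ := H23.PicMul.assoc L ((Scheme.Modules.pullback g).obj L₀) ((Scheme.Modules.pullback g).obj I)
    let e : W (CohB1.tensorMod L₀ I) ≅
        (DCoh.tensorBi.obj (W L₀)).obj ((Scheme.Modules.pullback g).obj I) :=
      (DCoh.tensorBi.obj L).mapIso e₁ ≪≫ e₂.symm
    have f0 := (CurveCohLib.hhEquiv (k := K) e 0).finrank_eq
    have f1 := (CurveCohLib.hhEquiv (k := K) e 1).finrank_eq
    have fe := Euler.euler_congr K e
    have e0 := hχ L₀ h
    have e1 := hχ _ hI'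
    exact ih _ hI' (by omega) (by omega) (by omega)

end Groth.Agent.PicCurve

end
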