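import Groth.Agent.PicCurve.JacDescent
import Groth.Agent.PicCurve.PointsTwist
import Groth.Agent.Lib.CurveSection
import Groth.Agent.AVTorsLib.Count
import Groth.Agent.GrpSchLib.SepPoints

import Groth.Agent.S3239
import Groth.Agent.S7791

/-!
# Torsion classes on a curve and torsion points of its Jacobian
-/

noncomputable section

set_option autoImplicit false
set_option linter.style.haveILetI false
set_option linter.unusedSectionVars false
set_option backward.isDefEq.respectTransparency false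
set_option backward.isDefEq.respectTransparency.types false
set_option maxHeartbeats 1000000
set_option synthInstance.maxHeartbeats 400000
attribute [-instance] CategoryTheory.catToReflQuiver

universe u

open CategoryTheory CategoryTheory.Limits AlgebraicGeometry TopologicalSpace Opposite
  MonoidalCategory CartesianMonoidalCategory
open scoped MonObj
open Groth.Agent.H23.PicMul

namespace Groth.Agent.PicCurve

open AVTorsLib (base)

/-- an invertible class on a one point scheme is trivial -/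
theorem eq_one_of_subsingleton {Y : Scheme.{u}} [Subsingleton Y] [Nonempty Y] {n : PicF.Cl Y}
    (hn : PicF.IsInvertibleCl n) : n = 1 := by
  obtain ⟨V, hV, h⟩ := exists_open_trivial hn (Classical.arbitrary Y)
  obtain rfl : V = ⊤ := top_unique fun y _ => by rwa [Subsingleton.elim y (Classical.arbitrary Y)]
  haveI : IsIso (⊤ : Y.Opens).ι := inferInstanceAs (IsIso Y.topIso.hom)
  have h' := congrArg (PicF.pullCl (inv (⊤ : Y.Opens).ι)) h
  rwa [PicClLib.pullCl_comp, IsIso.inv_hom_id, PicClLib.pullCl_id, pullCl_one] at h'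

/-- pullback of classes along an isomorphism -/
def pullEquiv {Y Z : Scheme.{u}} (e : Y ⟶ Z) [IsIso e] : PicF.Cl Z ≃ PicF.Cl Y where
  toFun := PicF.pullCl e
  invFun := PicF.pullCl (inv e)
  left_inv c := by rw [PicClLib.pullCl_comp, IsIso.inv_hom_id, PicClLib.pullCl_id]
  right_inv c := by rw [PicClLib.pullCl_comp, IsIso.hom_inv_id, PicClLib.pullCl_id]

variable {k : Type u} [Field k] {X : Scheme.{u}} (f : X ⟶ Spec (CommRingCat.of k))
  [IsProper f] [Smooth f] [SmoothOfRelativeDimension 1 f] [GeometricallyIntegral f]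
  (hdim : topologicalKrullDim X = 1)
  (σ : Spec (CommRingCat.of k) ⟶ X) (hσ : σ ≫ f = 𝟙 _)

/-- the degree of a class on the curve -/
def degX (c : PicF.Cl X) : ℤ :=
  degCl f (PicF.pullCl (pullback.fst f (𝟙 (Spec (CommRingCat.of k))) : PicF.XT f (base k) ⟶ X) c)
    (show (base k).left from IsLocalRing.closedPoint k)

include hdim in
theorem degX_mul {a b : PicF.Cl X} (ha : PicF.IsInvertibleCl a) (hb : PicF.IsInvertibleCl b) :
    degX f (a * b) = degX f a + degX f b := by
  rw [degX, pullCl_mul]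
  exact degCl_mul f hdim (FppfPic.isInvertibleCl_pull _ ha) (FppfPic.isInvertibleCl_pull _ hb) _

theorem degX_one : degX f (1 : PicF.Cl X) = 0 := by
  rw [degX, pullCl_one]
  exact degCl_one f _

include hdim in
theorem degX_pow {a : PicF.Cl X} (ha : PicF.IsInvertibleCl a) (n : ℕ) : degX f (a ^ n) = n * degX f a := by
  induction n with
  | zero => rw [pow_zero, degX_one]; simp
  | succ n ih =>
    have hi : PicF.IsInvertibleCl (a ^ n) := by
      obtain ⟨L, hL, hLi⟩ := ha
      exact ⟨_, (cl_tensorPow L n).trans (congrArg (· ^ n) hL), isInvertible_tensorPow hLi n⟩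
    rw [pow_succ, degX_mul f hdim hi ha, ih]
    push_cast
    ring

section Jac

variable {J : Over (Spec (CommRingCat.of k))} (ξ : PicF.Rig f σ hσ J) (hξ : FGA.HasFibreDegreeZeroCl f J ξ.1)
  (huniv : ∀ (T : Over (Spec (CommRingCat.of k))) (c : PicF.Rig f σ hσ T), FGA.HasFibreDegreeZeroCl f T c.1 →
    ∃! g : T ⟶ J, PicF.pullCl (PicF.XTmap f g) ξ.1 = c.1)

theorem jac_pull_pow {T : Over (Spec (CommRingCat.of k))} (a : T ⟶ J) (n : ℕ) :
    letI := jacGrpObj f hdim σ hσ ξ hξ huniv
    PicF.pullCl (PicF.XTmap f (a ^ n)) ξ.1 = PicF.pullCl (PicF.XTmap f a) ξ.1 ^ n := by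
  letI := jacGrpObj f hdim σ hσ ξ hξ huniv
  induction n with
  | zero =>
    have h := jac_pull_mul f hdim σ hσ ξ hξ huniv (1 : T ⟶ J) 1
    rw [one_mul] at h
    have hu : IsUnit (PicF.pullCl (PicF.XTmap f (1 : T ⟶ J)) ξ.1) :=
      isUnit_of_isInvertibleCl (FppfPic.isInvertibleCl_pull _ ξ.2.1)
    rw [pow_zero, pow_zero]
    exact hu.mul_eq_right.1 h.symm
  | succ n ih => rw [pow_succ, pow_succ, jac_pull_mul f hdim σ hσ ξ hξ huniv, ih]

include hdim in
/-- points of the Jacobian map injectively and multiplicatively to invertible classes of the curve,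
onto a set containing all torsion classes -/
theorem exists_pointsCl :
    letI := jacGrpObj f hdim σ hσ ξ hξ huniv
    ∃ Θ : (base k ⟶ J) → PicF.Cl X, Function.Injective Θ ∧ (∀ a b, Θ (a * b) = Θ a * Θ b) ∧
      (∀ a, PicF.IsInvertibleCl (Θ a)) ∧
      (∀ a, degX f (Θ a) = 0) ∧
      ∀ c : PicF.Cl X, PicF.IsInvertibleCl c → degX f c = 0 → ∃ a, Θ a = c := by
  letI := jacGrpObj f hdim σ hσ ξ hξ huniv
  haveI : Subsingleton (Spec (CommRingCat.of k)) := inferInstanceAs (Subsingleton (PrimeSpectrum k))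
  haveI : Nonempty (Spec (CommRingCat.of k)) := inferInstanceAs (Nonempty (PrimeSpectrum k))
  haveI : Subsingleton (base k).left := inferInstanceAs (Subsingleton (Spec (CommRingCat.of k)))
  haveI : Nonempty (base k).left := inferInstanceAs (Nonempty (Spec (CommRingCat.of k)))
  let e : PicF.XT f (base k) ⟶ X := pullback.fst f (𝟙 _)
  haveI : IsIso e := inferInstanceAs (IsIso (pullback.fst f (𝟙 _)))
  let Φ : (base k ⟶ J) ≃ Rig0 f σ hσ (base k) := rig0Equiv f σ hσ ξ hξ huniv (base k)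
  refine ⟨fun a => PicF.pullCl (inv e) (PicF.pullCl (PicF.XTmap f a) ξ.1), fun a b h => ?_, fun a b => ?_,
    fun a => FppfPic.isInvertibleCl_pull _ (FppfPic.isInvertibleCl_pull _ ξ.2.1), fun a => ?_, fun c hc hc0 => ?_⟩
  · exact Φ.injective (Subtype.ext (Subtype.ext ((pullEquiv (inv e)).injective h)))
  · show PicF.pullCl (inv e) _ = _
    rw [jac_pull_mul f hdim σ hσ ξ hξ huniv, pullCl_mul]
  · show degCl f (PicF.pullCl e (PicF.pullCl (inv e) (PicF.pullCl (PicF.XTmap f a) ξ.1))) _ = 0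
    rw [PicClLib.pullCl_comp, IsIso.hom_inv_id, PicClLib.pullCl_id]
    exact (deg0At_iff f _ _).1 ((hasFibreDegreeZeroCl_iff f _).1 (Φ a).2 _)
  · let a := PicF.pullCl e c
    have ha : PicF.IsInvertibleCl a := FppfPic.isInvertibleCl_pull _ hc
    obtain ⟨g, hg⟩ := Φ.surjective ⟨⟨a, ha, eq_one_of_subsingleton (FppfPic.isInvertibleCl_pull _ ha)⟩,
      (hasFibreDegreeZeroCl_iff f _).2 fun t => (deg0At_iff f _ _).2
        ((congrArg (degCl f a) (Subsingleton.elim t _)).trans hc0)⟩
    refine ⟨g, ?_⟩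
    show PicF.pullCl (inv e) (PicF.pullCl (PicF.XTmap f g) ξ.1) = c
    rw [show PicF.pullCl (PicF.XTmap f g) ξ.1 = a from congrArg (fun z : Rig0 f σ hσ _ => z.1.1) hg,
      PicClLib.pullCl_comp, IsIso.inv_hom_id, PicClLib.pullCl_id]

end Jac

theorem pointsCl_pow {J : Over (Spec (CommRingCat.of k))} [GrpObj J] {Θ : (base k ⟶ J) → PicF.Cl X}
    (hmul : ∀ a b, Θ (a * b) = Θ a * Θ b) (hinv : ∀ a, PicF.IsInvertibleCl (Θ a)) (a : base k ⟶ J) (n : ℕ) :
    Θ (a ^ n) = Θ a ^ n := by
  induction n with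
  | zero =>
    have h := hmul (1 : base k ⟶ J) 1
    rw [one_mul] at h
    rw [pow_zero, pow_zero]
    exact (isUnit_of_isInvertibleCl (hinv 1)).mul_eq_right.1 h.symm
  | succ n ih => rw [pow_succ, pow_succ, hmul, ih]

/-- the set of classes in the frozen statements -/
theorem setOf_tensorPow_eq (Y : Scheme.{u}) (n : ℕ) :
    {c : PicF.Cl Y | ∃ M : Scheme.Modules Y, PicF.cl M = c ∧ PicF.IsInvertible M ∧
      Nonempty (CohB1.tensorPow M n ≅ Coh.structureModule Y)} = {c | PicF.IsInvertibleCl c ∧ c ^ n = 1} := by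
  ext c
  constructor
  · rintro ⟨M, rfl, hM, he⟩
    exact ⟨⟨M, rfl, hM⟩, (cl_tensorPow M n).symm.trans (cl_eq_iff.2 he)⟩
  · rintro ⟨⟨M, rfl, hM⟩, hc⟩
    exact ⟨M, rfl, hM, cl_eq_iff.1 ((cl_tensorPow M n).trans hc)⟩

/-- the degree on the curve is the Euler characteristic degree -/
theorem degX_cl {k : Type u} [Field k] {X : Scheme.{u}} [X.Over (Spec (CommRingCat.of k))]
    [IsProper (X ↘ Spec (CommRingCat.of k))] [IsIntegral X] (hdim : topologicalKrullDim X ≤ 1) {L : X.Modules}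
    (hL : PicF.IsInvertible L) :
    degX (X ↘ Spec (CommRingCat.of k)) (PicF.cl L) = Curv2.deg k X L 1 := by
  let f := X ↘ Spec (CommRingCat.of k)
  haveI : IsProper f := ‹_›
  let e : PicF.XT f (base k) ⟶ X := pullback.fst f (𝟙 _)
  have h : IsPullback e (PicF.XTproj f (base k)) f (𝟙 _) := IsPullback.of_hasPullback f (𝟙 _)
  have hc : ∀ M : X.Modules, Coh.IsQCoh M → ∀ t : (base k).left,
      chiCl f (PicF.pullCl e (PicF.cl M)) t = Curv2.euler k X M := fun M hM t =>
    (chiCl_cl f _ t).trans ((chiAt_bc f h hM t).trans (chiAt_field hdim hM _))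
  have h1 := hc _ (PnCoh.isQCoh_structureModule X) (IsLocalRing.closedPoint k)
  rw [← H23.PicMul.one_def, pullCl_one] at h1
  show degCl f (PicF.pullCl e (PicF.cl L)) _ = _
  rw [degCl, h1, hc L (isQCoh_inv hL)]
  simp [Curv2.deg]

/-- over an algebraically closed field torsion classes are the torsion of an abelian variety of dimension the genus -/
theorem exists_abelian_torsion {k : Type u} [Field k] [IsAlgClosed k] (X : Scheme.{u})
    [X.Over (Spec (CommRingCat.of k))] [IsIntegral X] [IsProper (X ↘ Spec (CommRingCat.of k))]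
    [Smooth (X ↘ Spec (CommRingCat.of k))] (hdim : topologicalKrullDim X = 1) :
    ∃ (A : Over (Spec (CommRingCat.of k))) (_ : GrpObj A) (_ : IsCommMonObj A),
      IsProper A.hom ∧ GeometricallyIntegral A.hom ∧ Smooth A.hom ∧
      topologicalKrullDim A.left = (Curv2.genus k X : ℕ) ∧
      ∃ Θ : (base k ⟶ A) → PicF.Cl X, Function.Injective Θ ∧ (∀ a b, Θ (a * b) = Θ a * Θ b) ∧
        (∀ a, PicF.IsInvertibleCl (Θ a)) ∧
        (∀ (n : ℕ) (c : PicF.Cl X), n ≠ 0 → PicF.IsInvertibleCl c → c ^ n = 1 → ∃ a, Θ a = c) ∧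
        ∃ D : PicF.Cl X → ℤ,
          (∀ a b, PicF.IsInvertibleCl a → PicF.IsInvertibleCl b → D (a * b) = D a + D b) ∧
          (∀ c, PicF.IsInvertibleCl c → (D c = 0 ↔ ∃ a, Θ a = c)) ∧
          ∃ c, PicF.IsInvertibleCl c ∧ D c = 1 := by
  let f := X ↘ Spec (CommRingCat.of k)
  haveI : IsProper f := ‹_›
  haveI : Smooth f := ‹_›
  obtain ⟨σ, hσ, -⟩ := GrpSchLib.exists_point_of_smooth f ⊤ (x := Classical.arbitrary X) trivial
  haveI : Subsingleton (Spec (CommRingCat.of k)) := inferInstanceAs (Subsingleton (PrimeSpectrum k))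
  haveI : Nonempty (Spec (CommRingCat.of k)) := inferInstanceAs (Nonempty (PrimeSpectrum k))
  haveI : ConnectedSpace (Spec (CommRingCat.of k)) := inferInstance
  haveI : GeometricallyIntegral f := S7791.result f σ hσ
  haveI : SmoothOfRelativeDimension 1 f := HilbCurve.smoothOfRelativeDimension_one f hdim
  obtain ⟨J, ξ, hpr, hsm, hgi, hξ, huniv⟩ := exists_jacobian_field f hdim σ hσ
  haveI := hpr
  haveI := hsm
  haveI := hgi
  haveI : IrreducibleSpace J.left := GeometricallyIrreducible.irreducibleSpace_of_subsingleton J.hom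
  letI := jacGrpObj f hdim σ hσ ξ hξ huniv
  haveI : GeometricallyIntegral J.hom := S7791.result J.hom η[J].left (Over.w η[J])
  refine ⟨J, jacGrpObj f hdim σ hσ ξ hξ huniv, jac_isCommMonObj f hdim σ hσ ξ hξ huniv, hpr, inferInstance, hsm,
    ?_, ?_⟩
  · exact S3239.result k X f hdim σ hσ rfl J ξ hξ huniv
  obtain ⟨Θ, h1, h2, h3, h4, h5⟩ := exists_pointsCl f hdim σ hσ ξ hξ huniv
  refine ⟨Θ, h1, h2, h3, fun n c hn hc hcn => h5 c hc ?_, degX f, fun a b => degX_mul f hdim,
    fun c hc => ⟨h5 c hc, fun ⟨a, ha⟩ => ha ▸ h4 a⟩, ?_⟩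
  · have h := degX_pow f hdim hc n
    rw [hcn, degX_one] at h
    rcases mul_eq_zero.1 h.symm with h' | h'
    · exact absurd (Int.ofNat_eq_zero.1 h') hn
    · exact h'
  · obtain ⟨S, hS, hcl⟩ := CurveSection.exists_closed_finset k hdim 1
    obtain ⟨x, hx⟩ := Finset.card_pos.1 (by omega : 0 < S.card)
    have hI := CurvePoint.isInvertible_ptMod x (hcl x hx) k hdim
    have hc : PicF.IsInvertibleCl (PicF.cl (CurvePoint.ptMod x (hcl x hx))) := ⟨_, rfl, hI⟩
    refine ⟨invCl hc, isInvertibleCl_invCl hc, ?_⟩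
    have h := degX_mul f hdim hc (isInvertibleCl_invCl hc)
    have hd : degX f (PicF.cl (CurvePoint.ptMod x (hcl x hx))) = -1 := (degX_cl hdim.le hI).trans
      (deg_ptMod k hdim x (hcl x hx) (CurveSection.surjective_resMap k (hcl x hx)))
    rw [mul_invCl, degX_one, hd] at h
    omega

/-- torsion points and torsion classes are equinumerous -/
theorem natCard_torsion {k : Type u} [Field k] {X : Scheme.{u}} {A : Over (Spec (CommRingCat.of k))} [GrpObj A]
    [IsCommMonObj A] {Θ : (base k ⟶ A) → PicF.Cl X} (hinj : Function.Injective Θ)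
    (hmul : ∀ a b, Θ (a * b) = Θ a * Θ b) (hinv : ∀ a, PicF.IsInvertibleCl (Θ a))
    (hsurj : ∀ (n : ℕ) (c : PicF.Cl X), n ≠ 0 → PicF.IsInvertibleCl c → c ^ n = 1 → ∃ a, Θ a = c)
    {n : ℕ} (hn : n ≠ 0) :
    Nat.card (AbDual.torsPts A n (base k)) = Nat.card {c : PicF.Cl X | ∃ M : Scheme.Modules X, PicF.cl M = c ∧
      PicF.IsInvertible M ∧ Nonempty (CohB1.tensorPow M n ≅ Coh.structureModule X)} := by
  rw [setOf_tensorPow_eq]
  have h1 : Θ 1 = 1 := by simpa using pointsCl_pow hmul hinv (1 : base k ⟶ A) 0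
  refine Nat.card_congr (Equiv.ofBijective (fun a => ⟨Θ a.1, hinv a.1, ?_⟩) ⟨fun a b h => ?_, fun c => ?_⟩)
  · rw [← pointsCl_pow hmul hinv, (AbDual.mem_torsPts A a.1).1 a.2, h1]
  · exact Subtype.ext (hinj (congrArg Subtype.val h))
  · obtain ⟨a, ha⟩ := hsurj n c.1 hn c.2.1 c.2.2
    refine ⟨⟨a, (AbDual.mem_torsPts A a).2 (hinj ?_)⟩, Subtype.ext ha⟩
    rw [pointsCl_pow hmul hinv, ha, c.2.2, h1]

end Groth.Agent.PicCurve

end
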