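import Groth.Agent.PicCurve.Rigify
import Mathlib.CategoryTheory.Monoidal.Cartesian.CommGrp_
import Mathlib.CategoryTheory.Monoidal.Cartesian.Over
import Mathlib.Algebra.Category.Grp.Basic

/-!
# A representing scheme of the rigidified Picard functor is a commutative group
-/

noncomputable section

set_option autoImplicit false
set_option linter.style.haveILetI false
set_option linter.unusedSectionVars false
set_option backward.isDefEq.respectTransparency false
set_option backward.isDefEq.respectTransparency.types false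
set_option maxHeartbeats 1000000
set_option synthInstance.maxHeartbeats 400000
attribute [-instance] CategoryTheory.catToReflQuiver

universe u

open CategoryTheory CategoryTheory.Limits AlgebraicGeometry TopologicalSpace Opposite
  MonoidalCategory CartesianMonoidalCategory
open scoped MonObj
open Groth.Agent.H23.PicMul

namespace Groth.Agent.PicCurve

variable {X S : Scheme.{u}} (f : X ⟶ S) (σ : S ⟶ X) (hσ : σ ≫ f = 𝟙 S)

/-- the product of rigidified classes -/
def rigMul {T : Over S} (c d : PicF.Rig f σ hσ T) : PicF.Rig f σ hσ T :=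
  ⟨c.1 * d.1, isInvertibleCl_mul c.2.1 d.2.1, by
    show PicF.pullCl _ (c.1 * d.1) = 1
    rw [pullCl_mul, show PicF.pullCl (PicF.secT f σ hσ T) c.1 = 1 from c.2.2,
      show PicF.pullCl (PicF.secT f σ hσ T) d.1 = 1 from d.2.2, _root_.one_mul]⟩

/-- the trivial rigidified class -/
def rigOne (T : Over S) : PicF.Rig f σ hσ T :=
  ⟨1, ⟨_, rfl, PicLoc.isInvertible_structureModule _⟩, pullCl_one _⟩

/-- the inverse rigidified class -/
def rigInv {T : Over S} (c : PicF.Rig f σ hσ T) : PicF.Rig f σ hσ T :=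
  ⟨invCl c.2.1, isInvertibleCl_invCl _, by
    show PicF.pullCl _ (invCl c.2.1) = 1
    rw [pull_invCl]
    exact (eq_invCl _ (by rw [show PicF.pullCl (PicF.secT f σ hσ T) c.1 = 1 from c.2.2, _root_.one_mul])).symm⟩

/-- rigidified classes form a group -/
@[instance_reducible]
def rigGroup (T : Over S) : CommGroup (PicF.Rig f σ hσ T) where
  mul := rigMul f σ hσ
  one := rigOne f σ hσ T
  inv := rigInv f σ hσ
  mul_assoc a b c := Subtype.ext (_root_.mul_assoc a.1 b.1 c.1)
  mul_comm a b := Subtype.ext (_root_.mul_comm a.1 b.1)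
  one_mul a := Subtype.ext (_root_.one_mul a.1)
  mul_one a := Subtype.ext (_root_.mul_one a.1)
  inv_mul_cancel a := Subtype.ext (invCl_mul a.2.1)

theorem rigPull_mul {T T' : Over S} (g : T' ⟶ T) (c d : PicF.Rig f σ hσ T) :
    rigPull f σ hσ g (rigMul f σ hσ c d) = rigMul f σ hσ (rigPull f σ hσ g c) (rigPull f σ hσ g d) :=
  Subtype.ext (pullCl_mul _ _ _)

theorem rigPull_one {T T' : Over S} (g : T' ⟶ T) :
    rigPull f σ hσ g (rigOne f σ hσ T) = rigOne f σ hσ T' :=
  Subtype.ext (pullCl_one _)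

/-- the functor of rigidified classes -/
def rigFunctor : (Over S)ᵒᵖ ⥤ CommGrpCat.{u + 1} where
  obj T := letI := rigGroup f σ hσ T.unop; CommGrpCat.of (PicF.Rig f σ hσ T.unop)
  map {T T'} a :=
    letI := rigGroup f σ hσ T.unop
    letI := rigGroup f σ hσ T'.unop
    CommGrpCat.ofHom
      ({ toFun := rigPull f σ hσ a.unop
         map_one' := rigPull_one f σ hσ a.unop
         map_mul' := rigPull_mul f σ hσ a.unop } : PicF.Rig f σ hσ T.unop →* PicF.Rig f σ hσ T'.unop)
  map_id T := by
    letI := rigGroup f σ hσ T.unop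
    refine CommGrpCat.hom_ext ?_
    ext c
    exact rigPull_id f σ hσ c
  map_comp {T T' T''} a b := by
    letI := rigGroup f σ hσ T.unop
    letI := rigGroup f σ hσ T'.unop
    letI := rigGroup f σ hσ T''.unop
    refine CommGrpCat.hom_ext ?_
    ext c
    exact (rigPull_comp f σ hσ b.unop a.unop c).symm

variable {P : Over S} (ξ : PicF.Rig f σ hσ P)
  (hP : ∀ (T : Over S) (c : PicF.Rig f σ hσ T), ∃! g : T ⟶ P, PicF.pullCl (PicF.XTmap f g) ξ.1 = c.1)

include hP

/-- morphisms to the representing scheme are rigidified classes -/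
def rigEquiv (T : Over S) : (T ⟶ P) ≃ PicF.Rig f σ hσ T :=
  Equiv.ofBijective (fun g => rigPull f σ hσ g ξ)
    ⟨fun g g' h => (hP T (rigPull f σ hσ g' ξ)).unique (congrArg Subtype.val h) rfl,
      fun c => ⟨(hP T c).choose, Subtype.ext (hP T c).choose_spec.1⟩⟩

/-- the representing scheme represents the functor of groups -/
def rigRepBy : (rigFunctor f σ hσ ⋙ forget _).RepresentableBy P where
  homEquiv {T} := rigEquiv f σ hσ ξ hP T
  homEquiv_comp a b := (rigPull_comp f σ hσ a b ξ).symm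

/-- the group structure on the representing scheme -/
@[instance_reducible]
def grpObj : GrpObj P :=
  GrpObj.ofRepresentableBy P (rigFunctor f σ hσ ⋙ forget₂ CommGrpCat GrpCat) (rigRepBy f σ hσ ξ hP)

theorem isCommMonObj :
    letI := grpObj f σ hσ ξ hP
    IsCommMonObj P :=
  IsCommMonObj.ofRepresentableBy P (rigFunctor f σ hσ ⋙ forget₂ CommGrpCat CommMonCat) (rigRepBy f σ hσ ξ hP)

theorem pull_mul {T : Over S} (a b : T ⟶ P) :
    letI := grpObj f σ hσ ξ hP
    PicF.pullCl (PicF.XTmap f (a * b)) ξ.1 =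
      PicF.pullCl (PicF.XTmap f a) ξ.1 * PicF.pullCl (PicF.XTmap f b) ξ.1 := by
  letI := grpObj f σ hσ ξ hP
  let E := rigEquiv f σ hσ ξ hP
  have h1 : ∀ (T' : Over S) (g : T' ⟶ T) (c : PicF.Rig f σ hσ T), g ≫ (E T).symm c = (E T').symm (rigPull f σ hσ g c) := by
    intro T' g c
    apply (E T').injective
    rw [Equiv.apply_symm_apply]
    show rigPull f σ hσ (g ≫ (E T).symm c) ξ = _
    rw [← rigPull_comp]
    exact congrArg (rigPull f σ hσ g) ((E T).apply_symm_apply c)
  have hμ : E (P ⊗ P) MonObj.mul = rigMul f σ hσ (E _ (fst P P)) (E _ (snd P P)) :=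
    (E (P ⊗ P)).apply_symm_apply _
  have hm : rigPull f σ hσ (a * b) ξ = rigMul f σ hσ (rigPull f σ hσ a ξ) (rigPull f σ hσ b ξ) := by
    rw [Hom.mul_def, ← rigPull_comp]
    refine (congrArg (rigPull f σ hσ (lift a b)) hμ).trans ?_
    rw [rigPull_mul]
    show rigMul f σ hσ (rigPull f σ hσ _ (rigPull f σ hσ _ ξ)) (rigPull f σ hσ _ (rigPull f σ hσ _ ξ)) = _
    rw [rigPull_comp, rigPull_comp, lift_fst, lift_snd]
  exact congrArg Subtype.val hm

theorem pull_one (T : Over S) :
    letI := grpObj f σ hσ ξ hP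
    PicF.pullCl (PicF.XTmap f (1 : T ⟶ P)) ξ.1 = 1 := by
  letI := grpObj f σ hσ ξ hP
  have h := pull_mul f σ hσ ξ hP (1 : T ⟶ P) 1
  rw [_root_.one_mul] at h
  exact (isUnit_of_isInvertibleCl (FppfPic.isInvertibleCl_pull (PicF.XTmap f (1 : T ⟶ P)) ξ.2.1)).mul_eq_left.1 h.symm

theorem pull_inv {T : Over S} (a : T ⟶ P) :
    letI := grpObj f σ hσ ξ hP
    PicF.pullCl (PicF.XTmap f a⁻¹) ξ.1 = invCl (FppfPic.isInvertibleCl_pull (PicF.XTmap f a) ξ.2.1) := by
  letI := grpObj f σ hσ ξ hP
  refine eq_invCl _ ?_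
  rw [← pull_mul f σ hσ ξ hP, mul_inv_cancel, pull_one]

end Groth.Agent.PicCurve

end
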