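import Groth.Prelude.Def_Desc
import Mathlib.AlgebraicGeometry.Sites.Fpqc

/-!
# A presheaf which is representable over a covering is representable

If `F` is separated and has descent for the covering `T ×_S X → T` of every `T`, is classified over `X` by a scheme
`V`, and the descent data on `V` are effective, then the descended scheme classifies `F` over `S`.
-/

noncomputable section

set_option autoImplicit false
set_option linter.style.haveILetI false
set_option linter.unusedSectionVars false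
set_option backward.isDefEq.respectTransparency false
set_option backward.isDefEq.respectTransparency.types false

universe w u

open CategoryTheory CategoryTheory.Limits AlgebraicGeometry Opposite Desc

namespace Groth.Agent.RepDescent

variable {X S : Scheme.{u}} {p : X ⟶ S} (F : (Over S)ᵒᵖ ⥤ Type w)

/-- a scheme over the covering, over the base -/
abbrev below (p : X ⟶ S) (V : Over X) : Over S := Over.mk (V.hom ≫ p)

/-- the covering of a test scheme -/
abbrev cov (p : X ⟶ S) (T : Over S) : Over S := Over.mk (pullback.snd p T.hom ≫ T.hom)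

/-- the covering map -/
abbrev covMap (p : X ⟶ S) (T : Over S) : cov p T ⟶ T := Over.homMk (pullback.snd p T.hom) rfl

/-- `(V, υ)` classifies `F` over the covering -/
def IsUnivOn (V : Over X) (υ : F.obj (op (below p V))) : Prop :=
  ∀ (T : Over S) (x : T.left ⟶ X), x ≫ p = T.hom → ∀ c : F.obj (op T),
    ∃! v : T ⟶ below p V, v.left ≫ V.hom = x ∧ F.map v.op υ = c

/-- descent for sections of `F` along the coverings -/
def HasDescent (p : X ⟶ S) : Prop :=
  ∀ T : Over S, Function.Injective (F.map (covMap p T).op) ∧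
    ∀ c' : F.obj (op (cov p T)),
      (∀ (R : Over S) (a b : R ⟶ cov p T), a ≫ covMap p T = b ≫ covMap p T → F.map a.op c' = F.map b.op c') →
      ∃ c : F.obj (op T), F.map (covMap p T).op c = c'

variable {F} {V : Over X} {υ : F.obj (op (below p V))} (hV : IsUnivOn F V υ)

/-- a point of the member as a morphism over the base -/
abbrev pO {T : Scheme.{u}} {x : T ⟶ X} (v : Lifts V x) (s : T ⟶ S) (h : x ≫ p = s) : Over.mk s ⟶ below p V :=
  Over.homMk v.1 (by show v.1 ≫ V.hom ≫ p = s; rw [← Category.assoc, v.2, h])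

/-- the point over `x₁` classifying the same section as a point over `x₀` -/
def transport ⦃T : Scheme.{u}⦄ (x₀ x₁ : T ⟶ X) (h : x₀ ≫ p = x₁ ≫ p) (v : Lifts V x₀) : Lifts V x₁ :=
  ⟨(hV (Over.mk (x₁ ≫ p)) x₁ rfl (F.map (pO v (x₁ ≫ p) h).op υ)).choose.left,
    (hV (Over.mk (x₁ ≫ p)) x₁ rfl (F.map (pO v (x₁ ≫ p) h).op υ)).choose_spec.1.1⟩

theorem transport_class ⦃T : Scheme.{u}⦄ (x₀ x₁ : T ⟶ X) (s : T ⟶ S) (h₀ : x₀ ≫ p = s) (h₁ : x₁ ≫ p = s)
    (v : Lifts V x₀) :
    F.map (pO (transport hV x₀ x₁ (h₀.trans h₁.symm) v) s h₁).op υ = F.map (pO v s h₀).op υ := by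
  subst h₁
  exact (hV (Over.mk (x₁ ≫ p)) x₁ rfl (F.map (pO v (x₁ ≫ p) h₀).op υ)).choose_spec.1.2

theorem transport_eq ⦃T : Scheme.{u}⦄ (x₀ x₁ : T ⟶ X) (s : T ⟶ S) (h₀ : x₀ ≫ p = s) (h₁ : x₁ ≫ p = s)
    (v : Lifts V x₀) (w : Lifts V x₁) (e : F.map (pO w s h₁).op υ = F.map (pO v s h₀).op υ) :
    transport hV x₀ x₁ (h₀.trans h₁.symm) v = w := by
  subst h₁
  exact Subtype.ext (congrArg (fun m : Over.mk (x₁ ≫ p) ⟶ below p V => m.left)
    ((hV (Over.mk (x₁ ≫ p)) x₁ rfl (F.map (pO v (x₁ ≫ p) h₀).op υ)).choose_spec.2 (pO w _ rfl) ⟨w.2, e⟩).symm)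

theorem transport_transport ⦃T : Scheme.{u}⦄ (x₀ x₁ x₂ : T ⟶ X) (h₀₁ : x₀ ≫ p = x₁ ≫ p) (h₁₂ : x₁ ≫ p = x₂ ≫ p)
    (v : Lifts V x₀) :
    transport hV x₁ x₂ h₁₂ (transport hV x₀ x₁ h₀₁ v) = transport hV x₀ x₂ (h₀₁.trans h₁₂) v :=
  (transport_eq hV x₀ x₂ (x₂ ≫ p) (h₀₁.trans h₁₂) rfl v _
    ((transport_class hV x₁ x₂ (x₂ ≫ p) h₁₂ rfl _).trans
      (transport_class hV x₀ x₁ (x₂ ≫ p) (h₀₁.trans h₁₂) h₁₂ v))).symm

theorem transport_self ⦃T : Scheme.{u}⦄ (x : T ⟶ X) (v : Lifts V x) : transport hV x x rfl v = v :=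
  transport_eq hV x x (x ≫ p) rfl rfl v v rfl

/-- the descent datum on the classifying scheme -/
def dd : SchDD p where
  obj := V
  φ T x₀ x₁ h :=
    { toFun := transport hV x₀ x₁ h
      invFun := transport hV x₁ x₀ h.symm
      left_inv := fun v => by rw [transport_transport, transport_self]
      right_inv := fun v => by rw [transport_transport, transport_self] }
  φ_natural T T' g x₀ x₁ h h' v v' hv' := by
    let gO : (Over.mk ((g ≫ x₁) ≫ p) : Over S) ⟶ Over.mk (x₁ ≫ p) := Over.homMk g (Category.assoc _ _ _).symm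
    let w : Lifts V (g ≫ x₁) := ⟨g ≫ (transport hV x₀ x₁ h v).1, by
      rw [Category.assoc, (transport hV x₀ x₁ h v).2]⟩
    refine congrArg Subtype.val (transport_eq hV (g ≫ x₀) (g ≫ x₁) _ h' rfl v' w ?_)
    have e := congrArg (F.map gO.op) (transport_class hV x₀ x₁ (x₁ ≫ p) h rfl v)
    rw [← Functor.map_comp_apply, ← Functor.map_comp_apply, ← op_comp, ← op_comp] at e
    refine Eq.trans ?_ (e.trans ?_)
    · exact congrArg (fun m => F.map (Quiver.Hom.op m) υ) (Over.OverMorphism.ext rfl)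
    · exact congrArg (fun m => F.map (Quiver.Hom.op m) υ) (Over.OverMorphism.ext hv'.symm)
  φ_self T x v := transport_self hV x v
  φ_comp T x₀ x₁ x₂ h₀₁ h₁₂ v := transport_transport hV x₀ x₁ x₂ h₀₁ h₁₂ v

include hV in
/-- the descended scheme classifies `F` -/
theorem exists_representing [QuasiCompact p] [Surjective p] [Flat p] (hF : HasDescent F p)
    {W : Over S} (e : (toDD p).obj W ≅ dd hV) :
    ∃ ξ : F.obj (op W), ∀ (T : Over S) (c : F.obj (op T)), ∃! g : T ⟶ W, F.map g.op ξ = c := by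
  let ε : pullback p W.hom ⟶ V.left := e.hom.hom.left
  have hε : ε ≫ V.hom = pullback.fst p W.hom := Over.w e.hom.hom
  let εO : cov p W ⟶ below p V := Over.homMk ε (by
    show ε ≫ V.hom ≫ p = pullback.snd p W.hom ≫ W.hom
    rw [reassoc_of% hε, pullback.condition])
  obtain ⟨ξ, hξ⟩ := (hF W).2 (F.map εO.op υ) fun R a b hab => by
    have hs : ∀ c : R ⟶ cov p W, (c.left ≫ pullback.fst p W.hom) ≫ p = R.hom := fun c => by
      rw [Category.assoc, pullback.condition]
      exact Over.w c
    have hab' : a.left ≫ pullback.snd p W.hom = b.left ≫ pullback.snd p W.hom := congrArg Over.Hom.left hab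
    let va : Lifts ((toDD p).obj W).obj (a.left ≫ pullback.fst p W.hom) := ⟨a.left, rfl⟩
    let wa : Lifts V (a.left ≫ pullback.fst p W.hom) := ⟨a.left ≫ ε, by rw [Category.assoc, hε]⟩
    let wb : Lifts V (b.left ≫ pullback.fst p W.hom) := ⟨b.left ≫ ε, by rw [Category.assoc, hε]⟩
    have hc := e.hom.comm (a.left ≫ pullback.fst p W.hom) (b.left ≫ pullback.fst p W.hom)
      ((hs a).trans (hs b).symm) va wa rfl
    have hb : transport hV (a.left ≫ pullback.fst p W.hom) (b.left ≫ pullback.fst p W.hom)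
        ((hs a).trans (hs b).symm) wa = wb := Subtype.ext (hc.trans (congrArg (· ≫ ε)
          (show ((canonicalDD p W).φ (a.left ≫ pullback.fst p W.hom) (b.left ≫ pullback.fst p W.hom)
            ((hs a).trans (hs b).symm) va).1 = b.left from pullback.hom_ext (pullback.lift_fst _ _ _)
              ((pullback.lift_snd _ _ _).trans hab'))))
    have hcl := transport_class hV _ _ R.hom (hs a) (hs b) wa
    rw [hb] at hcl
    rw [← Functor.map_comp_apply, ← Functor.map_comp_apply, ← op_comp, ← op_comp]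
    exact (Eq.trans (congrArg (fun m => F.map (Quiver.Hom.op m) υ) (Over.OverMorphism.ext rfl))
      hcl.symm).trans (congrArg (fun m => F.map (Quiver.Hom.op m) υ) (Over.OverMorphism.ext rfl))
  refine ⟨ξ, fun T c => ?_⟩
  -- the point over the covering of `T`
  let x : (cov p T).left ⟶ X := pullback.fst p T.hom
  obtain ⟨v, ⟨hv1, hv2⟩, -⟩ := hV (cov p T) x (pullback.condition) (F.map (covMap p T).op c)
  let ι : V.left ⟶ pullback p W.hom := e.inv.hom.left
  have hι : ι ≫ pullback.fst p W.hom = V.hom := Over.w e.inv.hom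
  have hιε : ι ≫ ε = 𝟙 _ := congrArg (fun m : dd hV ⟶ dd hV => m.hom.left) e.inv_hom_id
  have hει : ε ≫ ι = 𝟙 _ := congrArg (fun m : (toDD p).obj W ⟶ (toDD p).obj W => m.hom.left) e.hom_inv_id
  let m' : pullback p T.hom ⟶ W.left := v.left ≫ ι ≫ pullback.snd p W.hom
  haveI : QuasiCompact (pullback.snd p T.hom) := inferInstance
  haveI : Surjective (pullback.snd p T.hom) := inferInstance
  haveI : Flat (pullback.snd p T.hom) := inferInstance
  have hdesc : ∀ {Z : Scheme.{u}} (a b : Z ⟶ pullback p T.hom), a ≫ pullback.snd p T.hom = b ≫ pullback.snd p T.hom →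
      a ≫ m' = b ≫ m' := by
    intro Z a b hab
    let s : Z ⟶ S := (a ≫ pullback.snd p T.hom) ≫ T.hom
    have h₀ : (a ≫ x) ≫ p = s := by
      rw [Category.assoc, pullback.condition]; exact (Category.assoc _ _ _).symm
    have h₁ : (b ≫ x) ≫ p = s := by
      rw [Category.assoc, pullback.condition]
      exact (Category.assoc _ _ _).symm.trans (congrArg (· ≫ T.hom) hab.symm)
    let va : Lifts V (a ≫ x) := ⟨a ≫ v.left, by rw [Category.assoc, hv1]⟩
    let vb : Lifts V (b ≫ x) := ⟨b ≫ v.left, by rw [Category.assoc, hv1]⟩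
    let aO : Over.mk s ⟶ cov p T := Over.homMk a (Category.assoc _ _ _).symm
    let bO : Over.mk s ⟶ cov p T := Over.homMk b ((Category.assoc _ _ _).symm.trans (congrArg (· ≫ T.hom) hab.symm))
    have hcls : F.map (pO vb s h₁).op υ = F.map (pO va s h₀).op υ := by
      rw [show pO vb s h₁ = bO ≫ v from Over.OverMorphism.ext rfl,
        show pO va s h₀ = aO ≫ v from Over.OverMorphism.ext rfl, op_comp, op_comp,
        Functor.map_comp_apply, Functor.map_comp_apply, hv2, ← Functor.map_comp_apply, ← Functor.map_comp_apply,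
        ← op_comp, ← op_comp, show bO ≫ covMap p T = aO ≫ covMap p T from Over.OverMorphism.ext hab.symm]
    have ht := transport_eq hV _ _ s h₀ h₁ va vb hcls
    let wa : Lifts ((toDD p).obj W).obj (a ≫ x) := ⟨va.1 ≫ ι, by
      show (va.1 ≫ ι) ≫ pullback.fst p W.hom = _
      rw [Category.assoc, hι]; exact va.2⟩
    have hc := e.inv.comm (a ≫ x) (b ≫ x) (h₀.trans h₁.symm) va wa rfl
    have hs2 : ((canonicalDD p W).φ (a ≫ x) (b ≫ x) (h₀.trans h₁.symm) wa).1 ≫ pullback.snd p W.hom =
        wa.1 ≫ pullback.snd p W.hom := pullback.lift_snd _ _ _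
    have hc' : ((canonicalDD p W).φ (a ≫ x) (b ≫ x) (h₀.trans h₁.symm) wa).1 = vb.1 ≫ ι :=
      hc.trans (congrArg (fun z : Lifts V (b ≫ x) => z.1 ≫ ι) ht)
    rw [hc'] at hs2
    simpa [m', va, vb, wa] using hs2.symm
  let m : T.left ⟶ W.left := EffectiveEpi.desc (pullback.snd p T.hom) m' fun a b hab => hdesc a b hab
  have hm : pullback.snd p T.hom ≫ m = m' := EffectiveEpi.fac _ _ _
  have hmS : m ≫ W.hom = T.hom := (cancel_epi (pullback.snd p T.hom)).1 (by
    rw [← Category.assoc, hm]
    simp only [m', Category.assoc]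
    rw [← pullback.condition, reassoc_of% hι, reassoc_of% hv1]
    exact pullback.condition)
  let g : T ⟶ W := Over.homMk m hmS
  let mW : cov p T ⟶ cov p W := Over.homMk (v.left ≫ ι) (by
    show (v.left ≫ ι) ≫ pullback.snd p W.hom ≫ W.hom = pullback.snd p T.hom ≫ T.hom
    rw [← pullback.condition, Category.assoc, reassoc_of% hι, reassoc_of% hv1]
    exact pullback.condition)
  have hsq : covMap p T ≫ g = mW ≫ covMap p W := Over.OverMorphism.ext (hm.trans (Category.assoc _ _ _).symm)
  have hmε : mW ≫ εO = v := Over.OverMorphism.ext (by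
    show (v.left ≫ ι) ≫ ε = v.left
    rw [Category.assoc, hιε]; exact Category.comp_id v.left)
  refine ⟨g, (hF T).1 ?_, fun g₂ hg₂ => ?_⟩
  · rw [← Functor.map_comp_apply, ← op_comp, hsq, op_comp, Functor.map_comp_apply, hξ, ← Functor.map_comp_apply,
      ← op_comp, hmε, hv2]
  · refine Over.OverMorphism.ext ((cancel_epi (pullback.snd p T.hom)).1 (Eq.trans ?_ hm.symm))
    let q : cov p T ⟶ cov p W := Over.homMk (pullback.lift x (pullback.snd p T.hom ≫ g₂.left) (by
        rw [Category.assoc, Over.w g₂]; exact pullback.condition)) (by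
      show pullback.lift x (pullback.snd p T.hom ≫ g₂.left) _ ≫ pullback.snd p W.hom ≫ W.hom = _
      rw [pullback.lift_snd_assoc, Category.assoc, Over.w g₂]
      rfl)
    have hq : q ≫ covMap p W = covMap p T ≫ g₂ := Over.OverMorphism.ext (pullback.lift_snd _ _ _)
    have h1 : (q ≫ εO).left ≫ V.hom = x := by
      show (q.left ≫ ε) ≫ V.hom = x
      rw [Category.assoc, hε]
      exact pullback.lift_fst _ _ _
    have h2 : F.map (q ≫ εO).op υ = F.map (covMap p T).op c := by
      rw [op_comp, Functor.map_comp_apply, ← hξ, ← Functor.map_comp_apply, ← op_comp, hq, op_comp,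
        Functor.map_comp_apply, hg₂]
    have h3 : q ≫ εO = v :=
      (hV (cov p T) x (pullback.condition) (F.map (covMap p T).op c)).unique ⟨h1, h2⟩ ⟨hv1, hv2⟩
    show pullback.snd p T.hom ≫ g₂.left = m'
    rw [show m' = (v.left ≫ ι) ≫ pullback.snd p W.hom from (Category.assoc _ _ _).symm, ← h3]
    show _ = ((q.left ≫ ε) ≫ ι) ≫ pullback.snd p W.hom
    rw [Category.assoc q.left, hει]
    exact ((pullback.lift_snd _ _ _).symm.trans (congrArg (· ≫ pullback.snd p W.hom) (Category.comp_id q.left).symm))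

end Groth.Agent.RepDescent

end
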