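import Groth.Agent.PicCurve.DegCl
import Groth.Agent.PicCurve.Group
import Groth.Agent.PicCurve.RepDescent
import Groth.Agent.FppfPic.RigSheaf

/-!
# The functor of rigidified classes of degree zero
-/

noncomputable section

set_option autoImplicit false
set_option linter.style.haveILetI false
set_option linter.unusedSectionVars false
set_option backward.isDefEq.respectTransparency false
set_option backward.isDefEq.respectTransparency.types false
set_option maxHeartbeats 1000000
set_option synthInstance.maxHeartbeats 400000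
attribute [-instance] CategoryTheory.catToReflQuiver

universe u

open CategoryTheory CategoryTheory.Limits AlgebraicGeometry TopologicalSpace Opposite
  MonoidalCategory CartesianMonoidalCategory
open scoped MonObj
open Groth.Agent.H23.PicMul

namespace Groth.Agent.PicCurve

variable {k : Type u} [Field k] {X : Scheme.{u}} (f : X ⟶ Spec (CommRingCat.of k))
  [IsProper f] [Smooth f] [SmoothOfRelativeDimension 1 f] [GeometricallyIntegral f]
  (hdim : topologicalKrullDim X = 1)
  (σ : Spec (CommRingCat.of k) ⟶ X) (hσ : σ ≫ f = 𝟙 _)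

/-- rigidified classes of degree zero -/
def Rig0 (T : Over (Spec (CommRingCat.of k))) : Type (u + 1) :=
  {c : PicF.Rig f σ hσ T // FGA.HasFibreDegreeZeroCl f T c.1}

/-- pullback of rigidified classes of degree zero -/
def rig0Pull {T T' : Over (Spec (CommRingCat.of k))} (g : T' ⟶ T) (c : Rig0 f σ hσ T) : Rig0 f σ hσ T' :=
  ⟨rigPull f σ hσ g c.1, (hasFibreDegreeZeroCl_iff f _).2 fun t =>
    (deg0At_pull f g c.1.2.1 t).2 ((hasFibreDegreeZeroCl_iff f _).1 c.2 _)⟩

theorem rig0Pull_id {T : Over (Spec (CommRingCat.of k))} (c : Rig0 f σ hσ T) : rig0Pull f σ hσ (𝟙 T) c = c :=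
  Subtype.ext (rigPull_id f σ hσ c.1)

theorem rig0Pull_comp {T T' T'' : Over (Spec (CommRingCat.of k))} (g : T'' ⟶ T') (g' : T' ⟶ T)
    (c : Rig0 f σ hσ T) : rig0Pull f σ hσ g (rig0Pull f σ hσ g' c) = rig0Pull f σ hσ (g ≫ g') c :=
  Subtype.ext (rigPull_comp f σ hσ g g' c.1)

/-- the presheaf of rigidified classes of degree zero -/
def rig0Functor : (Over (Spec (CommRingCat.of k)))ᵒᵖ ⥤ Type (u + 1) where
  obj T := Rig0 f σ hσ T.unop
  map a := TypeCat.ofHom (rig0Pull f σ hσ a.unop)
  map_id T := by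
    ext c
    exact rig0Pull_id f σ hσ c
  map_comp a b := by
    ext c
    exact (rig0Pull_comp f σ hσ b.unop a.unop c).symm

/-- degree zero classes descend along finite extensions of the ground field -/
theorem hasDescent {B : Scheme.{u}} (p : B ⟶ Spec (CommRingCat.of k)) [Flat p] [LocallyOfFinitePresentation p]
    [Surjective p] : RepDescent.HasDescent (rig0Functor f σ hσ) p := by
  intro T
  have ha := isIso_app f σ hσ
  haveI : Flat (pullback.snd p T.hom) := inferInstance
  haveI : LocallyOfFinitePresentation (pullback.snd p T.hom) := inferInstance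
  haveI : Surjective (pullback.snd p T.hom) := inferInstance
  let u := pullback.snd p T.hom
  haveI : Surjective (RepDescent.covMap p T).left := inferInstanceAs (Surjective u)
  refine ⟨fun c d h => Subtype.ext (Subtype.ext ?_), fun c' hc' => ?_⟩
  · have h' : rigPull f σ hσ (RepDescent.covMap p T) c.1 = rigPull f σ hσ (RepDescent.covMap p T) d.1 :=
      congrArg Subtype.val h
    exact FppfPic.eq_of_rigid (FppfPic.flatBij_XTproj f ha T) (FppfPic.isPullback_XTmap f (RepDescent.covMap p T))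
      (u := u) (PicF.secT f σ hσ T) (pullback.lift_snd _ _ _) c.1.2.1 d.1.2.1 (congrArg Subtype.val h') c.1.2.2 d.1.2.2
  · have hg := hc' (AbDual.ovr (AbDual.ovr T u) (pullback.fst u u)) (AbDual.ovrHom (AbDual.ovr T u) (pullback.fst u u))
      (Over.homMk (pullback.snd u u) (pullback.condition_assoc T.hom).symm) (Over.OverMorphism.ext pullback.condition)
    obtain ⟨c, hc, -⟩ := FppfPic.existsUnique_rig f σ hσ ha T u c'.1
      (congrArg (fun z : Rig0 f σ hσ _ => z.1.1) hg)
    refine ⟨⟨c, (hasFibreDegreeZeroCl_iff f _).2 fun t => ?_⟩, Subtype.ext (Subtype.ext hc)⟩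
    obtain ⟨t', ht'⟩ := Surjective.surj (f := (RepDescent.covMap p T).left) t
    rw [← ht', ← deg0At_pull f (RepDescent.covMap p T) c.2.1]
    have h := (hasFibreDegreeZeroCl_iff f _).1 c'.2 t'
    rw [← hc] at h
    exact h

include hdim in
theorem deg0_mul {T : Over (Spec (CommRingCat.of k))} (c d : Rig0 f σ hσ T) :
    FGA.HasFibreDegreeZeroCl f T (rigMul f σ hσ c.1 d.1).1 :=
  (hasFibreDegreeZeroCl_iff f _).2 fun t => (deg0At_iff f _ _).2 (by
    show degCl f (c.1.1 * d.1.1) t = 0
    rw [degCl_mul f hdim c.1.2.1 d.1.2.1, (deg0At_iff f _ _).1 ((hasFibreDegreeZeroCl_iff f _).1 c.2 t),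
      (deg0At_iff f _ _).1 ((hasFibreDegreeZeroCl_iff f _).1 d.2 t), add_zero])

/-- rigidified classes of degree zero form a group -/
@[instance_reducible]
def rig0Group (T : Over (Spec (CommRingCat.of k))) : CommGroup (Rig0 f σ hσ T) where
  mul c d := ⟨rigMul f σ hσ c.1 d.1, deg0_mul f hdim σ hσ c d⟩
  one := ⟨rigOne f σ hσ T, (hasFibreDegreeZeroCl_iff f _).2 fun t => (deg0At_iff f _ _).2 (degCl_one f t)⟩
  inv c := ⟨rigInv f σ hσ c.1, (hasFibreDegreeZeroCl_iff f _).2 fun t => (deg0At_iff f _ _).2 (by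
    show degCl f (invCl c.1.2.1) t = 0
    rw [degCl_invCl f hdim, (deg0At_iff f _ _).1 ((hasFibreDegreeZeroCl_iff f _).1 c.2 t), neg_zero])⟩
  mul_assoc a b c := Subtype.ext (Subtype.ext (_root_.mul_assoc a.1.1 b.1.1 c.1.1))
  mul_comm a b := Subtype.ext (Subtype.ext (_root_.mul_comm a.1.1 b.1.1))
  one_mul a := Subtype.ext (Subtype.ext (_root_.one_mul a.1.1))
  mul_one a := Subtype.ext (Subtype.ext (_root_.mul_one a.1.1))
  inv_mul_cancel a := Subtype.ext (Subtype.ext (invCl_mul a.1.2.1))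

/-- the functor of groups of rigidified classes of degree zero -/
def rig0GrpFunctor : (Over (Spec (CommRingCat.of k)))ᵒᵖ ⥤ CommGrpCat.{u + 1} where
  obj T := letI := rig0Group f hdim σ hσ T.unop; CommGrpCat.of (Rig0 f σ hσ T.unop)
  map {T T'} a :=
    letI := rig0Group f hdim σ hσ T.unop
    letI := rig0Group f hdim σ hσ T'.unop
    CommGrpCat.ofHom
      ({ toFun := rig0Pull f σ hσ a.unop
         map_one' := Subtype.ext (rigPull_one f σ hσ a.unop)
         map_mul' := fun c d => Subtype.ext (rigPull_mul f σ hσ a.unop c.1 d.1) } :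
        Rig0 f σ hσ T.unop →* Rig0 f σ hσ T'.unop)
  map_id T := by
    letI := rig0Group f hdim σ hσ T.unop
    refine CommGrpCat.hom_ext ?_
    ext c
    exact rig0Pull_id f σ hσ c
  map_comp {T T' T''} a b := by
    letI := rig0Group f hdim σ hσ T.unop
    letI := rig0Group f hdim σ hσ T'.unop
    letI := rig0Group f hdim σ hσ T''.unop
    refine CommGrpCat.hom_ext ?_
    ext c
    exact (rig0Pull_comp f σ hσ b.unop a.unop c).symm

variable {J : Over (Spec (CommRingCat.of k))} (ξ : PicF.Rig f σ hσ J) (hξ : FGA.HasFibreDegreeZeroCl f J ξ.1)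
  (huniv : ∀ (T : Over (Spec (CommRingCat.of k))) (c : PicF.Rig f σ hσ T), FGA.HasFibreDegreeZeroCl f T c.1 →
    ∃! g : T ⟶ J, PicF.pullCl (PicF.XTmap f g) ξ.1 = c.1)

include huniv hξ

/-- points of the Jacobian are classes of degree zero -/
def rig0Equiv (T : Over (Spec (CommRingCat.of k))) : (T ⟶ J) ≃ Rig0 f σ hσ T :=
  Equiv.ofBijective (fun g => rig0Pull f σ hσ g ⟨ξ, hξ⟩)
    ⟨fun g g' h => (huniv T _ (rig0Pull f σ hσ g' ⟨ξ, hξ⟩).2).unique
        (congrArg (fun z : Rig0 f σ hσ T => z.1.1) h) rfl,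
      fun c => ⟨(huniv T c.1 c.2).choose, Subtype.ext (Subtype.ext (huniv T c.1 c.2).choose_spec.1)⟩⟩

/-- the Jacobian represents the functor of groups -/
def rig0RepBy : (rig0GrpFunctor f hdim σ hσ ⋙ forget _).RepresentableBy J where
  homEquiv {T} := rig0Equiv f σ hσ ξ hξ huniv T
  homEquiv_comp a b := (rig0Pull_comp f σ hσ a b ⟨ξ, hξ⟩).symm

/-- the group structure on the Jacobian -/
@[instance_reducible]
def jacGrpObj : GrpObj J :=
  GrpObj.ofRepresentableBy J (rig0GrpFunctor f hdim σ hσ ⋙ forget₂ CommGrpCat GrpCat)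
    (rig0RepBy f hdim σ hσ ξ hξ huniv)

theorem jac_isCommMonObj :
    letI := jacGrpObj f hdim σ hσ ξ hξ huniv
    IsCommMonObj J :=
  IsCommMonObj.ofRepresentableBy J (rig0GrpFunctor f hdim σ hσ ⋙ forget₂ CommGrpCat CommMonCat)
    (rig0RepBy f hdim σ hσ ξ hξ huniv)

theorem jac_pull_mul {T : Over (Spec (CommRingCat.of k))} (a b : T ⟶ J) :
    letI := jacGrpObj f hdim σ hσ ξ hξ huniv
    PicF.pullCl (PicF.XTmap f (a * b)) ξ.1 =
      PicF.pullCl (PicF.XTmap f a) ξ.1 * PicF.pullCl (PicF.XTmap f b) ξ.1 := by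
  letI := jacGrpObj f hdim σ hσ ξ hξ huniv
  letI := rig0Group f hdim σ hσ
  let E := rig0Equiv f σ hσ ξ hξ huniv
  have hμ : E (J ⊗ J) MonObj.mul = E _ (fst J J) * E _ (snd J J) := (E (J ⊗ J)).apply_symm_apply _
  have hm : rigPull f σ hσ (a * b) ξ = rigMul f σ hσ (rigPull f σ hσ a ξ) (rigPull f σ hσ b ξ) := by
    rw [Hom.mul_def, ← rigPull_comp]
    refine (congrArg (rigPull f σ hσ (lift a b)) (congrArg Subtype.val hμ)).trans ?_
    show rigPull f σ hσ _ (rigMul f σ hσ (rigPull f σ hσ _ ξ) (rigPull f σ hσ _ ξ)) = _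
    rw [rigPull_mul, rigPull_comp, rigPull_comp, lift_fst, lift_snd]
  exact congrArg Subtype.val hm

end Groth.Agent.PicCurve

end
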