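import Groth.Agent.PicCurve.DivOf

/-!
# The class of a relative divisor which is good on all fibres
-/

noncomputable section

set_option autoImplicit false
set_option linter.style.haveILetI false
set_option linter.unusedSectionVars false
set_option backward.isDefEq.respectTransparency false
set_option backward.isDefEq.respectTransparency.types false
set_option maxHeartbeats 1000000
set_option synthInstance.maxHeartbeats 400000
attribute [-instance] CategoryTheory.catToReflQuiver

universe u

open CategoryTheory CategoryTheory.Limits AlgebraicGeometry TopologicalSpace Opposite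
open Groth.Agent.InvX Groth.Agent.AModX Groth.Agent.H23.PicMul

namespace Groth.Agent.PicCurve

variable {X S : Scheme.{u}} {f : X ⟶ S} [IsProper f] [Smooth f] [SmoothOfRelativeDimension 1 f]
  [GeometricallyIntegral f]

/-- a section whose divisor is finite over a point is not zero there -/
theorem pullElt_ne_zero {T : Over S} {L : (PicF.XT f T).Modules} (hL : PicF.IsInvertible L) (s : Γ(L, ⊤))
    (hZ : Mor2.IsFinLocFree ((PicF2.zeroScheme L (ofSect s)).subschemeι ≫ PicF.XTproj f T)) {T' : Over S}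
    (g : T' ⟶ T) (hne : Nonempty (PicF.XT f T')) : pullElt (PicF.XTmap f g) (U := ⊤) s ≠ 0 := by
  intro h0
  have hL' := PicClLib.isInvertible_pullback (PicF.XTmap f g) hL
  have h1 := HilbDLib.isFinLocFree_pull f g _ hZ
  rw [HilbDLib.pull_eq_comap, comap_zeroScheme (PicF.XTmap f g) hL hL' s] at h1
  obtain ⟨x⟩ := hne
  obtain ⟨U, hxU, c, hc, hI⟩ := (RelCurveDiv.isEffCartier_of_finLocFree _ _ h1).1 x
  obtain ⟨W, hxW, e, he⟩ := exists_frame hL' x
  obtain ⟨r, hr, hxr⟩ := U.2.exists_basicOpen_le (V := U.1 ⊓ W) ⟨x, hxU, hxW⟩ hxU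
  let V := (PicF.XT f T').affineBasicOpen r
  have hz : res _ (le_top : V.1 ≤ ⊤) (pullElt (PicF.XTmap f g) (U := ⊤) s) =
      (0 : Γ(PicF.XT f T', V.1)) • res _ (show V.1 ≤ W from hr.trans inf_le_right) e := by
    rw [zero_smul]
    exact (congrArg _ h0).trans (map_zero _)
  have hI' := (ideal_res _ (W := V) ((PicF.XT f T').basicOpen_le r) hI).symm.trans
    (ideal_zero hL' _ V (he.res (show V.1 ≤ W from hr.trans inf_le_right)) hz)
  have hc0 : resR ((PicF.XT f T').basicOpen_le r) c = 0 := by
    have h2 := hI' ▸ Ideal.mem_span_singleton_self _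
    obtain ⟨a, ha⟩ := Ideal.mem_span_singleton'.1 h2
    exact ha.symm.trans (mul_zero a)
  have h3 : (1 : Γ(PicF.XT f T', V.1)) = 0 := regular_res U hc ((PicF.XT f T').basicOpen_le r) (by rw [hc0, mul_zero, mul_zero])
  have h4 := congrArg ((PicF.XT f T').presheaf.germ V.1 x hxr) h3
  rw [map_one, map_zero] at h4
  exact one_ne_zero h4

/-- a function which is nonzero at every point of the base is a unit -/
theorem isUnit_of_fields {T : Scheme.{u}} (V : T.Opens) (a : Γ(T, V))
    (h : ∀ (t : T) (_ : t ∈ V), (T.fromSpecResidueField t).app V a ≠ 0) : IsUnit a := by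
  refine T.toRingedSpace.isUnit_of_isUnit_germ V a fun t ht => ?_
  by_contra hnu
  have h1 : (T.fromSpecResidueField t) ⁻¹ᵁ T.basicOpen a = ⊥ := by
    refine eq_bot_iff.2 fun z hz => ?_
    have h2 : T.fromSpecResidueField t z = t := T.fromSpecResidueField_apply t z
    change T.fromSpecResidueField t z ∈ T.basicOpen a at hz
    rw [h2, T.mem_basicOpen a t ht] at hz
    exact absurd hz hnu
  rw [Scheme.preimage_basicOpen] at h1
  exact h t ht ((AlgebraicGeometry.basicOpen_eq_bot_iff _).1 h1)

/-- a section cutting out a finite locally free divisor generates the sections where the module is good -/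
theorem isGen_of_finLocFree {T : Over S} {L : (PicF.XT f T).Modules} (hL : PicF.IsInvertible L)
    (hg : ∀ t, GoodAt (PicF.XTproj f T) L t) (s : Γ(L, ⊤))
    (hZ : Mor2.IsFinLocFree ((PicF2.zeroScheme L (ofSect s)).subschemeι ≫ PicF.XTproj f T)) :
    IsGen (PicF.XTproj f T) L ⊤ s := by
  refine H23.TrivBasic.isFrame_of_germwise fun t _ => ?_
  obtain ⟨V, htV, s₀, hs₀⟩ := exists_gen (PicF.XTproj f T) hL hg t
  refine ⟨V, le_top, htV, ?_⟩
  obtain ⟨a, ha⟩ := IsGen.exists_coord (PicF.XTproj f T) hs₀ (res L (le_top : (PicF.XTproj f T) ⁻¹ᵁ V ≤ ⊤) s)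
  have hau : IsUnit a := isUnit_of_fields V a fun z hz h0 => by
    let T' := AbDual.ovr T (T.left.fromSpecResidueField z)
    let g : T' ⟶ T := AbDual.ovrHom T (T.left.fromSpecResidueField z)
    obtain ⟨y, -, -⟩ : ∃ y : PicF.XT f T', True ∧ True := by
      obtain ⟨x, hx⟩ := Surjective.surj (f := PicF.XTproj f T') (Classical.arbitrary (Spec (T.left.residueField z)))
      exact ⟨x, trivial, trivial⟩
    apply pullElt_ne_zero hL s hZ g ⟨y⟩
    have htop : (⊤ : T'.left.Opens) ≤ g.left ⁻¹ᵁ V := fun w _ => by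
      show T.left.fromSpecResidueField z w ∈ V
      rw [T.left.fromSpecResidueField_apply z w]
      exact hz
    have hpre : (⊤ : (PicF.XT f T').Opens) ≤ PicF.XTmap f g ⁻¹ᵁ (PicF.XTproj f T ⁻¹ᵁ V) := fun w _ => by
      show PicF.XTproj f T (PicF.XTmap f g w) ∈ V
      rw [← Scheme.Hom.comp_apply, (FppfPic.isPullback_XTmap f g).w, Scheme.Hom.comp_apply]
      exact htop trivial
    have h1 := congrArg (fun m => res _ hpre (pullElt (PicF.XTmap f g) m)) ha
    simp only [pullElt_smul, res_smul] at h1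
    rw [← res_pullElt, res_res] at h1
    refine ((res_self _).symm.trans h1.symm).trans ?_
    have h2 : resR hpre ((PicF.XTmap f g).app _ ((PicF.XTproj f T).app V a)) = 0 := by
      have h3 : ∀ (A : PicF.XT f T' ⟶ T.left) (B : PicF.XT f T' ⟶ T.left) (e : A = B) (hA : ⊤ ≤ A ⁻¹ᵁ V)
          (hB : ⊤ ≤ B ⁻¹ᵁ V), A.appLE V ⊤ hA a = B.appLE V ⊤ hB a := by
        rintro A B rfl hA hB; rfl
      have h4 := h3 (PicF.XTmap f g ≫ PicF.XTproj f T) (PicF.XTproj f T' ≫ g.left)
        (FppfPic.isPullback_XTmap f g).w hpre (fun w _ => htop trivial)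
      refine (Eq.trans ?_ h4).trans ?_
      · rfl
      · show resR (show (⊤ : (PicF.XT f T').Opens) ≤ PicF.XTproj f T' ⁻¹ᵁ (g.left ⁻¹ᵁ V) from fun w _ => htop trivial)
          ((PicF.XTproj f T').app _ (g.left.app V a)) = 0
        rw [show g.left.app V a = 0 from h0, map_zero, map_zero]
    rw [h2, zero_smul]
  let s₁ : Γ((Scheme.Modules.pushforward (PicF.XTproj f T)).obj L, V) := s₀
  have h5 : IsFrame (M := (Scheme.Modules.pushforward (PicF.XTproj f T)).obj L) (U := V) (a • s₁) :=
    IsFrame.isUnit_smul hs₀ hau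
  have h6 : a • s₁ = res ((Scheme.Modules.pushforward (PicF.XTproj f T)).obj L) (le_top : V ≤ ⊤) s := ha
  exact h6 ▸ h5

/-- a finite locally free divisor whose class is good is the divisor of its class -/
theorem isDiv_of_zeroScheme {T : Over S} {L : (PicF.XT f T).Modules} (hL : PicF.IsInvertible L)
    (hg : ∀ t, GoodAt (PicF.XTproj f T) L t) (s : Γ(L, ⊤)) {I : (PicF.XT f T).IdealSheafData}
    (hI : PicF2.zeroScheme L (ofSect s) = I)
    (hZ : Mor2.IsFinLocFree (I.subschemeι ≫ PicF.XTproj f T)) : IsDiv f (PicF.cl L) I :=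
  ⟨L, s, rfl, hL, hg, isGen_of_finLocFree hL hg s (hI ▸ hZ), hI⟩

end Groth.Agent.PicCurve

end
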