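import Groth.Agent.PicCurve.Torsion
import Groth.Agent.Lib.InvEnd
import Groth.Agent.Lib.CurveDualPrep
import Groth.Agent.Lib.AVProj
import Groth.Agent.ProjLoc.HComp
import Groth.Agent.S2330
import Groth.Prelude.Def_ModFun2

/-!
# The moduli problem of line bundles of a given degree on a curve
-/

noncomputable section

set_option autoImplicit false
set_option linter.style.haveILetI false
set_option linter.unusedSectionVars false
set_option backward.isDefEq.respectTransparency false
set_option backward.isDefEq.respectTransparency.types false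
set_option maxHeartbeats 1000000
set_option synthInstance.maxHeartbeats 400000
attribute [-instance] CategoryTheory.catToReflQuiver

universe u

open CategoryTheory CategoryTheory.Limits AlgebraicGeometry TopologicalSpace Opposite
  MonoidalCategory CartesianMonoidalCategory
open scoped MonObj
open Groth.Agent.H23.PicMul

namespace Groth.Agent.PicCurve

open AVTorsLib (base)

variable {k : Type u} [Field k] {X : Scheme.{u}} (f : X ⟶ Spec (CommRingCat.of k))
  [IsProper f] [Smooth f] [SmoothOfRelativeDimension 1 f] [GeometricallyIntegral f]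
  (hdim : topologicalKrullDim X = 1)
  (σ : Spec (CommRingCat.of k) ⟶ X) (hσ : σ ≫ f = 𝟙 _)

/-- a twisting class has constant degree -/
theorem degCl_tw_eq {a : PicF.Cl X} (ha : PicF.IsInvertibleCl a) {T : Over (Spec (CommRingCat.of k))} (t : T.left) :
    degCl f (tw f a T) t = degX f a := by
  let e : PicF.XT f (base k) ⟶ X := pullback.fst f (𝟙 _)
  let m : T ⟶ base k := Over.homMk T.hom (Category.comp_id _)
  have h : tw f a T = PicF.pullCl (PicF.XTmap f m) (PicF.pullCl e a) := by
    rw [tw, PicClLib.pullCl_comp,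
      show PicF.XTmap f m ≫ e = pullback.fst f T.hom by simp [PicF.XTmap, e]]
  haveI : Subsingleton (Spec (CommRingCat.of k)) := inferInstanceAs (Subsingleton (PrimeSpectrum k))
  haveI : Subsingleton (base k).left := inferInstanceAs (Subsingleton (Spec (CommRingCat.of k)))
  rw [h, degCl_pull f m (FppfPic.isInvertibleCl_pull _ ha)]
  exact congrArg (degCl f _) (Subsingleton.elim _ _)

include hdim in
theorem deg_eq_degCl {Ω : Type u} [Field Ω] (r : Spec (CommRingCat.of Ω) ⟶ Spec (CommRingCat.of k))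
    {E : (PicF.XT f (Over.mk r)).Modules} (hE : PicF.IsInvertible E) (w : (Over.mk r).left) :
    letI : (PicF.XT f (Over.mk r)).Over (Spec (CommRingCat.of Ω)) := ⟨PicF.XTproj f (Over.mk r)⟩
    Curv2.deg Ω (PicF.XT f (Over.mk r)) E 1 = degCl f (PicF.cl E) w := by
  letI : (PicF.XT f (Over.mk r)).Over (Spec (CommRingCat.of Ω)) := ⟨PicF.XTproj f (Over.mk r)⟩
  simp only [degCl, H23.PicMul.one_def, chiCl_field f hdim r (isQCoh_inv hE),
    chiCl_field f hdim r (PnCoh.isQCoh_structureModule _)]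
  simp [Curv2.deg]

include hdim in
/-- admissible families of degree `d` -/
theorem ok_iff (d : ℤ) (T : Over (Spec (CommRingCat.of k))) (E : (PicF.XT f T).Modules) :
    (ModFun.PicDeg f d).ok T E ↔ PicF.IsInvertible E ∧ ∀ t, degCl f (PicF.cl E) t = d := by
  constructor
  · rintro ⟨⟨-, hr⟩, hd⟩
    have hE := CurveDuality.isInvertible_of_rank_one hr
    refine ⟨hE, fun t => ?_⟩
    obtain ⟨K, _, r, m, z, rfl⟩ := exists_field_point t
    let Ω := AlgebraicClosure K
    let s : Spec (CommRingCat.of Ω) ⟶ Spec (CommRingCat.of K) :=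
      Spec.map (CommRingCat.ofHom (algebraMap K Ω))
    let s' : Spec (CommRingCat.of Ω) ⟶ T.left := s ≫ m.left
    let n : Over.mk (s' ≫ T.hom) ⟶ T := Over.homMk s' rfl
    haveI : Subsingleton (Over.mk r).left := inferInstanceAs (Subsingleton (PrimeSpectrum K))
    let w : (Over.mk (s' ≫ T.hom)).left := show Spec (CommRingCat.of Ω) from IsLocalRing.closedPoint Ω
    have h := (deg_eq_degCl f hdim (s' ≫ T.hom) (PicClLib.isInvertible_pullback (PicF.XTmap f n) hE) w).symm.trans
      (hd Ω s')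
    rw [show PicF.cl ((Scheme.Modules.pullback (PicF.XTmap f n)).obj E) = PicF.pullCl (PicF.XTmap f n) (PicF.cl E)
      from rfl, degCl_pull f n ⟨E, rfl, hE⟩] at h
    have hw : n.left w = m.left z := by
      show (s ≫ m.left) _ = _
      rw [Scheme.Hom.comp_apply]
      exact congrArg m.left (Subsingleton.elim _ _)
    rwa [hw] at h
  · rintro ⟨hE, hd⟩
    refine ⟨⟨trivial, InvEnd.isFinLocFreeOfRank_one hE⟩, fun Ω _ _ t => ?_⟩
    let n : Over.mk (t ≫ T.hom) ⟶ T := Over.homMk t rfl
    let w : (Over.mk (t ≫ T.hom)).left := show Spec (CommRingCat.of Ω) from IsLocalRing.closedPoint Ω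
    refine (deg_eq_degCl f hdim (t ≫ T.hom) (PicClLib.isInvertible_pullback (PicF.XTmap f n) hE) w).trans ?_
    rw [show PicF.cl ((Scheme.Modules.pullback (PicF.XTmap f n)).obj E) = PicF.pullCl (PicF.XTmap f n) (PicF.cl E)
      from rfl, degCl_pull f n ⟨E, rfl, hE⟩, hd]

/-- the identification of families, on classes -/
theorem r_iff (d : ℤ) (T : Over (Spec (CommRingCat.of k))) (E E' : (PicF.XT f T).Modules) :
    (ModFun.PicDeg f d).r T E E' ↔
      ∃ m : PicF.Cl T.left, PicF.IsInvertibleCl m ∧ PicF.cl E' = PicF.cl E * PicF.pullCl (PicF.XTproj f T) m := by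
  constructor
  · rintro ⟨M, hM, he⟩
    exact ⟨PicF.cl M, ⟨M, rfl, hM⟩, cl_eq_iff.2 he⟩
  · rintro ⟨m, ⟨M, rfl, hM⟩, he⟩
    exact ⟨M, hM, cl_eq_iff.1 he⟩

section Univ

variable {J : Over (Spec (CommRingCat.of k))} (ξ : PicF.Rig f σ hσ J) (hξ : FGA.HasFibreDegreeZeroCl f J ξ.1)
  (huniv : ∀ (T : Over (Spec (CommRingCat.of k))) (c : PicF.Rig f σ hσ T), FGA.HasFibreDegreeZeroCl f T c.1 →
    ∃! g : T ⟶ J, PicF.pullCl (PicF.XTmap f g) ξ.1 = c.1)
  {d : ℤ} {a : PicF.Cl X} (ha : PicF.IsInvertibleCl a) (had : degX f a = d)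

/-- the universal class of degree `d` -/
def univCl : PicF.Cl (PicF.XT f J) := ξ.1 * tw f a J

include ha in
theorem isInvertibleCl_univCl : PicF.IsInvertibleCl (univCl f σ hσ ξ (a := a)) :=
  isInvertibleCl_mul ξ.2.1 (isInvertibleCl_tw ha J)

theorem pull_univCl {T : Over (Spec (CommRingCat.of k))} (g : T ⟶ J) :
    PicF.pullCl (PicF.XTmap f g) (univCl f σ hσ ξ (a := a)) = PicF.pullCl (PicF.XTmap f g) ξ.1 * tw f a T := by
  rw [univCl, pullCl_mul, tw_pull]

include hdim hξ ha had in
theorem degCl_univCl (t : J.left) : degCl f (univCl f σ hσ ξ (a := a)) t = d := by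
  rw [univCl, degCl_mul f hdim ξ.2.1 (isInvertibleCl_tw ha J),
    (deg0At_iff f _ _).1 ((hasFibreDegreeZeroCl_iff f _).1 hξ t), degCl_tw_eq f ha, had, zero_add]

/-- the rigidified class of degree zero of a family of degree `d` -/
def shiftRig {T : Over (Spec (CommRingCat.of k))} {c : PicF.Cl (PicF.XT f T)} (hc : PicF.IsInvertibleCl c) :
    PicF.Rig f σ hσ T :=
  rigify f σ hσ (isInvertibleCl_mul hc (isInvertibleCl_invCl (isInvertibleCl_tw ha T)))

include hdim had in
theorem deg0_shiftRig {T : Over (Spec (CommRingCat.of k))} {c : PicF.Cl (PicF.XT f T)}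
    (hc : PicF.IsInvertibleCl c) (hd : ∀ t, degCl f c t = d) :
    FGA.HasFibreDegreeZeroCl f T (shiftRig f σ hσ ha hc).1 :=
  (hasFibreDegreeZeroCl_iff f _).2 fun t => (deg0At_iff f _ _).2 (by
    rw [shiftRig, degCl_rigify f hdim, degCl_mul f hdim hc (isInvertibleCl_invCl _), degCl_invCl f hdim,
      degCl_tw_eq f ha, had, hd, add_neg_cancel])

include hdim huniv hξ ha had in
/-- every family of degree `d` comes from exactly one point -/
theorem existsUnique_classify {T : Over (Spec (CommRingCat.of k))} {c : PicF.Cl (PicF.XT f T)}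
    (hc : PicF.IsInvertibleCl c) (hd : ∀ t, degCl f c t = d) :
    ∃! g : T ⟶ J, ∃ m : PicF.Cl T.left, PicF.IsInvertibleCl m ∧
      c = PicF.pullCl (PicF.XTmap f g) (univCl f σ hσ ξ (a := a)) * PicF.pullCl (PicF.XTproj f T) m := by
  obtain ⟨g, hg, hg'⟩ := huniv T (shiftRig f σ hσ ha hc) (deg0_shiftRig f hdim σ hσ ha had hc hd)
  let s := PicF.pullCl (PicF.secT f σ hσ T) (c * invCl (isInvertibleCl_tw ha T))
  have hs : PicF.IsInvertibleCl s :=
    FppfPic.isInvertibleCl_pull _ (isInvertibleCl_mul hc (isInvertibleCl_invCl _))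
  refine ⟨g, ⟨s, hs, ?_⟩, fun g₂ ⟨m, hm, h⟩ => hg' g₂ ?_⟩
  · rw [pull_univCl, hg, shiftRig]
    show c = c * invCl _ * PicF.pullCl (PicF.XTproj f T) (invCl _) * tw f a T * PicF.pullCl (PicF.XTproj f T) s
    rw [_root_.mul_assoc c, _root_.mul_assoc c, _root_.mul_assoc c,
      mul_right_comm (invCl _) (PicF.pullCl (PicF.XTproj f T) (invCl _)) (tw f a T), invCl_mul, _root_.one_mul,
      ← pullCl_mul, invCl_mul, pullCl_one, _root_.mul_one]
  · have hi := isInvertibleCl_mul hc (isInvertibleCl_invCl (isInvertibleCl_tw ha T))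
    have e : c * invCl (isInvertibleCl_tw ha T) =
        PicF.pullCl (PicF.XTmap f g₂) ξ.1 * PicF.pullCl (PicF.XTproj f T) m := by
      rw [h, pull_univCl, mul_right_comm _ (tw f a T), _root_.mul_assoc _ (tw f a T), mul_invCl, _root_.mul_one]
    show PicF.pullCl (PicF.XTmap f g₂) ξ.1 = (rigify f σ hσ hi).1
    rw [rigify_congr f σ hσ hi (isInvertibleCl_mul (rigPull f σ hσ g₂ ξ).2.1 (FppfPic.isInvertibleCl_pull _ hm)) e,
      rigify_mul_base f σ hσ (rigPull f σ hσ g₂ ξ).2.1 hm, rigify_self f σ hσ (rigPull f σ hσ g₂ ξ)]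
    rfl

include hdim huniv hξ ha had in
/-- the universal family of degree `d` -/
theorem isUnivFamily_picDeg {E : (PicF.XT f J).Modules} (hE : PicF.cl E = univCl f σ hσ ξ (a := a)) :
    ModFun.IsUnivFamily ⊤ (ModFun.PicDeg f d) J E := by
  have hEi : PicF.IsInvertible E := by
    obtain ⟨L, hL, hLi⟩ := isInvertibleCl_univCl f σ hσ ξ ha
    exact isInvertible_of_iso (cl_eq_iff.1 (hL.trans hE.symm)).some hLi
  refine ⟨(ok_iff f hdim d J E).2 ⟨hEi, fun t => by rw [hE]; exact degCl_univCl f hdim σ hσ ξ hξ ha had t⟩,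
    fun T x _ hx => ?_⟩
  obtain ⟨hxi, hxd⟩ := (ok_iff f hdim d T x).1 hx
  have key : ∀ g : T ⟶ J, (ModFun.PicDeg f d).r T ((ModFun.PicDeg f d).pull g E) x ↔
      ∃ m : PicF.Cl T.left, PicF.IsInvertibleCl m ∧
        PicF.cl x = PicF.pullCl (PicF.XTmap f g) (univCl f σ hσ ξ (a := a)) * PicF.pullCl (PicF.XTproj f T) m := by
    intro g
    rw [r_iff, show PicF.cl ((ModFun.PicDeg f d).pull g E) = PicF.pullCl (PicF.XTmap f g) (PicF.cl E) from rfl, hE]
  obtain ⟨g, hg, hg'⟩ := existsUnique_classify f hdim σ hσ ξ hξ huniv ha had ⟨x, rfl, hxi⟩ hxd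
  exact ⟨g, (key g).2 hg, fun g₂ h => hg' g₂ ((key g₂).1 h)⟩

end Univ

section Coarse

variable {d : ℤ} {J : Over (Spec (CommRingCat.of k))} {E : (PicF.XT f J).Modules}
  (hu : ModFun.IsUnivFamily ⊤ (ModFun.PicDeg f d) J E)

include hdim in
theorem ok_pull {T T' : Over (Spec (CommRingCat.of k))} (g : T' ⟶ T) {x : (PicF.XT f T).Modules}
    (hx : (ModFun.PicDeg f d).ok T x) : (ModFun.PicDeg f d).ok T' ((ModFun.PicDeg f d).pull g x) := by
  obtain ⟨hi, hd⟩ := (ok_iff f hdim d T x).1 hx
  refine (ok_iff f hdim d T' _).2 ⟨PicClLib.isInvertible_pullback _ hi, fun t => ?_⟩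
  show degCl f (PicF.pullCl (PicF.XTmap f g) (PicF.cl x)) t = d
  rw [degCl_pull f g ⟨x, rfl, hi⟩, hd]

theorem r_pull {T T' : Over (Spec (CommRingCat.of k))} (g : T' ⟶ T) {x y : (PicF.XT f T).Modules}
    (h : (ModFun.PicDeg f d).r T x y) :
    (ModFun.PicDeg f d).r T' ((ModFun.PicDeg f d).pull g x) ((ModFun.PicDeg f d).pull g y) := by
  obtain ⟨m, hm, e⟩ := (r_iff f d T x y).1 h
  refine (r_iff f d T' _ _).2 ⟨PicF.pullCl g.left m, FppfPic.isInvertibleCl_pull _ hm, ?_⟩
  show PicF.pullCl (PicF.XTmap f g) (PicF.cl y) = PicF.pullCl (PicF.XTmap f g) (PicF.cl x) * _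
  rw [e, pullCl_mul, pull_proj]

theorem r_pull_pull {T T' T'' : Over (Spec (CommRingCat.of k))} (g : T'' ⟶ T') (g' : T' ⟶ T)
    (x : (PicF.XT f T).Modules) :
    (ModFun.PicDeg f d).r T'' ((ModFun.PicDeg f d).pull (g ≫ g') x)
      ((ModFun.PicDeg f d).pull g ((ModFun.PicDeg f d).pull g' x)) := by
  refine (r_iff f d T'' _ _).2 ⟨1, ⟨_, rfl, PicLoc.isInvertible_structureModule _⟩, ?_⟩
  show PicF.pullCl (PicF.XTmap f g) (PicF.pullCl (PicF.XTmap f g') (PicF.cl x)) =
    PicF.pullCl (PicF.XTmap f (g ≫ g')) (PicF.cl x) * _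
  rw [pullCl_one, _root_.mul_one, FppfPic.pullCl_XTmap_comp]

theorem r_symm {T : Over (Spec (CommRingCat.of k))} {x y : (PicF.XT f T).Modules}
    (h : (ModFun.PicDeg f d).r T x y) : (ModFun.PicDeg f d).r T y x := by
  obtain ⟨m, hm, e⟩ := (r_iff f d T x y).1 h
  refine (r_iff f d T y x).2 ⟨invCl hm, isInvertibleCl_invCl hm, ?_⟩
  rw [e, _root_.mul_assoc, ← pullCl_mul, mul_invCl, pullCl_one, _root_.mul_one]

theorem r_trans {T : Over (Spec (CommRingCat.of k))} {x y z : (PicF.XT f T).Modules}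
    (h : (ModFun.PicDeg f d).r T x y) (h' : (ModFun.PicDeg f d).r T y z) : (ModFun.PicDeg f d).r T x z := by
  obtain ⟨m, hm, e⟩ := (r_iff f d T x y).1 h
  obtain ⟨m', hm', e'⟩ := (r_iff f d T y z).1 h'
  refine (r_iff f d T x z).2 ⟨m * m', isInvertibleCl_mul hm hm', ?_⟩
  rw [e', e, pullCl_mul, _root_.mul_assoc]

include hu in
/-- the classifying maps on a class of test schemes -/
def classHom (P : ObjectProperty (Over (Spec (CommRingCat.of k)))) : (ModFun.PicDeg f d).Hom P J where
  app T x _ hx := (hu.2 T x trivial hx).choose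
  natural {T T'} g x hT hT' hx hx' := by
    refine ((hu.2 T' _ trivial hx').unique (hu.2 T' _ trivial hx').choose_spec.1 ?_)
    exact r_trans f (r_pull_pull f g _ E) (r_pull f g (hu.2 T x trivial hx).choose_spec.1)
  resp {T} x y hT hx hy h :=
    (hu.2 T y trivial hy).unique (r_trans f (hu.2 T x trivial hx).choose_spec.1 h) (hu.2 T y trivial hy).choose_spec.1

include hdim hu in
theorem classHom_pull (P : ObjectProperty (Over (Spec (CommRingCat.of k)))) {T : Over (Spec (CommRingCat.of k))}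
    (hT : P T) (g : T ⟶ J) :
    (classHom f hu P).app T ((ModFun.PicDeg f d).pull g E) hT (ok_pull f hdim g hu.1) = g :=
  (hu.2 T _ trivial (ok_pull f hdim g hu.1)).unique (hu.2 T _ trivial (ok_pull f hdim g hu.1)).choose_spec.1
    ((r_iff f d T _ _).2 ⟨1, ⟨_, rfl, PicLoc.isInvertible_structureModule _⟩, by rw [pullCl_one, _root_.mul_one]⟩)

include hdim hu in
theorem geomBij_classHom (P : ObjectProperty (Over (Spec (CommRingCat.of k)))) :
    ModFun.GeomBij (ModFun.PicDeg f d) J (classHom f hu P) := fun Ω _ _ t hP =>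
  ⟨fun g => ⟨_, _, classHom_pull f hdim hu P hP g⟩, fun x y hx hy h =>
    r_trans f (r_symm f (hu.2 _ x trivial hx).choose_spec.1) (by
      rw [show (hu.2 _ x trivial hx).choose = (hu.2 _ y trivial hy).choose from h]
      exact (hu.2 _ y trivial hy).choose_spec.1)⟩

include hdim hu in
/-- two points of `J` agreeing on an affine test scheme give equal values -/
theorem agree {N : Over (Spec (CommRingCat.of k))}
    (ψ : (ModFun.PicDeg f d).Hom (fun T => IsAffine T.left) N) {R A B : Over (Spec (CommRingCat.of k))}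
    (hR : IsAffine R.left) (hA : IsAffine A.left) (hB : IsAffine B.left) (p : R ⟶ A) (q : R ⟶ B) (a : A ⟶ J)
    (b : B ⟶ J) (h : p ≫ a = q ≫ b) :
    p ≫ ψ.app A ((ModFun.PicDeg f d).pull a E) hA (ok_pull f hdim a hu.1) =
      q ≫ ψ.app B ((ModFun.PicDeg f d).pull b E) hB (ok_pull f hdim b hu.1) := by
  rw [← ψ.natural p _ hA hR _ (ok_pull f hdim p (ok_pull f hdim a hu.1)),
    ← ψ.natural q _ hB hR _ (ok_pull f hdim q (ok_pull f hdim b hu.1))]
  refine ψ.resp _ _ hR _ _ (r_trans f (r_symm f (r_pull_pull f p a E)) ?_)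
  rw [h]
  exact r_pull_pull f q b E

include hdim hu in
/-- the values on an affine covering glue -/
theorem exists_glue_cover [IsSeparated J.hom] {N : Over (Spec (CommRingCat.of k))}
    (ψ : (ModFun.PicDeg f d).Hom (fun T => IsAffine T.left) N) :
    ∃ (G : J ⟶ N), ∀ (i : J.left.affineCover.I₀)
      (hU : IsAffine (Over.mk (J.left.affineCover.f i ≫ J.hom)).left),
      (Over.homMk (J.left.affineCover.f i) rfl : Over.mk (J.left.affineCover.f i ≫ J.hom) ⟶ J) ≫ G =
        ψ.app _ ((ModFun.PicDeg f d).pull (Over.homMk (J.left.affineCover.f i) rfl :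
          Over.mk (J.left.affineCover.f i ≫ J.hom) ⟶ J) E) hU (ok_pull f hdim _ hu.1) := by
  haveI : J.left.IsSeparated := ⟨by
    rw [← Limits.terminal.comp_from J.hom]
    infer_instance⟩
  let 𝒰 := J.left.affineCover
  let U : 𝒰.I₀ → Over (Spec (CommRingCat.of k)) := fun i => Over.mk (𝒰.f i ≫ J.hom)
  let incl : ∀ i, U i ⟶ J := fun i => Over.homMk (𝒰.f i) rfl
  have hU : ∀ i, IsAffine (U i).left := fun i => inferInstanceAs (IsAffine (𝒰.X i))
  haveI : ∀ i, IsAffine (𝒰.X i) := hU
  haveI : ∀ i, IsAffineHom (𝒰.f i) := fun i => by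
    haveI : IsAffineHom (𝒰.f i ≫ terminal.from J.left) := by rw [terminal.comp_from]; infer_instance
    exact IsAffineHom.of_comp (𝒰.f i) (terminal.from J.left)
  let ψi : ∀ i, (U i).left ⟶ N.left := fun i =>
    (ψ.app (U i) ((ModFun.PicDeg f d).pull (incl i) E) (hU i) (ok_pull f hdim _ hu.1)).left
  have hψ : ∀ i j, pullback.fst (𝒰.f i) (𝒰.f j) ≫ ψi i = pullback.snd _ _ ≫ ψi j := fun i j => by
    let R : Over (Spec (CommRingCat.of k)) := Over.mk (pullback.fst (𝒰.f i) (𝒰.f j) ≫ (U i).hom)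
    let p : R ⟶ U i := Over.homMk (pullback.fst _ _) rfl
    let q : R ⟶ U j := Over.homMk (pullback.snd _ _) (by
      show pullback.snd _ _ ≫ 𝒰.f j ≫ J.hom = pullback.fst _ _ ≫ 𝒰.f i ≫ J.hom
      rw [pullback.condition_assoc])
    exact congrArg (fun m => m.left) (agree f hdim hu ψ (R := R)
      (inferInstanceAs (IsAffine (pullback (𝒰.f i) (𝒰.f j)))) (hU i) (hU j) p q (incl i) (incl j)
      (Over.OverMorphism.ext pullback.condition))
  refine ⟨Over.homMk (𝒰.glueMorphisms ψi hψ) (Scheme.Cover.hom_ext 𝒰 _ _ fun i => ?_), fun i _ =>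
    Over.OverMorphism.ext (Scheme.Cover.ι_glueMorphisms 𝒰 ψi hψ i)⟩
  rw [← Category.assoc, Scheme.Cover.ι_glueMorphisms]
  exact Over.w (ψ.app (U i) ((ModFun.PicDeg f d).pull (incl i) E) (hU i) (ok_pull f hdim _ hu.1))

include hdim hu in
/-- the glued morphism gives the value at every affine point -/
theorem exists_descend [IsSeparated J.hom] {N : Over (Spec (CommRingCat.of k))}
    (ψ : (ModFun.PicDeg f d).Hom (fun T => IsAffine T.left) N) :
    ∃ G : J ⟶ N, ∀ (A : Over (Spec (CommRingCat.of k))) (hA : IsAffine A.left) (a : A ⟶ J),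
      a ≫ G = ψ.app A ((ModFun.PicDeg f d).pull a E) hA (ok_pull f hdim a hu.1) := by
  obtain ⟨G, hG⟩ := exists_glue_cover f hdim hu ψ
  refine ⟨G, fun A hA a => Over.OverMorphism.ext (Scheme.Cover.hom_ext (J.left.affineCover.pullback₁ a.left) _ _
    fun (i : J.left.affineCover.I₀) => Scheme.Cover.hom_ext
      (pullback a.left (J.left.affineCover.f i)).affineCover _ _ fun z => ?_)⟩
  let Q := pullback a.left (J.left.affineCover.f i)
  let R : Over (Spec (CommRingCat.of k)) := Over.mk ((Q.affineCover.f z ≫ pullback.fst _ _) ≫ A.hom)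
  let v : R ⟶ A := Over.homMk (Q.affineCover.f z ≫ pullback.fst _ _) rfl
  let U : Over (Spec (CommRingCat.of k)) := Over.mk (J.left.affineCover.f i ≫ J.hom)
  let incl : U ⟶ J := Over.homMk (J.left.affineCover.f i) rfl
  have hR : IsAffine R.left := inferInstanceAs (IsAffine (Q.affineCover.X z))
  have hU : IsAffine U.left := inferInstanceAs (IsAffine (J.left.affineCover.X i))
  let w : R ⟶ U := Over.homMk (Q.affineCover.f z ≫ pullback.snd _ _) (by
    show (_ ≫ pullback.snd a.left (J.left.affineCover.f i)) ≫ J.left.affineCover.f i ≫ J.hom = _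
    rw [Category.assoc, ← pullback.condition_assoc, Over.w a, ← Category.assoc]
    rfl)
  have hvw : v ≫ a = w ≫ incl := Over.OverMorphism.ext (by
    show (_ ≫ pullback.fst a.left (J.left.affineCover.f i)) ≫ a.left = (_ ≫ pullback.snd _ _) ≫ _
    rw [Category.assoc, Category.assoc, pullback.condition]
    rfl)
  have e : v ≫ a ≫ G = v ≫ ψ.app A ((ModFun.PicDeg f d).pull a E) hA (ok_pull f hdim a hu.1) := by
    rw [← Category.assoc, hvw, Category.assoc, hG i hU]
    exact agree f hdim hu ψ hR hU hA w v incl a hvw.symm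
  exact ((Category.assoc _ _ _).symm.trans (congrArg (fun m => m.left) e)).trans (Category.assoc _ _ _)

include hdim hu in
/-- universality among morphisms tested on affine schemes -/
theorem isBestApprox_affine [IsSeparated J.hom] :
    ModFun.IsBestApprox (fun T => IsAffine T.left) (ModFun.PicDeg f d) J
      (classHom f hu fun T => IsAffine T.left) := by
  intro N ψ
  obtain ⟨G, hG⟩ := exists_descend f hdim hu ψ
  refine ⟨G, fun T x hT hx => ?_, fun G' hG' => ?_⟩
  · exact (ψ.resp _ x hT (ok_pull f hdim _ hu.1) hx (hu.2 T x trivial hx).choose_spec.1).symm.trans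
      (hG T hT (hu.2 T x trivial hx).choose).symm
  · refine Over.OverMorphism.ext (Scheme.Cover.hom_ext J.left.affineCover _ _ fun i => ?_)
    let U : Over (Spec (CommRingCat.of k)) := Over.mk (J.left.affineCover.f i ≫ J.hom)
    let incl : U ⟶ J := Over.homMk (J.left.affineCover.f i) rfl
    have hU : IsAffine U.left := inferInstanceAs (IsAffine (J.left.affineCover.X i))
    have h := hG' U ((ModFun.PicDeg f d).pull incl E) hU (ok_pull f hdim _ hu.1)
    rw [classHom_pull f hdim hu (fun T => IsAffine T.left) hU] at h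
    exact congrArg (fun m => m.left) (h.symm.trans (hG U hU incl).symm)

end Coarse

/-- over an algebraically closed field: the Picard scheme of degree `d` is smooth, projective and universal -/
theorem exists_picDeg {k : Type u} [Field k] [IsAlgClosed k] (X : Scheme.{u})
    [X.Over (Spec (CommRingCat.of k))] [IsIntegral X] [IsProper (X ↘ Spec (CommRingCat.of k))]
    [Smooth (X ↘ Spec (CommRingCat.of k))] (hdim : topologicalKrullDim X = 1) (d : ℤ) :
    ∃ (J : Over (Spec (CommRingCat.of k))) (E : (PicF.XT (X ↘ Spec (CommRingCat.of k)) J).Modules),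
      RelProj.IsHProjective J.hom ∧ Smooth J.hom ∧ IsSeparated J.hom ∧
      ModFun.IsUnivFamily ⊤ (ModFun.PicDeg (X ↘ Spec (CommRingCat.of k)) d) J E ∧
      Nonempty (base k ⟶ J) ∧
      (∀ (T : Over (Spec (CommRingCat.of k))) (a : T ⟶ J),
        (ModFun.PicDeg (X ↘ Spec (CommRingCat.of k)) d).ok T
          ((ModFun.PicDeg (X ↘ Spec (CommRingCat.of k)) d).pull a E)) ∧
      ∃ φ : (ModFun.PicDeg (X ↘ Spec (CommRingCat.of k)) d).Hom (fun T => IsAffine T.left) J,
        ModFun.IsCoarseModuli (fun T => IsAffine T.left) (ModFun.PicDeg (X ↘ Spec (CommRingCat.of k)) d) J φ := by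
  let f := X ↘ Spec (CommRingCat.of k)
  haveI : IsProper f := ‹_›
  haveI : Smooth f := ‹_›
  haveI : Subsingleton (Spec (CommRingCat.of k)) := inferInstanceAs (Subsingleton (PrimeSpectrum k))
  haveI : Nonempty (Spec (CommRingCat.of k)) := inferInstanceAs (Nonempty (PrimeSpectrum k))
  haveI : ConnectedSpace (Spec (CommRingCat.of k)) := inferInstance
  obtain ⟨σ, hσ, -⟩ := GrpSchLib.exists_point_of_smooth f ⊤ (x := Classical.arbitrary X) trivial
  haveI : GeometricallyIntegral f := S7791.result f σ hσ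
  haveI : SmoothOfRelativeDimension 1 f := HilbCurve.smoothOfRelativeDimension_one f hdim
  obtain ⟨J, ξ, hpr, hsm, hgi, hξ, huniv⟩ := exists_jacobian_field f hdim σ hσ
  haveI := hpr; haveI := hsm; haveI := hgi
  haveI : IrreducibleSpace J.left := GeometricallyIrreducible.irreducibleSpace_of_subsingleton J.hom
  letI := jacGrpObj f hdim σ hσ ξ hξ huniv
  haveI : GeometricallyIntegral J.hom := S7791.result J.hom η[J].left (Over.w η[J])
  obtain ⟨S, hS, hcl⟩ := CurveSection.exists_closed_finset k hdim 1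
  obtain ⟨x, hx⟩ := Finset.card_pos.1 (by omega : 0 < S.card)
  have hI := CurvePoint.isInvertible_ptMod x (hcl x hx) k hdim
  let u : (PicLoc.PicSet X) := ⟨PicF.cl (CurvePoint.ptMod x (hcl x hx)), _, rfl, hI⟩
  letI : PicGrp.Law X := H23.PicMul.law X
  have hdeg : ∀ m : ℤ, degX f (u ^ m).1 = -m := by
    have h1 : degX f u.1 = -1 := (degX_cl hdim.le hI).trans
      (deg_ptMod k hdim x (hcl x hx) (CurveSection.surjective_resMap k (hcl x hx)))
    let D : Additive (PicLoc.PicSet X) →+ ℤ :=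
      AddMonoidHom.mk' (fun c => degX f c.toMul.1) (fun a b => degX_mul f hdim a.toMul.2 b.toMul.2)
    intro m
    show D (m • Additive.ofMul u) = -m
    rw [map_zsmul, show D (Additive.ofMul u) = -1 from h1]
    simp
  have ha : PicF.IsInvertibleCl (u ^ (-d)).1 := (u ^ (-d)).2
  obtain ⟨E, hE, -⟩ := isInvertibleCl_univCl f σ hσ ξ ha
  obtain ⟨M, hM⟩ := AVProj.exists_isAmple (X := J)
  haveI : LocallyOfFiniteType J.hom := inferInstance
  obtain ⟨n, -, N, i, hi, hiJ, -⟩ := (S2330.result J.hom M hM.1).1.1 hM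
  haveI := hi
  haveI : IsProper (CohB1.ProjSpaceOver.toBase N (Spec (CommRingCat.of k))) := TwistFlat.isProper_toBase N
  haveI : QuasiCompact (i ≫ CohB1.ProjSpaceOver.toBase N (Spec (CommRingCat.of k))) := by
    rw [show i ≫ CohB1.ProjSpaceOver.toBase N (Spec (CommRingCat.of k)) = J.hom from hiJ]; infer_instance
  haveI : QuasiCompact i := QuasiCompact.of_comp i (CohB1.ProjSpaceOver.toBase N (Spec (CommRingCat.of k)))
  have hu := isUnivFamily_picDeg f hdim σ hσ ξ hξ huniv (a := (u ^ (-d)).1) ha (d := d) (by rw [hdeg, neg_neg]) hE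
  exact ⟨J, E, (ProjLoc.isHProjective_iff J.hom).2 ⟨⟨N, i, hi, inferInstance, hiJ⟩, hpr⟩, hsm, inferInstance,
    hu, ⟨η[J]⟩, fun T a => ok_pull f hdim a hu.1, classHom f hu fun T => IsAffine T.left,
    fun Ω _ _ t => inferInstanceAs (IsAffine (Spec (CommRingCat.of Ω))), isBestApprox_affine f hdim hu,
    geomBij_classHom f hdim hu fun T => IsAffine T.left⟩

end Groth.Agent.PicCurve

end
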