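import Groth.Agent.HilbCurve.Main

/-!
# The Hilbert schemes of points of a curve are irreducible
-/

noncomputable section

set_option autoImplicit false
set_option linter.style.haveILetI false
set_option linter.unusedSectionVars false
set_option backward.isDefEq.respectTransparency false
set_option backward.isDefEq.respectTransparency.types false
set_option maxHeartbeats 1000000
set_option synthInstance.maxHeartbeats 400000
attribute [-instance] CategoryTheory.catToReflQuiver

universe u

open CategoryTheory CategoryTheory.Limits AlgebraicGeometry TopologicalSpace Opposite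

namespace Groth.Agent.PicCurve

variable {X S : Scheme.{u}} (f : X ⟶ S) [SmoothOfRelativeDimension 1 f] [Flat f] [LocallyOfFinitePresentation f]
  [IsSeparated f] [GeometricallyIrreducible f]

/-- the Hilbert schemes are irreducible and have sections -/
theorem irreducible_of_isUniversal [IrreducibleSpace S] (σ : S ⟶ X) (hσ : σ ≫ f = 𝟙 S)
    (hrep : ∀ e : ℕ, HilbD.Representable f e) (d : ℕ) :
    ∀ (H : Over S) (Z : HilbD.Obj f d H), HilbD.IsUniversal f d H Z →
      IrreducibleSpace H.left ∧ Nonempty (Over.mk (𝟙 S) ⟶ H) := by
  induction d with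
  | zero =>
    intro H Z hZ
    haveI := HilbDLib.isIso_of_isUniversal_zero f H Z hZ
    exact ⟨(Scheme.homeoOfIso (asIso H.hom)).irreducibleSpace_iff.2 inferInstance,
      ⟨Over.homMk (inv H.hom) (by simp)⟩⟩
  | succ d ih =>
    intro H' Z' hZ'
    obtain ⟨H, Z, hZ⟩ := hrep d
    obtain ⟨hirr, ⟨p⟩⟩ := ih H Z hZ
    obtain ⟨m, hm⟩ := HilbDLib.exists_addPoint f d H Z H' Z' hZ'
    haveI := HilbDLib.addPoint_surjective d m.left (HilbDLib.addPoint_deg f d H Z hZ H' Z' hZ' m hm)
    haveI := hirr
    haveI : IrreducibleSpace (HilbDLib.HX f H).left :=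
      GeometricallyIrreducible.irreducibleSpace (pullback.fst H.hom f) (pullback.fst H.hom f).isOpenMap
    refine ⟨(irreducibleSpace_def _).2 (by
      have h := (IrreducibleSpace.isIrreducible_univ (HilbDLib.HX f H).left).image m.left m.left.continuous.continuousOn
      rwa [Set.image_univ, (Surjective.surj (f := m.left)).range_eq] at h),
      ⟨Over.homMk (pullback.lift p.left σ (by rw [Over.w p, hσ]; rfl)) ?_ ≫ m⟩⟩
    show pullback.lift p.left σ _ ≫ pullback.fst H.hom f ≫ H.hom = _
    rw [pullback.lift_fst_assoc, Over.w p]

end Groth.Agent.PicCurve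

end
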