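import Groth.Agent.PicCurve.DegFunctor

/-!
# Rigidified classes after an extension of the ground field
-/

noncomputable section

set_option autoImplicit false
set_option linter.style.haveILetI false
set_option linter.unusedSectionVars false
set_option backward.isDefEq.respectTransparency false
set_option backward.isDefEq.respectTransparency.types false
set_option maxHeartbeats 1000000
set_option synthInstance.maxHeartbeats 400000
attribute [-instance] CategoryTheory.catToReflQuiver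

universe u

open CategoryTheory CategoryTheory.Limits AlgebraicGeometry TopologicalSpace Opposite
open Groth.Agent.H23.PicMul

namespace Groth.Agent.PicCurve

open RepDescent (below)

variable {k L : Type u} [Field k] [Field L] {X : Scheme.{u}} (f : X ⟶ Spec (CommRingCat.of k))
  (ρ : Spec (CommRingCat.of L) ⟶ Spec (CommRingCat.of k))

/-- the curve over the extension -/
abbrev fL : pullback f ρ ⟶ Spec (CommRingCat.of L) := pullback.snd f ρ

variable (σ : Spec (CommRingCat.of k) ⟶ X) (hσ : σ ≫ f = 𝟙 _)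

/-- the section over the extension -/
abbrev σL : Spec (CommRingCat.of L) ⟶ pullback f ρ :=
  pullback.lift (ρ ≫ σ) (𝟙 _) (by rw [Category.assoc, hσ, Category.comp_id, Category.id_comp])

theorem hσL : σL f ρ σ hσ ≫ fL f ρ = 𝟙 _ := pullback.lift_snd _ _ _

/-- a morphism over the extension, over the base -/
abbrev bmap {T T' : Over (Spec (CommRingCat.of L))} (g : T' ⟶ T) : below ρ T' ⟶ below ρ T :=
  Over.homMk g.left (by
    show g.left ≫ T.hom ≫ ρ = T'.hom ≫ ρ
    rw [← Category.assoc, Over.w g])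

/-- comparison of the families -/
def cmp (T : Over (Spec (CommRingCat.of L))) : PicF.XT (fL f ρ) T ≅ PicF.XT f (below ρ T) :=
  pullbackLeftPullbackSndIso f ρ T.hom

theorem cmp_proj (T : Over (Spec (CommRingCat.of L))) :
    (cmp f ρ T).hom ≫ PicF.XTproj f (below ρ T) = PicF.XTproj (fL f ρ) T :=
  pullbackLeftPullbackSndIso_hom_snd f ρ T.hom

theorem cmp_fst (T : Over (Spec (CommRingCat.of L))) :
    (cmp f ρ T).hom ≫ pullback.fst f (below ρ T).hom = pullback.fst (fL f ρ) T.hom ≫ pullback.fst f ρ :=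
  pullbackLeftPullbackSndIso_hom_fst f ρ T.hom

theorem cmp_map {T T' : Over (Spec (CommRingCat.of L))} (g : T' ⟶ T) :
    PicF.XTmap (fL f ρ) g ≫ (cmp f ρ T).hom = (cmp f ρ T').hom ≫ PicF.XTmap f (bmap ρ g) := by
  refine pullback.hom_ext ?_ ?_
  · simp [cmp, PicF.XTmap, pullbackLeftPullbackSndIso_hom_fst]
  · simp [cmp, PicF.XTmap, pullbackLeftPullbackSndIso_hom_snd, pullbackLeftPullbackSndIso_hom_snd_assoc]

theorem cmp_sec (T : Over (Spec (CommRingCat.of L))) :
    PicF.secT (fL f ρ) (σL f ρ σ hσ) (hσL f ρ σ hσ) T ≫ (cmp f ρ T).hom =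
      PicF.secT f σ hσ (below ρ T) := by
  refine pullback.hom_ext ?_ ?_
  · simp [cmp, PicF.secT, pullbackLeftPullbackSndIso_hom_fst, σL]
  · simp [cmp, PicF.secT, pullbackLeftPullbackSndIso_hom_snd]

/-- classes over the extension as classes over the base -/
def toBelow {T : Over (Spec (CommRingCat.of L))}
    (c : PicF.Rig (fL f ρ) (σL f ρ σ hσ) (hσL f ρ σ hσ) T) : PicF.Rig f σ hσ (below ρ T) :=
  ⟨PicF.pullCl (cmp f ρ T).inv c.1, FppfPic.isInvertibleCl_pull _ c.2.1, by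
    show PicF.pullCl _ (PicF.pullCl _ c.1) = 1
    rw [PicClLib.pullCl_comp, ← cmp_sec f ρ σ hσ, Category.assoc, Iso.hom_inv_id, Category.comp_id]
    exact c.2.2⟩

/-- classes over the base as classes over the extension -/
def ofBelow {T : Over (Spec (CommRingCat.of L))} (c : PicF.Rig f σ hσ (below ρ T)) :
    PicF.Rig (fL f ρ) (σL f ρ σ hσ) (hσL f ρ σ hσ) T :=
  ⟨PicF.pullCl (cmp f ρ T).hom c.1, FppfPic.isInvertibleCl_pull _ c.2.1, by
    show PicF.pullCl _ (PicF.pullCl _ c.1) = 1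
    rw [PicClLib.pullCl_comp, cmp_sec f ρ σ hσ]
    exact c.2.2⟩

theorem toBelow_ofBelow {T : Over (Spec (CommRingCat.of L))} (c : PicF.Rig f σ hσ (below ρ T)) :
    toBelow f ρ σ hσ (ofBelow f ρ σ hσ c) = c :=
  Subtype.ext (by
    show PicF.pullCl _ (PicF.pullCl _ c.1) = c.1
    rw [PicClLib.pullCl_comp, Iso.inv_hom_id, PicClLib.pullCl_id])

theorem ofBelow_toBelow {T : Over (Spec (CommRingCat.of L))}
    (c : PicF.Rig (fL f ρ) (σL f ρ σ hσ) (hσL f ρ σ hσ) T) : ofBelow f ρ σ hσ (toBelow f ρ σ hσ c) = c :=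
  Subtype.ext (by
    show PicF.pullCl _ (PicF.pullCl _ c.1) = c.1
    rw [PicClLib.pullCl_comp, Iso.hom_inv_id, PicClLib.pullCl_id])

theorem toBelow_pull {T T' : Over (Spec (CommRingCat.of L))} (g : T' ⟶ T)
    (c : PicF.Rig (fL f ρ) (σL f ρ σ hσ) (hσL f ρ σ hσ) T) :
    rigPull f σ hσ (bmap ρ g) (toBelow f ρ σ hσ c) =
      toBelow f ρ σ hσ (rigPull (fL f ρ) (σL f ρ σ hσ) (hσL f ρ σ hσ) g c) :=
  Subtype.ext (by
    show PicF.pullCl _ (PicF.pullCl _ c.1) = PicF.pullCl _ (PicF.pullCl _ c.1)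
    rw [PicClLib.pullCl_comp, PicClLib.pullCl_comp]
    refine congrArg (fun m => PicF.pullCl m c.1) ?_
    rw [Iso.comp_inv_eq, Category.assoc, cmp_map, Iso.inv_hom_id_assoc])

variable [IsProper f]

theorem deg0At_toBelow {T : Over (Spec (CommRingCat.of L))}
    (c : PicF.Rig (fL f ρ) (σL f ρ σ hσ) (hσL f ρ σ hσ) T) (t : T.left) :
    Deg0At f (toBelow f ρ σ hσ c).1 t ↔ Deg0At (fL f ρ) c.1 t := by
  haveI : IsProper (PicF.XTproj (fL f ρ) T) := inferInstanceAs (IsProper (pullback.snd (fL f ρ) T.hom))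
  obtain ⟨N, hN, hNi⟩ := c.2.1
  have hd : ∀ (M : (PicF.XT f (below ρ T)).Modules) (hM : PicF.cl M = (toBelow f ρ σ hσ c).1),
      Deg0At f (toBelow f ρ σ hσ c).1 t ↔
        chiAt (PicF.XTproj f (below ρ T)) M t = chiAt (PicF.XTproj f (below ρ T)) (Coh.structureModule _) t := by
    intro M hM
    rw [← hM]
    exact deg0At_cl f M t
  let G : PicF.XT f (below ρ T) ⟶ PicF.XT (fL f ρ) T := (cmp f ρ T).inv
  have hw : G ≫ PicF.XTproj (fL f ρ) T = PicF.XTproj f (below ρ T) ≫ 𝟙 T.left :=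
    ((Iso.inv_comp_eq _).2 (cmp_proj f ρ T).symm).trans (Category.comp_id _).symm
  haveI : IsIso G := inferInstanceAs (IsIso (cmp f ρ T).inv)
  have hpb : IsPullback G (PicF.XTproj f (below ρ T)) (PicF.XTproj (fL f ρ) T) (𝟙 T.left) :=
    haveI : IsIso (𝟙 T.left) := IsIso.id T.left
    @IsPullback.of_horiz_isIso _ _ _ _ _ _ _ _ _ _ ‹IsIso G› ‹IsIso (𝟙 T.left)› ⟨hw⟩
  have h1 := chiAt_bc (PicF.XTproj (fL f ρ) T) hpb (isQCoh_inv hNi) t
  have h2 := chiAt_bc (PicF.XTproj (fL f ρ) T) hpb (PnCoh.isQCoh_structureModule _) t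
  have h3 := chiAt_congr (PicF.XTproj f (below ρ T)) (CurveBC.unitIso G) t
  have hM : PicF.cl ((Scheme.Modules.pullback G).obj N) = (toBelow f ρ σ hσ c).1 :=
    congrArg (PicF.pullCl G) hN
  refine (hd _ hM).trans ?_
  rw [← hN, deg0At_cl]
  constructor
  · intro h
    exact (h1.symm.trans (h.trans (h3.symm.trans h2)) : _)
  · intro h
    exact h1.trans (h.trans (h2.symm.trans h3))

theorem deg0Cl_toBelow {T : Over (Spec (CommRingCat.of L))}
    (c : PicF.Rig (fL f ρ) (σL f ρ σ hσ) (hσL f ρ σ hσ) T) :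
    FGA.HasFibreDegreeZeroCl f (below ρ T) (toBelow f ρ σ hσ c).1 ↔ FGA.HasFibreDegreeZeroCl (fL f ρ) T c.1 := by
  rw [hasFibreDegreeZeroCl_iff, hasFibreDegreeZeroCl_iff]
  exact forall_congr' fun t => deg0At_toBelow f ρ σ hσ c t

end Groth.Agent.PicCurve

end
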