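import Groth.Agent.PicCurve.Classes

/-!
# The rigidified Picard functor is representable once it has an atlas
-/

noncomputable section

set_option autoImplicit false
set_option linter.style.haveILetI false
set_option linter.unusedSectionVars false
set_option backward.isDefEq.respectTransparency false
set_option backward.isDefEq.respectTransparency.types false
set_option maxHeartbeats 1000000
set_option synthInstance.maxHeartbeats 400000
attribute [-instance] CategoryTheory.catToReflQuiver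

universe u

open CategoryTheory CategoryTheory.Limits AlgebraicGeometry TopologicalSpace Opposite

namespace Groth.Agent.PicCurve

variable {X S : Scheme.{u}} (f : X ⟶ S) (σ : S ⟶ X) (hσ : σ ≫ f = 𝟙 S)

/-- an open piece as an object over the base -/
abbrev opn (T : Over S) (O : T.left.Opens) : Over S := AbDual.ovr T O.ι

/-- open charts of the rigidified Picard functor -/
structure Atlas where
  ι : Type u
  W : ι → Over S
  ξ : ∀ i, PicF.Rig f σ hσ (W i)
  mono : ∀ (i : ι) (T : Over S) (g g' : T ⟶ W i), rigPull f σ hσ g (ξ i) = rigPull f σ hσ g' (ξ i) → g = g'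
  loc : ∀ (T : Over S) (c : PicF.Rig f σ hσ T) (i : ι), ∃ (O : T.left.Opens) (g : opn T O ⟶ W i),
    rigPull f σ hσ (AbDual.ovrHom T O.ι) c = rigPull f σ hσ g (ξ i) ∧
      ∀ (T' : Over S) (m : T' ⟶ T) (g' : T' ⟶ W i),
        rigPull f σ hσ m c = rigPull f σ hσ g' (ξ i) → Set.range m.left ⊆ (O : Set T.left)
  cover : ∀ (T : Over S) (c : PicF.Rig f σ hσ T) (t : T.left), ∃ (i : ι) (T' : Over S) (m : T' ⟶ T) (g' : T' ⟶ W i),
    t ∈ Set.range m.left ∧ rigPull f σ hσ m c = rigPull f σ hσ g' (ξ i)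

variable {f σ hσ} (A : Atlas f σ hσ)

namespace Atlas

/-- the chart locus of a class -/
def O {T : Over S} (c : PicF.Rig f σ hσ T) (i : A.ι) : T.left.Opens := (A.loc T c i).choose

/-- the chart map of a class -/
def g {T : Over S} (c : PicF.Rig f σ hσ T) (i : A.ι) : opn T (A.O c i) ⟶ A.W i := (A.loc T c i).choose_spec.choose

theorem g_spec {T : Over S} (c : PicF.Rig f σ hσ T) (i : A.ι) :
    rigPull f σ hσ (AbDual.ovrHom T (A.O c i).ι) c = rigPull f σ hσ (A.g c i) (A.ξ i) :=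
  (A.loc T c i).choose_spec.choose_spec.1

theorem range_subset {T : Over S} (c : PicF.Rig f σ hσ T) (i : A.ι) {T' : Over S} (m : T' ⟶ T) (g' : T' ⟶ A.W i)
    (h : rigPull f σ hσ m c = rigPull f σ hσ g' (A.ξ i)) : Set.range m.left ⊆ (A.O c i : Set T.left) :=
  (A.loc T c i).choose_spec.choose_spec.2 T' m g' h

/-- lifting into the chart locus -/
theorem exists_lift {T : Over S} (c : PicF.Rig f σ hσ T) (i : A.ι) {T' : Over S} (m : T' ⟶ T) (g' : T' ⟶ A.W i)
    (h : rigPull f σ hσ m c = rigPull f σ hσ g' (A.ξ i)) :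
    ∃ l : T' ⟶ opn T (A.O c i), l ≫ AbDual.ovrHom T (A.O c i).ι = m ∧ l ≫ A.g c i = g' := by
  have hr : Set.range m.left ⊆ Set.range (A.O c i).ι := by
    rw [Scheme.Opens.range_ι]
    exact A.range_subset c i m g' h
  refine ⟨Over.homMk (IsOpenImmersion.lift (A.O c i).ι m.left hr) ?_, ?_, ?_⟩
  · show _ ≫ (A.O c i).ι ≫ T.hom = T'.hom
    rw [IsOpenImmersion.lift_fac_assoc, Over.w]
  · exact Over.OverMorphism.ext (IsOpenImmersion.lift_fac _ _ _)
  · refine A.mono i _ _ _ ?_
    rw [← rigPull_comp, ← A.g_spec, rigPull_comp,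
      show (Over.homMk (IsOpenImmersion.lift (A.O c i).ι m.left hr) _ : T' ⟶ opn T (A.O c i)) ≫
        AbDual.ovrHom T (A.O c i).ι = m from Over.OverMorphism.ext (IsOpenImmersion.lift_fac _ _ _)]
    exact h

theorem O_self (i : A.ι) : A.O (A.ξ i) i = ⊤ := by
  refine top_le_iff.1 fun x _ => ?_
  exact A.range_subset (A.ξ i) i (𝟙 _) (𝟙 _) rfl ⟨x, rfl⟩

/-- overlap of two charts -/
abbrev Ov (i j : A.ι) : Over S := opn (A.W i) (A.O (A.ξ i) j)

/-- inclusion of an overlap -/
abbrev inc (i j : A.ι) : A.Ov i j ⟶ A.W i := AbDual.ovrHom (A.W i) (A.O (A.ξ i) j).ι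

theorem ξ_inc (i j : A.ι) : rigPull f σ hσ (A.g (A.ξ i) j) (A.ξ j) = rigPull f σ hσ (A.inc i j) (A.ξ i) :=
  (A.g_spec (A.ξ i) j).symm

/-- the transition map -/
def tr (i j : A.ι) : A.Ov i j ⟶ A.Ov j i :=
  (A.exists_lift (A.ξ j) i (A.g (A.ξ i) j) (A.inc i j) (A.ξ_inc i j)).choose

theorem tr_inc (i j : A.ι) : A.tr i j ≫ A.inc j i = A.g (A.ξ i) j :=
  (A.exists_lift (A.ξ j) i (A.g (A.ξ i) j) (A.inc i j) (A.ξ_inc i j)).choose_spec.1

theorem tr_inc_left (i j : A.ι) : (A.tr i j).left ≫ (A.inc j i).left = (A.g (A.ξ i) j).left :=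
  congrArg Over.Hom.left (A.tr_inc i j)

theorem tr_g (i j : A.ι) : A.tr i j ≫ A.g (A.ξ j) i = A.inc i j :=
  (A.exists_lift (A.ξ j) i (A.g (A.ξ i) j) (A.inc i j) (A.ξ_inc i j)).choose_spec.2

theorem mono_inc (i j : A.ι) : Mono (A.inc i j) := by
  haveI : Mono (A.inc i j).left := inferInstanceAs (Mono (A.O (A.ξ i) j).ι)
  exact Over.mono_of_mono_left _

/-- the map out of a double overlap -/
theorem exists_tr' (i j k : A.ι) : ∃ t' : pullback (A.inc i j).left (A.inc i k).left ⟶ pullback (A.inc j k).left (A.inc j i).left,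
    t' ≫ pullback.snd _ _ = pullback.fst _ _ ≫ (A.tr i j).left := by
  let R : Over S := Over.mk (pullback.fst (A.inc i j).left (A.inc i k).left ≫ (A.Ov i j).hom)
  let a : R ⟶ A.Ov i j := Over.homMk (pullback.fst _ _) rfl
  let b : R ⟶ A.Ov i k := Over.homMk (pullback.snd _ _) (by
    show pullback.snd _ _ ≫ (A.inc i k).left ≫ (A.W i).hom = pullback.fst _ _ ≫ (A.inc i j).left ≫ (A.W i).hom
    rw [pullback.condition_assoc])
  have hab : a ≫ A.inc i j = b ≫ A.inc i k := Over.OverMorphism.ext pullback.condition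
  have h : rigPull f σ hσ (a ≫ A.g (A.ξ i) j) (A.ξ j) = rigPull f σ hσ (b ≫ A.g (A.ξ i) k) (A.ξ k) := by
    rw [← rigPull_comp, ← rigPull_comp, A.ξ_inc, A.ξ_inc, rigPull_comp, rigPull_comp, hab]
  obtain ⟨l, hl, -⟩ := A.exists_lift (A.ξ j) k (a ≫ A.g (A.ξ i) j) (b ≫ A.g (A.ξ i) k) h
  refine ⟨pullback.lift l.left (pullback.fst _ _ ≫ (A.tr i j).left) ?_, pullback.lift_snd _ _ _⟩
  have e := congrArg Over.Hom.left hl
  have e' := congrArg Over.Hom.left (A.tr_inc i j)
  rw [Over.comp_left, Over.comp_left] at e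
  rw [Over.comp_left] at e'
  rw [Category.assoc, e']
  exact e

theorem tr_tr (i j : A.ι) : A.tr i j ≫ A.tr j i = 𝟙 _ := by
  haveI := A.mono_inc i j
  rw [← cancel_mono (A.inc i j), Category.assoc, A.tr_inc, A.tr_g, Category.id_comp]

theorem tr_self (i : A.ι) : A.tr i i = 𝟙 _ := by
  haveI := A.mono_inc i i
  rw [← cancel_mono (A.inc i i), A.tr_inc, Category.id_comp]
  exact A.mono i _ _ _ (A.ξ_inc i i)

theorem comp_g_eq {R : Over S} {i j : A.ι} (a : R ⟶ A.W i) (b : R ⟶ A.W j) (v : R ⟶ A.Ov i j)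
    (hv : v ≫ A.inc i j = a) (h : rigPull f σ hσ a (A.ξ i) = rigPull f σ hσ b (A.ξ j)) : v ≫ A.g (A.ξ i) j = b := by
  refine A.mono j _ _ _ ?_
  rw [← rigPull_comp, A.ξ_inc, rigPull_comp, hv, h]

/-- the gluing data -/
def glueData : Scheme.GlueData.{u} where
  J := A.ι
  U i := (A.W i).left
  V p := (A.Ov p.1 p.2).left
  f i j := (A.inc i j).left
  f_mono i j := inferInstanceAs (Mono (A.O (A.ξ i) j).ι)
  f_hasPullback i j k := inferInstance
  f_open i j := inferInstanceAs (IsOpenImmersion (A.O (A.ξ i) j).ι)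
  f_id i := by
    show IsIso (A.O (A.ξ i) i).ι
    rw [A.O_self i]
    exact inferInstanceAs (IsIso (A.W i).left.topIso.hom)
  t i j := (A.tr i j).left
  t_id i := by rw [A.tr_self i]; rfl
  t' i j k := (A.exists_tr' i j k).choose
  t_fac i j k := (A.exists_tr' i j k).choose_spec
  cocycle i j k := by
    set t₁ := (A.exists_tr' i j k).choose with ht₁
    set t₂ := (A.exists_tr' j k i).choose with ht₂
    set t₃ := (A.exists_tr' k i j).choose with ht₃
    have h₁ := (A.exists_tr' i j k).choose_spec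
    have h₂ := (A.exists_tr' j k i).choose_spec
    have h₃ := (A.exists_tr' k i j).choose_spec
    rw [← ht₁] at h₁
    rw [← ht₂] at h₂
    rw [← ht₃] at h₃
    haveI : Mono (A.inc i j).left := inferInstanceAs (Mono (A.O (A.ξ i) j).ι)
    haveI : Mono (A.inc i k).left := inferInstanceAs (Mono (A.O (A.ξ i) k).ι)
    refine (cancel_mono (pullback.fst (A.inc i j).left (A.inc i k).left ≫ (A.inc i j).left)).1 ?_
    rw [Category.id_comp, Category.assoc, Category.assoc]
    -- the point of the double overlap and its three chart maps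
    let p₁ := pullback.fst (A.inc i j).left (A.inc i k).left
    let R : Over S := Over.mk (p₁ ≫ (A.Ov i j).hom)
    let a : R ⟶ A.Ov i j := Over.homMk p₁ rfl
    have hw1 : (t₁ ≫ pullback.fst (A.inc j k).left (A.inc j i).left) ≫ (A.inc j k).left =
        (a ≫ A.g (A.ξ i) j).left := by
      rw [Category.assoc, pullback.condition, ← Category.assoc, h₁, Category.assoc, A.tr_inc_left]
      rfl
    let b : R ⟶ A.Ov j k := Over.homMk (t₁ ≫ pullback.fst _ _) (by
      show (t₁ ≫ pullback.fst _ _) ≫ (A.inc j k).left ≫ (A.W j).hom = _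
      rw [← Category.assoc, hw1]
      exact (Over.w (a ≫ A.g (A.ξ i) j)))
    have hb : b ≫ A.inc j k = a ≫ A.g (A.ξ i) j := Over.OverMorphism.ext hw1
    have hw2 : ((t₁ ≫ t₂) ≫ pullback.fst (A.inc k i).left (A.inc k j).left) ≫ (A.inc k i).left =
        (b ≫ A.g (A.ξ j) k).left := by
      rw [Category.assoc, pullback.condition, Category.assoc, ← Category.assoc t₂, h₂, Category.assoc,
        A.tr_inc_left]
      simp [b]
    let c : R ⟶ A.Ov k i := Over.homMk ((t₁ ≫ t₂) ≫ pullback.fst _ _) (by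
      show ((t₁ ≫ t₂) ≫ pullback.fst _ _) ≫ (A.inc k i).left ≫ (A.W k).hom = _
      rw [← Category.assoc, hw2]
      exact Over.w (b ≫ A.g (A.ξ j) k))
    have hc : c ≫ A.inc k i = b ≫ A.g (A.ξ j) k := Over.OverMorphism.ext hw2
    have hkey : c ≫ A.g (A.ξ k) i = a ≫ A.inc i j := by
      refine A.comp_g_eq (b ≫ A.g (A.ξ j) k) _ c hc ?_
      rw [← rigPull_comp, A.ξ_inc, rigPull_comp, hb, ← rigPull_comp, A.ξ_inc, rigPull_comp]
    have e := congrArg Over.Hom.left hkey
    rw [Over.comp_left, Over.comp_left] at e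
    refine Eq.trans ?_ e
    rw [pullback.condition, ← Category.assoc t₃, h₃, Category.assoc, A.tr_inc_left]
    simp [c]

/-- the glued scheme -/
def P : Over S :=
  Over.mk (show A.glueData.glued ⟶ S from Multicoequalizer.desc _ _ (fun i => (A.W i).hom) (by
    rintro ⟨i, j⟩
    show (A.inc i j).left ≫ (A.W i).hom = ((A.tr i j).left ≫ (A.inc j i).left) ≫ (A.W j).hom
    rw [Category.assoc, Over.w (A.inc i j), Over.w (A.inc j i), Over.w (A.tr i j)]))

theorem ι_hom (i : A.ι) : A.glueData.ι i ≫ A.P.hom = (A.W i).hom := by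
  exact Multicoequalizer.π_desc A.glueData.diagram _ _ _ i

/-- the chart inclusion -/
def inj (i : A.ι) : A.W i ⟶ A.P :=
  Over.homMk (A.glueData.ι i) (A.ι_hom i)

instance (i : A.ι) : IsOpenImmersion (A.inj i).left := inferInstanceAs (IsOpenImmersion (A.glueData.ι i))

theorem inj_covers (x : A.P.left) : ∃ i, x ∈ Set.range (A.inj i).left := by
  obtain ⟨i, y, hy⟩ := A.glueData.ι_jointly_surjective x
  exact ⟨i, y, hy⟩

theorem g_inj (i j : A.ι) : A.g (A.ξ i) j ≫ A.inj j = A.inc i j ≫ A.inj i := by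
  refine Over.OverMorphism.ext ?_
  rw [← A.tr_inc, Category.assoc]
  exact A.glueData.glue_condition i j

theorem exists_factor {R : Over S} {i j : A.ι} (a : R ⟶ A.W i) (b : R ⟶ A.W j) (h : a ≫ A.inj i = b ≫ A.inj j) :
    ∃ v : R ⟶ A.Ov i j, v ≫ A.inc i j = a ∧ v ≫ A.g (A.ξ i) j = b := by
  let c : PullbackCone (A.glueData.ι i) (A.glueData.ι j) :=
    PullbackCone.mk a.left b.left (congrArg Over.Hom.left h)
  let l := (A.glueData.vPullbackConeIsLimit i j).lift c
  have h1 : l ≫ (A.inc i j).left = a.left := (A.glueData.vPullbackConeIsLimit i j).fac c WalkingCospan.left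
  have h2 : l ≫ (A.tr i j).left ≫ (A.inc j i).left = b.left :=
    (A.glueData.vPullbackConeIsLimit i j).fac c WalkingCospan.right
  refine ⟨Over.homMk l (by show l ≫ (A.inc i j).left ≫ (A.W i).hom = R.hom; rw [reassoc_of% h1]; exact Over.w a),
    Over.OverMorphism.ext h1, Over.OverMorphism.ext ?_⟩
  rw [← A.tr_inc]
  exact h2

theorem eq_of_class {R : Over S} {i j : A.ι} (a : R ⟶ A.W i) (b : R ⟶ A.W j)
    (h : rigPull f σ hσ a (A.ξ i) = rigPull f σ hσ b (A.ξ j)) : a ≫ A.inj i = b ≫ A.inj j := by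
  obtain ⟨v, hv, hv'⟩ := A.exists_lift (A.ξ i) j a b h
  rw [← hv, ← hv', Category.assoc, Category.assoc, A.g_inj]

variable (ha : ∀ (T : Over S) (U : T.left.Opens), IsIso ((PicF.XTproj f T).app U))

include ha A in
theorem exists_universal : ∃ ξP : PicF.Rig f σ hσ A.P, ∀ (T : Over S) (c : PicF.Rig f σ hσ T),
    ∃! g : T ⟶ A.P, PicF.pullCl (PicF.XTmap f g) ξP.1 = c.1 := by
  obtain ⟨ξP, hξP⟩ := exists_glue f σ hσ ha A.inj A.inj_covers A.ξ fun i j R a b h => by
    obtain ⟨v, hv, hv'⟩ := A.exists_factor a b h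
    rw [← hv, ← hv', ← rigPull_comp, ← rigPull_comp, A.ξ_inc]
  refine ⟨ξP, fun T c => ?_⟩
  have hcov : ∀ t : T.left, ∃ i, t ∈ Set.range (AbDual.ovrHom T (A.O c i).ι).left := fun t => by
    obtain ⟨i, T', m, g', ht, h⟩ := A.cover T c t
    exact ⟨i, by
      show t ∈ Set.range (A.O c i).ι
      rw [Scheme.Opens.range_ι]
      exact A.range_subset c i m g' h ht⟩
  let 𝒰 := T.left.openCoverOfIsOpenCover (fun i => A.O c i) (eq_top_iff.2 fun t _ => by
    obtain ⟨i, T', m, g', ht, h⟩ := A.cover T c t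
    exact Opens.mem_iSup.2 ⟨i, A.range_subset c i m g' h ht⟩)
  let φ := Scheme.Cover.glueMorphisms 𝒰 (fun i => (A.g c i ≫ A.inj i).left) fun i j => by
    let R : Over S := Over.mk (pullback.fst (A.O c i).ι (A.O c j).ι ≫ (A.O c i).ι ≫ T.hom)
    let a : R ⟶ opn T (A.O c i) := Over.homMk (pullback.fst _ _) rfl
    let b : R ⟶ opn T (A.O c j) := Over.homMk (pullback.snd _ _) (pullback.condition_assoc T.hom).symm
    have hab : a ≫ AbDual.ovrHom T (A.O c i).ι = b ≫ AbDual.ovrHom T (A.O c j).ι :=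
      Over.OverMorphism.ext pullback.condition
    have e := A.eq_of_class (a ≫ A.g c i) (b ≫ A.g c j) (by
      rw [← rigPull_comp, ← A.g_spec, ← rigPull_comp, ← A.g_spec, rigPull_comp, rigPull_comp, hab])
    rw [Category.assoc, Category.assoc] at e
    exact congrArg Over.Hom.left e
  have hφ : ∀ i, (A.O c i).ι ≫ φ = (A.g c i ≫ A.inj i).left := fun i => Scheme.Cover.ι_glueMorphisms 𝒰 _ _ i
  have hw : φ ≫ A.P.hom = T.hom := 𝒰.hom_ext _ _ fun i => by
    show (A.O c i).ι ≫ φ ≫ A.P.hom = (A.O c i).ι ≫ T.hom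
    rw [reassoc_of% (hφ i)]
    exact Over.w (A.g c i ≫ A.inj i)
  have hg : ∀ i, AbDual.ovrHom T (A.O c i).ι ≫ Over.homMk φ hw = A.g c i ≫ A.inj i :=
    fun i => Over.OverMorphism.ext (hφ i)
  refine ⟨Over.homMk φ hw, ?_, fun g₂ hg₂ => ?_⟩
  · haveI : ∀ i, IsOpenImmersion (AbDual.ovrHom T (A.O c i).ι).left := fun i =>
      inferInstanceAs (IsOpenImmersion (A.O c i).ι)
    refine congrArg Subtype.val (eq_of_cover f σ hσ ha (fun i => AbDual.ovrHom T (A.O c i).ι) hcov
      (c := rigPull f σ hσ (Over.homMk φ hw) ξP) fun i => ?_)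
    rw [rigPull_comp, hg, ← rigPull_comp, hξP, ← A.g_spec]
  · have hg₂' : rigPull f σ hσ g₂ ξP = c := Subtype.ext hg₂
    refine Over.OverMorphism.ext ?_
    let 𝒱 := T.left.openCoverOfIsOpenCover (fun j => g₂.left ⁻¹ᵁ (A.inj j).left.opensRange)
      (eq_top_iff.2 fun t _ => Opens.mem_iSup.2 (A.inj_covers (g₂.left t)))
    refine 𝒱.hom_ext _ _ fun j => ?_
    let V := g₂.left ⁻¹ᵁ (A.inj j).left.opensRange
    let m := AbDual.ovrHom T V.ι
    have hr : Set.range (V.ι ≫ g₂.left) ⊆ Set.range (A.inj j).left := by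
      rintro _ ⟨z, rfl⟩
      rw [Scheme.Hom.comp_apply]
      exact z.2
    let g' : opn T V ⟶ A.W j := Over.homMk (IsOpenImmersion.lift (A.inj j).left (V.ι ≫ g₂.left) hr) (by
      show _ = V.ι ≫ T.hom
      rw [← Over.w (A.inj j), IsOpenImmersion.lift_fac_assoc, Category.assoc, Over.w g₂])
    have hg' : g' ≫ A.inj j = m ≫ g₂ := Over.OverMorphism.ext (IsOpenImmersion.lift_fac _ _ _)
    have hclass : rigPull f σ hσ m c = rigPull f σ hσ g' (A.ξ j) := by
      rw [← hg₂', rigPull_comp, ← hg', ← rigPull_comp, hξP]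
    obtain ⟨l, hl, hl'⟩ := A.exists_lift c j m g' hclass
    have e := congrArg Over.Hom.left (show m ≫ g₂ = m ≫ Over.homMk φ hw by
      rw [← hg', ← hl', ← hl, Category.assoc, Category.assoc, hg])
    exact e

include ha A in
theorem representable : PicF.RigRepresentable f σ hσ := ⟨A.P, A.exists_universal ha⟩

end Atlas

end Groth.Agent.PicCurve

end
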