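import Groth.Agent.PicCurve.Univ
import Groth.Agent.PicCurve.Glue
import Groth.Agent.FppfPic.ExtendRegular

/-!
# The chart of the Picard functor given by a twist and a degree
-/

noncomputable section

set_option autoImplicit false
set_option linter.style.haveILetI false
set_option linter.unusedSectionVars false
set_option backward.isDefEq.respectTransparency false
set_option backward.isDefEq.respectTransparency.types false
set_option maxHeartbeats 1000000
set_option synthInstance.maxHeartbeats 400000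
attribute [-instance] CategoryTheory.catToReflQuiver

universe u

open CategoryTheory CategoryTheory.Limits AlgebraicGeometry TopologicalSpace Opposite
open Groth.Agent.InvX Groth.Agent.AModX Groth.Agent.H23.PicMul

namespace Groth.Agent.PicCurve

section Twist

variable {X S : Scheme.{u}} (f : X ⟶ S) (γ : PicF.Cl X)

/-- a class on the curve pulled back to a family -/
def tw (T : Over S) : PicF.Cl (PicF.XT f T) := PicF.pullCl (pullback.fst f T.hom) γ

theorem tw_pull {T T' : Over S} (g : T' ⟶ T) : PicF.pullCl (PicF.XTmap f g) (tw f γ T) = tw f γ T' := by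
  rw [tw, PicClLib.pullCl_comp, show PicF.XTmap f g ≫ pullback.fst f T.hom = pullback.fst f T'.hom by
    simp [PicF.XTmap]]
  rfl

end Twist

section Const

variable {X S : Scheme.{u}} (f : X ⟶ S) [IsProper f] [Smooth f] [GeometricallyIntegral f] [IsLocallyNoetherian S]

/-- functions on a base change of the family are functions on the base -/
theorem isIso_app (σ : S ⟶ X) (hσ : σ ≫ f = 𝟙 S) (T : Over S) (U : T.left.Opens) :
    IsIso ((PicF.XTproj f T).app U) := by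
  haveI := FppfPic.geometricallyConnected_of_integral f
  exact FppfPic.bijective_app_of_connected f σ hσ T U

end Const

variable {X S : Scheme.{u}} {f : X ⟶ S} [IsProper f] [Smooth f] [SmoothOfRelativeDimension 1 f]
  [GeometricallyIntegral f] [IsLocallyNoetherian S] {σ : S ⟶ X} {hσ : σ ≫ f = 𝟙 S} {d : ℕ} {H : Over S} (Z : HilbD.Obj f d H)
  {γ : PicF.Cl X} (hγ : PicF.IsInvertibleCl γ)

theorem finrank_pull {T T' : Over S} (g : T' ⟶ T) (I : (PicF.XT f T).IdealSheafData)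
    (hI : Mor2.IsFinLocFree (I.subschemeι ≫ PicF.XTproj f T)) (y : T'.left) :
    ((HilbD.pull f g I).subschemeι ≫ PicF.XTproj f T').finrank y =
      (I.subschemeι ≫ PicF.XTproj f T).finrank (g.left y) := by
  obtain ⟨hfin, hfl, hfp⟩ := hI
  have H := (IsPullback.of_hasPullback (PicF.XTmap f g) I.subschemeι).flip.paste_vert (FppfPic.isPullback_XTmap f g)
  have key : (HilbD.pull f g I).subschemeι ≫ PicF.XTproj f T' =
      (eqToHom (by rw [HilbDLib.pull_eq_comap]) ≫ (I.comapIso (PicF.XTmap f g)).hom ≫ H.isoPullback.hom) ≫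
        pullback.snd (I.subschemeι ≫ PicF.XTproj f T) g.left := by
    generalize HilbD.pull f g I = J, HilbDLib.pull_eq_comap f g I = hJ
    subst hJ
    simp
  rw [key, Scheme.Hom.finrank_comp_left_of_isIso, Scheme.Hom.finrank_pullback_snd]

/-- the module of the universal divisor -/
def uL : (PicF.XT f H).Modules :=
  (exists_line Z.1 (RelCurveDiv.isEffCartier_of_finLocFree _ _ Z.2.1).1).choose

/-- its canonical section -/
def uS : Γ(uL Z, ⊤) :=
  (exists_line Z.1 (RelCurveDiv.isEffCartier_of_finLocFree _ _ Z.2.1).1).choose_spec.choose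

theorem uL_spec : PicF.IsInvertible (uL Z) ∧ PicF2.zeroScheme (uL Z) (ofSect (uS Z)) = Z.1 :=
  (exists_line Z.1 (RelCurveDiv.isEffCartier_of_finLocFree _ _ Z.2.1).1).choose_spec.choose_spec

theorem isInvertibleCl_uL : PicF.IsInvertibleCl (PicF.cl (uL Z)) := ⟨_, rfl, (uL_spec Z).1⟩

/-- the good locus of the universal divisor -/
def good : H.left.Opens := ⟨_, isOpen_goodCl f (isInvertibleCl_uL Z)⟩

/-- the chart -/
abbrev chW : Over S := opn H (good Z)

/-- the inclusion of the chart -/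
abbrev chι : chW Z ⟶ H := AbDual.ovrHom H (good Z).ι

/-- the class of the universal divisor on the chart -/
def chA : PicF.Cl (PicF.XT f (chW Z)) := PicF.pullCl (PicF.XTmap f (chι Z)) (PicF.cl (uL Z))

theorem isDiv_univ : IsDiv f (chA Z) (HilbD.pull f (chι Z) Z.1) := by
  have hL := (uL_spec Z).1
  have hL' := PicClLib.isInvertible_pullback (PicF.XTmap f (chι Z)) hL
  refine isDiv_of_zeroScheme hL' (fun t => ?_) (pullElt (PicF.XTmap f (chι Z)) (U := ⊤) (uS Z)) ?_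
    (HilbDLib.isFinLocFree_pull f _ _ Z.2.1)
  · exact (goodAt_bc (PicF.XTproj f H) (FppfPic.isPullback_XTmap f (chι Z)) hL t).2 ((goodCl_cl f hL _).1 t.2)
  · rw [HilbDLib.pull_eq_comap, ← (uL_spec Z).2, comap_zeroScheme (PicF.XTmap f (chι Z)) hL hL']

theorem isInvertibleCl_chA : PicF.IsInvertibleCl (chA Z) := FppfPic.isInvertibleCl_pull _ (isInvertibleCl_uL Z)

theorem isInvertibleCl_tw {γ : PicF.Cl X} (hγ : PicF.IsInvertibleCl γ) (T : Over S) :
    PicF.IsInvertibleCl (tw f γ T) := FppfPic.isInvertibleCl_pull _ hγ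

/-- the class of the chart -/
def chξ : PicF.Rig f σ hσ (chW Z) :=
  rigify f σ hσ (isInvertibleCl_mul (isInvertibleCl_chA Z) (isInvertibleCl_invCl (isInvertibleCl_tw hγ (chW Z))))

theorem rigPull_chξ {T : Over S} (g : T ⟶ chW Z) :
    rigPull f σ hσ g (chξ Z hγ) = rigify f σ hσ (isInvertibleCl_mul
      (FppfPic.isInvertibleCl_pull (PicF.XTmap f g) (isInvertibleCl_chA Z))
      (isInvertibleCl_invCl (isInvertibleCl_tw hγ T))) := by
  rw [chξ, rigPull_rigify]
  refine rigify_congr f σ hσ _ _ ?_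
  rw [pullCl_mul, pull_invCl]
  congr 1
  exact eq_invCl _ (by rw [← tw_pull f γ g]; exact mul_invCl _)

/-- the chart equation gives equality of classes near every point -/
theorem exists_open_chart_eq {T : Over S} (g : T ⟶ chW Z) {c : PicF.Rig f σ hσ T}
    (h : c = rigPull f σ hσ g (chξ Z hγ)) (t : T.left) :
    ∃ V : T.left.Opens, t ∈ V ∧ PicF.pullCl (PicF.XTmap f (AbDual.ovrHom T V.ι)) (c.1 * tw f γ T) =
      PicF.pullCl (PicF.XTmap f (AbDual.ovrHom T V.ι ≫ g)) (chA Z) := by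
  rw [rigPull_chξ, ← rigify_self f σ hσ c] at h
  obtain ⟨V, htV, hV⟩ := exists_open_eq f σ hσ _ _ h t
  refine ⟨V, htV, ?_⟩
  rw [pullCl_mul, hV, pullCl_mul, _root_.mul_assoc, ← pullCl_mul, invCl_mul, pullCl_one, _root_.mul_one,
    FppfPic.pullCl_XTmap_comp]

variable (hU : HilbD.IsUniversal f d H Z)

include hU in
theorem ch_mono (T : Over S) (g g' : T ⟶ chW Z)
    (h : rigPull f σ hσ g (chξ Z hγ) = rigPull f σ hσ g' (chξ Z hγ)) : g = g' := by
  rw [rigPull_chξ, rigPull_chξ] at h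
  choose V htV hV using exists_open_eq f σ hσ _ _ h
  refine Over.OverMorphism.ext ((T.left.openCoverOfIsOpenCover V
    (eq_top_iff.2 fun t _ => Opens.mem_iSup.2 ⟨t, htV t⟩)).hom_ext _ _ fun t => ?_)
  have e := hV t
  rw [pullCl_mul, pullCl_mul] at e
  have e' := eq_of_invCl_mul (FppfPic.isInvertibleCl_pull _ (isInvertibleCl_invCl (isInvertibleCl_tw hγ T))) e
  rw [FppfPic.pullCl_XTmap_comp, FppfPic.pullCl_XTmap_comp] at e'
  have h1 := IsDiv.unique (e' ▸ (isDiv_univ Z).pull (AbDual.ovrHom T (V t).ι ≫ g))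
    ((isDiv_univ Z).pull (AbDual.ovrHom T (V t).ι ≫ g'))
  rw [HilbDLib.pull_pull, HilbDLib.pull_pull] at h1
  have h2 := (hU _ ⟨_, HilbDLib.isFinLocFreeOfDeg_pull f ((AbDual.ovrHom T (V t).ι ≫ g) ≫ chι Z) _ Z.2⟩).unique
    rfl h1.symm
  have h3 := congrArg Over.Hom.left h2
  show (V t).ι ≫ g.left = (V t).ι ≫ g'.left
  exact (cancel_mono (good Z).ι).1 h3

include hU in
/-- a good class whose divisor has the right degree at a point factors through the chart nearby -/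
theorem exists_of_isDiv {T : Over S} (c : PicF.Rig f σ hσ T) {V : T.left.Opens}
    {I : (PicF.XT f (opn T V)).IdealSheafData}
    (hI : IsDiv f (PicF.pullCl (PicF.XTmap f (AbDual.ovrHom T V.ι)) (c.1 * tw f γ T)) I) {t : T.left} (htV : t ∈ V)
    (hdeg : (I.subschemeι ≫ PicF.XTproj f (opn T V)).finrank ⟨t, htV⟩ = d) :
    ∃ (W : T.left.Opens), t ∈ W ∧ ∃ g : opn T W ⟶ chW Z,
      rigPull f σ hσ (AbDual.ovrHom T W.ι) c = rigPull f σ hσ g (chξ Z hγ) := by
  let b := c.1 * tw f γ T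
  let vV := AbDual.ovrHom T V.ι
  obtain ⟨hc, hfl⟩ := hI.effCartier
  haveI := hfl.1; haveI := hfl.2.1; haveI := hfl.2.2
  let D : V.toScheme.Opens := ⟨{z | (I.subschemeι ≫ PicF.XTproj f (opn T V)).finrank z = d},
    ((I.subschemeι ≫ PicF.XTproj f (opn T V)).isLocallyConstant_finrank).isOpen_fiber d⟩
  let W := V.ι ''ᵁ D
  have hWV : W ≤ V := V.ι_image_le D
  let w : opn T W ⟶ opn T V := Over.homMk (T.left.homOfLE hWV) (by
    show _ ≫ V.ι ≫ T.hom = W.ι ≫ T.hom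
    rw [Scheme.homOfLE_ι_assoc])
  have hw : w ≫ vV = AbDual.ovrHom T W.ι := Over.OverMorphism.ext (Scheme.homOfLE_ι _ hWV)
  have hIW := hI.pull w
  rw [FppfPic.pullCl_XTmap_comp, hw] at hIW
  obtain ⟨g₀, hg₀, -⟩ := hU (opn T W) ⟨HilbD.pull f w I, HilbDLib.isFinLocFree_pull f w I hfl, fun z => by
    rw [finrank_pull w I hfl]
    obtain ⟨v, hv, hvz⟩ := z.2
    have e : w.left z = v := V.ι.isOpenEmbedding.injective (by
      show (T.left.homOfLE hWV ≫ V.ι) z = _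
      rw [Scheme.homOfLE_ι]
      exact hvz.symm)
    rw [e]
    exact hv⟩
  -- the pulled back universal class
  have hcl : PicF.pullCl (PicF.XTmap f g₀) (PicF.cl (uL Z)) = PicF.pullCl (PicF.XTmap f (AbDual.ovrHom T W.ι)) b := by
    have hc' := hIW.effCartier.1
    obtain ⟨L, s, hL', hL, -, -, hs⟩ := hIW
    rw [← hL']
    refine (cl_eq_iff.2 (nonempty_iso_of_zeroScheme_eq hL
      (PicClLib.isInvertible_pullback (PicF.XTmap f g₀) (uL_spec Z).1) s
      (pullElt (PicF.XTmap f g₀) (U := ⊤) (uS Z)) (hs.symm ▸ hc') ?_)).symm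
    rw [← comap_zeroScheme (PicF.XTmap f g₀) (uL_spec Z).1
      (PicClLib.isInvertible_pullback (PicF.XTmap f g₀) (uL_spec Z).1) (uS Z), (uL_spec Z).2, ← HilbDLib.pull_eq_comap, hs]
    exact hg₀
  have hr : Set.range g₀.left ⊆ Set.range (good Z).ι := by
    rintro _ ⟨z, rfl⟩
    rw [Scheme.Opens.range_ι]
    show GoodCl f (PicF.cl (uL Z)) (g₀.left z)
    rw [← goodCl_pull f g₀ (isInvertibleCl_uL Z), hcl]
    exact hIW.good z
  let g : opn T W ⟶ chW Z := Over.homMk (IsOpenImmersion.lift (good Z).ι g₀.left hr) (by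
    show _ ≫ (good Z).ι ≫ H.hom = W.ι ≫ T.hom
    rw [IsOpenImmersion.lift_fac_assoc]
    exact Over.w g₀)
  have hg : g ≫ chι Z = g₀ := Over.OverMorphism.ext (IsOpenImmersion.lift_fac _ _ _)
  refine ⟨W, ⟨⟨t, htV⟩, hdeg, rfl⟩, g, ?_⟩
  rw [rigPull_chξ, ← rigify_self f σ hσ (rigPull f σ hσ (AbDual.ovrHom T W.ι) c)]
  refine rigify_congr f σ hσ _ _ ?_
  rw [chA, FppfPic.pullCl_XTmap_comp, hg, hcl, rigPull_val]
  show _ = PicF.pullCl _ (c.1 * tw f γ T) * _
  rw [pullCl_mul, _root_.mul_assoc]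
  conv_lhs => rw [← _root_.mul_one (PicF.pullCl (PicF.XTmap f (AbDual.ovrHom T W.ι)) c.1)]
  congr 1
  rw [tw_pull]
  exact (mul_invCl _).symm

include hU in
/-- a class which is good with divisor of the right degree factors through the chart nearby -/
theorem exists_near {T : Over S} (c : PicF.Rig f σ hσ T) {T' : Over S} (m : T' ⟶ T) (g' : T' ⟶ chW Z)
    (h : rigPull f σ hσ m c = rigPull f σ hσ g' (chξ Z hγ)) (t' : T'.left) :
    ∃ (V : T.left.Opens), m.left t' ∈ V ∧ ∃ g : opn T V ⟶ chW Z,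
      rigPull f σ hσ (AbDual.ovrHom T V.ι) c = rigPull f σ hσ g (chξ Z hγ) := by
  let b := c.1 * tw f γ T
  have hb : PicF.IsInvertibleCl b := isInvertibleCl_mul c.2.1 (isInvertibleCl_tw hγ T)
  obtain ⟨V', htV', hV'⟩ := exists_open_chart_eq Z hγ g' h t'
  rw [rigPull_val, ← tw_pull f γ m, ← pullCl_mul, FppfPic.pullCl_XTmap_comp] at hV'
  -- good at the point
  have hgood : GoodCl f b (m.left t') := by
    have h1 := ((isDiv_univ Z).pull (AbDual.ovrHom T' V'.ι ≫ g')).good ⟨t', htV'⟩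
    rw [← hV', goodCl_pull f _ hb] at h1
    exact h1
  obtain ⟨V, htV, I, hI⟩ := exists_isDiv hb hgood
  let vV := AbDual.ovrHom T V.ι
  obtain ⟨hc, hfl⟩ := hI.effCartier
  -- the degree at the point
  have hdeg : (I.subschemeι ≫ PicF.XTproj f (opn T V)).finrank ⟨m.left t', htV⟩ = d := by
    let R := V' ⊓ m.left ⁻¹ᵁ V
    let r : opn T' R ⟶ opn T V := Over.homMk (IsOpenImmersion.lift V.ι (R.ι ≫ m.left) (by
        rintro _ ⟨z, rfl⟩
        refine (Scheme.Opens.range_ι V).ge ?_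
        rw [Scheme.Hom.comp_apply]
        exact z.2.2)) (by
      show _ ≫ V.ι ≫ T.hom = R.ι ≫ T'.hom
      rw [IsOpenImmersion.lift_fac_assoc, Category.assoc, Over.w m])
    let r' : opn T' R ⟶ opn T' V' := Over.homMk (T'.left.homOfLE inf_le_left) (by
      show _ ≫ V'.ι ≫ T'.hom = R.ι ≫ T'.hom
      rw [Scheme.homOfLE_ι_assoc])
    have hr : r ≫ vV = AbDual.ovrHom T' R.ι ≫ m := Over.OverMorphism.ext (IsOpenImmersion.lift_fac _ _ _)
    have hr' : r' ≫ AbDual.ovrHom T' V'.ι = AbDual.ovrHom T' R.ι :=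
      Over.OverMorphism.ext (Scheme.homOfLE_ι _ (show R ≤ V' from inf_le_left))
    have e := congrArg (PicF.pullCl (PicF.XTmap f r')) hV'
    rw [FppfPic.pullCl_XTmap_comp, FppfPic.pullCl_XTmap_comp, ← Category.assoc, hr', ← hr] at e
    have h1 := hI.pull r
    rw [FppfPic.pullCl_XTmap_comp, e] at h1
    have h2 := h1.unique ((isDiv_univ Z).pull (r' ≫ AbDual.ovrHom T' V'.ι ≫ g'))
    rw [HilbDLib.pull_pull] at h2
    have h3 := finrank_pull r I hfl ⟨t', htV', htV⟩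
    rw [h2, (HilbDLib.isFinLocFreeOfDeg_pull f _ _ Z.2).2] at h3
    have h4 : r.left ⟨t', htV', htV⟩ = ⟨m.left t', htV⟩ := by
      apply V.ι.isOpenEmbedding.injective
      show (r.left ≫ V.ι) _ = _
      exact congr($(IsOpenImmersion.lift_fac V.ι (R.ι ≫ m.left) _) ⟨t', htV', htV⟩)
    rw [← h4]
    exact h3.symm
  exact exists_of_isDiv Z hγ hU c hI htV hdeg

include hU in
theorem ch_loc (T : Over S) (c : PicF.Rig f σ hσ T) :
    ∃ (O : T.left.Opens) (g : opn T O ⟶ chW Z),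
      rigPull f σ hσ (AbDual.ovrHom T O.ι) c = rigPull f σ hσ g (chξ Z hγ) ∧
      ∀ (T' : Over S) (m : T' ⟶ T) (g' : T' ⟶ chW Z),
        rigPull f σ hσ m c = rigPull f σ hσ g' (chξ Z hγ) → Set.range m.left ⊆ (O : Set T.left)
      := by
  let ι := {V : T.left.Opens // ∃ g : opn T V ⟶ chW Z,
    rigPull f σ hσ (AbDual.ovrHom T V.ι) c = rigPull f σ hσ g (chξ Z hγ)}
  let O : T.left.Opens := ⨆ i : ι, i.1
  have hle : ∀ i : ι, i.1 ≤ O := fun i => le_iSup (fun i : ι => i.1) i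
  choose g hg using fun i : ι => i.2
  let 𝒰 := (Scheme.Opens.toScheme O).openCoverOfIsOpenCover (fun i : ι => O.ι ⁻¹ᵁ i.1) (eq_top_iff.2 fun z _ =>
    Opens.mem_iSup.2 ((Opens.mem_iSup.1 z.2).imp fun i hi => hi))
  let l : ∀ i : ι, opn (opn T O) (O.ι ⁻¹ᵁ i.1) ⟶ opn T i.1 := fun i =>
    Over.homMk (IsOpenImmersion.lift i.1.ι ((O.ι ⁻¹ᵁ i.1).ι ≫ O.ι) (by
      rintro _ ⟨z, rfl⟩
      refine (Scheme.Opens.range_ι i.1).ge ?_
      rw [Scheme.Hom.comp_apply]
      exact z.2)) (by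
      show _ ≫ i.1.ι ≫ T.hom = (O.ι ⁻¹ᵁ i.1).ι ≫ O.ι ≫ T.hom
      rw [IsOpenImmersion.lift_fac_assoc, Category.assoc])
  have hl : ∀ i : ι, l i ≫ AbDual.ovrHom T i.1.ι = AbDual.ovrHom (opn T O) (O.ι ⁻¹ᵁ i.1).ι ≫ AbDual.ovrHom T O.ι :=
    fun i => Over.OverMorphism.ext (IsOpenImmersion.lift_fac _ _ _)
  let φ := Scheme.Cover.glueMorphisms 𝒰 (fun i : ι => (l i ≫ g i).left) fun (i j : ι) => by
    let R : Over S := Over.mk (pullback.fst (O.ι ⁻¹ᵁ i.1).ι (O.ι ⁻¹ᵁ j.1).ι ≫ (O.ι ⁻¹ᵁ i.1).ι ≫ O.ι ≫ T.hom)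
    let a : R ⟶ opn (opn T O) (O.ι ⁻¹ᵁ i.1) := Over.homMk (pullback.fst _ _) rfl
    let b : R ⟶ opn (opn T O) (O.ι ⁻¹ᵁ j.1) := Over.homMk (pullback.snd _ _)
      (pullback.condition_assoc (O.ι ≫ T.hom)).symm
    have hab : a ≫ AbDual.ovrHom (opn T O) (O.ι ⁻¹ᵁ i.1).ι = b ≫ AbDual.ovrHom (opn T O) (O.ι ⁻¹ᵁ j.1).ι :=
      Over.OverMorphism.ext pullback.condition
    have k1 : ∀ (i : ι) (a : R ⟶ opn (opn T O) (O.ι ⁻¹ᵁ i.1)), rigPull f σ hσ (a ≫ l i ≫ g i) (chξ Z hγ) =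
        rigPull f σ hσ ((a ≫ AbDual.ovrHom (opn T O) (O.ι ⁻¹ᵁ i.1).ι) ≫ AbDual.ovrHom T O.ι) c := fun i a => by
      rw [← rigPull_comp f σ hσ a, ← rigPull_comp f σ hσ (l i), ← hg i, rigPull_comp, rigPull_comp,
        Category.assoc, hl, Category.assoc]
    have e := ch_mono Z hγ hU R (a ≫ l i ≫ g i) (b ≫ l j ≫ g j) (by rw [k1, k1, hab])
    exact congrArg Over.Hom.left e
  have hφ : ∀ i : ι, (O.ι ⁻¹ᵁ i.1).ι ≫ φ = (l i ≫ g i).left := fun i => Scheme.Cover.ι_glueMorphisms 𝒰 _ _ i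
  have hw : φ ≫ (chW Z).hom = (opn T O).hom := 𝒰.hom_ext _ _ fun (i : ι) => by
    show (O.ι ⁻¹ᵁ i.1).ι ≫ φ ≫ _ = _
    rw [reassoc_of% (hφ i)]
    exact Over.w (l i ≫ g i)
  refine ⟨O, Over.homMk φ hw, ?_, ?_⟩
  · have ha : ∀ (T : Over S) (U : T.left.Opens), IsIso ((PicF.XTproj f T).app U) := isIso_app f σ hσ
    haveI : ∀ i : ι, IsOpenImmersion (AbDual.ovrHom (opn T O) (O.ι ⁻¹ᵁ i.1).ι).left := fun i =>
      inferInstanceAs (IsOpenImmersion (O.ι ⁻¹ᵁ i.1).ι)
    refine eq_of_cover f σ hσ ha (fun i : ι => AbDual.ovrHom (opn T O) (O.ι ⁻¹ᵁ i.1).ι) (fun z => ?_) fun i => ?_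
    · obtain ⟨i, hi⟩ := Opens.mem_iSup.1 z.2
      exact ⟨i, ⟨z, hi⟩, rfl⟩
    · rw [rigPull_comp, rigPull_comp, ← hl, ← rigPull_comp, hg, rigPull_comp]
      congr 1
      exact Over.OverMorphism.ext (hφ i).symm
  · rintro T' m g' h _ ⟨t', rfl⟩
    obtain ⟨V, htV, hV⟩ := exists_near Z hγ hU c m g' h t'
    exact hle ⟨V, hV⟩ htV

end Groth.Agent.PicCurve

end
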