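import Groth.Agent.FppfPic.RelPic

/-!
# Rigidified classes form a Zariski sheaf
-/

noncomputable section

set_option autoImplicit false
set_option linter.style.haveILetI false
set_option linter.unusedSectionVars false
set_option backward.isDefEq.respectTransparency false
set_option backward.isDefEq.respectTransparency.types false
set_option maxHeartbeats 1000000
set_option synthInstance.maxHeartbeats 400000
attribute [-instance] CategoryTheory.catToReflQuiver

universe u

open CategoryTheory CategoryTheory.Limits AlgebraicGeometry TopologicalSpace Opposite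
open Groth.Agent.H23.PicMul

namespace Groth.Agent.PicCurve

open Groth.Agent.FppfPic

variable {X S : Scheme.{u}} (f : X ⟶ S) (σ : S ⟶ X) (hσ : σ ≫ f = 𝟙 S)

/-- pullback of rigidified classes -/
def rigPull {T T' : Over S} (g : T' ⟶ T) (c : PicF.Rig f σ hσ T) : PicF.Rig f σ hσ T' :=
  ⟨PicF.pullCl (PicF.XTmap f g) c.1, isInvertibleCl_pull _ c.2.1, rig_pull f σ hσ g c.2.2⟩

theorem rigPull_val {T T' : Over S} (g : T' ⟶ T) (c : PicF.Rig f σ hσ T) :
    (rigPull f σ hσ g c).1 = PicF.pullCl (PicF.XTmap f g) c.1 := rfl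

theorem rigPull_comp {T T' T'' : Over S} (g : T'' ⟶ T') (g' : T' ⟶ T) (c : PicF.Rig f σ hσ T) :
    rigPull f σ hσ g (rigPull f σ hσ g' c) = rigPull f σ hσ (g ≫ g') c :=
  Subtype.ext (pullCl_XTmap_comp f g g' c.1)

theorem rigPull_id {T : Over S} (c : PicF.Rig f σ hσ T) : rigPull f σ hσ (𝟙 T) c = c := by
  refine Subtype.ext ?_
  rw [rigPull_val, show PicF.XTmap f (𝟙 T) = 𝟙 _ from pullback.hom_ext (by simp [PicF.XTmap]) (by simp [PicF.XTmap])]
  exact PicClLib.pullCl_id _

variable (ha : ∀ (T : Over S) (U : T.left.Opens), IsIso ((PicF.XTproj f T).app U))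

section Cover

variable {T : Over S} {ι : Type u} {U : ι → Over S} (u : ∀ i, U i ⟶ T) [∀ i, IsOpenImmersion (u i).left]
  (hcov : ∀ t : T.left, ∃ i, t ∈ Set.range (u i).left)

/-- the map out of the disjoint union -/
abbrev sig : (∐ fun i => (U i).left) ⟶ T.left := Sigma.desc fun i => (u i).left

theorem flat_sig : Flat (sig u) ∧ LocallyOfFinitePresentation (sig u) := by
  constructor
  · rw [IsZariskiLocalAtSource.iff_of_openCover (P := @Flat) (sigmaOpenCover fun i => (U i).left)]
    intro i
    show Flat (Sigma.ι (fun i => (U i).left) i ≫ Sigma.desc fun i => (u i).left)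
    rw [Sigma.ι_desc]
    infer_instance
  · rw [IsZariskiLocalAtSource.iff_of_openCover (P := @LocallyOfFinitePresentation) (sigmaOpenCover fun i => (U i).left)]
    intro i
    show LocallyOfFinitePresentation (Sigma.ι (fun i => (U i).left) i ≫ Sigma.desc fun i => (u i).left)
    rw [Sigma.ι_desc]
    infer_instance

omit [∀ i, IsOpenImmersion (u i).left] in
include hcov in
theorem surjective_sig : Surjective (sig u) := ⟨fun t => by
  obtain ⟨i, z, hz⟩ := hcov t
  exact ⟨Sigma.ι (fun i => (U i).left) i z, by rw [← Scheme.Hom.comp_apply, Sigma.ι_desc, hz]⟩⟩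

/-- the pieces of the disjoint union over the base -/
def sigI (i : ι) : AbDual.ovr T (u i).left ⟶ AbDual.ovr T (sig u) :=
  Over.homMk (Sigma.ι (fun i => (U i).left) i) (by
    show Sigma.ι (fun i => (U i).left) i ≫ (sig u) ≫ T.hom = (u i).left ≫ T.hom
    rw [Sigma.ι_desc_assoc])

/-- a piece is the given object -/
def piece (i : ι) : U i ⟶ AbDual.ovr T (u i).left :=
  Over.homMk (𝟙 _) (by show 𝟙 _ ≫ (u i).left ≫ T.hom = _; rw [Category.id_comp, Over.w])

/-- a piece is the given object -/
def piece' (i : ι) : AbDual.ovr T (u i).left ⟶ U i :=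
  Over.homMk (𝟙 _) (by show 𝟙 _ ≫ (U i).hom = (u i).left ≫ T.hom; rw [Category.id_comp, Over.w])

include hcov ha in
/-- rigidified classes agreeing on an open covering are equal -/
theorem eq_of_cover {c d : PicF.Rig f σ hσ T} (h : ∀ i, rigPull f σ hσ (u i) c = rigPull f σ hσ (u i) d) : c = d := by
  haveI := (flat_sig u).1
  haveI := (flat_sig u).2
  haveI := surjective_sig u hcov
  obtain ⟨ho, hcov', hdisj⟩ := sigma_pieces f (fun i => (U i).left) (fun i => (u i).left) (sigI u) fun _ => rfl
  haveI := ho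
  refine Subtype.ext (eq_of_rigid (flatBij_XTproj f ha T) (isPullback_XTmap f (AbDual.ovrHom T (sig u)))
    (u := sig u) (PicF.secT f σ hσ T) (pullback.lift_snd _ _ _) c.2.1 d.2.1 ?_ c.2.2 d.2.2)
  refine eq_of_disjoint _ (fun i => PicF.XTmap f (sigI u i)) hcov'
    (fun a b hab => disjoint_iff.2 (Opens.ext (disjoint_iff.1 (hdisj a b hab))))
    (isInvertibleCl_pull _ c.2.1) (isInvertibleCl_pull _ d.2.1) fun i => ?_
  rw [pullCl_XTmap_comp, pullCl_XTmap_comp,
    show sigI u i ≫ AbDual.ovrHom T (sig u) = piece' u i ≫ u i from Over.OverMorphism.ext (by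
      show Sigma.ι (fun i => (U i).left) i ≫ (sig u) = 𝟙 _ ≫ (u i).left
      rw [Sigma.ι_desc, Category.id_comp])]
  rw [← pullCl_XTmap_comp, ← pullCl_XTmap_comp]
  exact congrArg (fun x => PicF.pullCl (PicF.XTmap f (piece' u i)) x) (congrArg Subtype.val (h i))

end Cover

include ha in
/-- rigidified classes glue along open coverings -/
theorem exists_glue {T : Over S} {ι : Type u} {U : ι → Over S} (u : ∀ i, U i ⟶ T) [∀ i, IsOpenImmersion (u i).left]
    (hcov : ∀ t : T.left, ∃ i, t ∈ Set.range (u i).left) (c : ∀ i, PicF.Rig f σ hσ (U i))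
    (hc : ∀ (i j : ι) (R : Over S) (a : R ⟶ U i) (b : R ⟶ U j), a ≫ u i = b ≫ u j →
      rigPull f σ hσ a (c i) = rigPull f σ hσ b (c j)) :
    ∃ d : PicF.Rig f σ hσ T, ∀ i, rigPull f σ hσ (u i) d = c i := by
  haveI := (flat_sig u).1
  haveI := (flat_sig u).2
  haveI := surjective_sig u hcov
  obtain ⟨ho, hcov', hdisj⟩ := sigma_pieces f (fun i => (U i).left) (fun i => (u i).left) (sigI u) fun _ => rfl
  haveI := ho
  let c₀ : ∀ i, PicF.Rig f σ hσ (AbDual.ovr T (u i).left) := fun i => rigPull f σ hσ (piece' u i) (c i)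
  choose L hLc hL using fun i => (c₀ i).2.1
  obtain ⟨M, hM, hMi⟩ := exists_disjoint_module _ (fun i => PicF.XTmap f (sigI u i)) hcov'
    (fun a b hab => disjoint_iff.2 (Opens.ext (disjoint_iff.1 (hdisj a b hab)))) L hL
  let T' := AbDual.ovr T (sig u)
  let A := PicF.pullCl (PicF.secT f σ hσ T') (PicF.cl M)
  obtain ⟨⟨B, hB⟩, hBA⟩ := exists_inv (⟨A, ⟨_, rfl, PicClLib.isInvertible_pullback _ hM⟩⟩ : PicLoc.PicSet T'.left)
  change B * A = 1 at hBA
  have hCs : PicF.pullCl (PicF.secT f σ hσ T') (PicF.cl M * PicF.pullCl (PicF.XTproj f T') B) = 1 := by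
    rw [pullCl_mul, PicClLib.pullCl_comp, show PicF.secT f σ hσ T' ≫ PicF.XTproj f T' = 𝟙 _ from pullback.lift_snd _ _ _,
      PicClLib.pullCl_id, mul_comm]
    exact hBA
  let C : PicF.Rig f σ hσ T' := ⟨_, isInvertibleCl_mul ⟨M, rfl, hM⟩ (isInvertibleCl_pull _ hB), hCs⟩
  have hB1 : ∀ i, PicF.pullCl (sigI u i).left B = 1 := fun i => by
    have h1 := congrArg (PicF.pullCl (sigI u i).left) hBA
    rw [pullCl_mul, pullCl_one, PicClLib.pullCl_comp, ← secT_XTmap f σ hσ (sigI u i), ← PicClLib.pullCl_comp,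
      hMi i, hLc i, show PicF.pullCl (PicF.secT f σ hσ _) (c₀ i).1 = 1 from (c₀ i).2.2, _root_.mul_one] at h1
    exact h1
  have hCi : ∀ i, rigPull f σ hσ (sigI u i) C = c₀ i := fun i => by
    refine Subtype.ext ?_
    show PicF.pullCl (PicF.XTmap f (sigI u i)) (PicF.cl M * PicF.pullCl (PicF.XTproj f T') B) = _
    rw [pullCl_mul, hMi i, hLc i, PicClLib.pullCl_comp, (isPullback_XTmap f (sigI u i)).w, ← PicClLib.pullCl_comp,
      hB1 i, pullCl_one, _root_.mul_one]
  -- the two pullbacks to the double product agree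
  let P' := AbDual.ovr T' (pullback.fst (sig u) (sig u))
  let g₁ : P' ⟶ T' := AbDual.ovrHom T' (pullback.fst (sig u) (sig u))
  let g₂ : P' ⟶ T' := Over.homMk (pullback.snd (sig u) (sig u)) (pullback.condition_assoc T.hom).symm
  have hglue : rigPull f σ hσ g₁ C = rigPull f σ hσ g₂ C := by
    let R : ι × ι → Over S := fun p => Over.mk (pullback.fst (u p.1).left (u p.2).left ≫ (u p.1).left ≫ T.hom)
    let r : ∀ p : ι × ι, R p ⟶ P' := fun p => Over.homMk
      (pullback.map (u p.1).left (u p.2).left (sig u) (sig u) (Sigma.ι (fun i => (U i).left) p.1)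
        (Sigma.ι (fun i => (U i).left) p.2) (𝟙 _) (by simp) (by simp)) (by
      show pullback.map _ _ _ _ _ _ _ _ _ ≫ pullback.fst (sig u) (sig u) ≫ (sig u) ≫ T.hom = pullback.fst _ _ ≫ _
      rw [pullback.lift_fst_assoc, Category.assoc, Sigma.ι_desc_assoc])
    let a : ∀ p : ι × ι, R p ⟶ AbDual.ovr T (u p.1).left := fun p => Over.homMk (pullback.fst _ _) rfl
    let b : ∀ p : ι × ι, R p ⟶ AbDual.ovr T (u p.2).left := fun p => Over.homMk (pullback.snd _ _)
      (pullback.condition_assoc T.hom).symm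
    haveI : ∀ p, IsOpenImmersion (r p).left := fun p => by
      haveI : IsOpenImmersion (Sigma.ι (fun i => (U i).left) p.1) := inferInstance
      haveI : IsOpenImmersion (Sigma.ι (fun i => (U i).left) p.2) := inferInstance
      have hm := MorphismProperty.pullbackMap (P := @IsOpenImmersion) (f := (u p.1).left) (g := (u p.2).left)
        (f' := sig u) (g' := sig u) (i₁ := Sigma.ι (fun i => (U i).left) p.1) (i₂ := Sigma.ι (fun i => (U i).left) p.2)
        (by infer_instance) (by infer_instance) (by simp) (by simp)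
      exact hm
    refine eq_of_cover f σ hσ ha r (fun z => ?_) fun p => ?_
    · obtain ⟨i, x, hx⟩ := (sigmaOpenCover fun i => (U i).left).exists_eq (pullback.fst (sig u) (sig u) z)
      obtain ⟨j, y, hy⟩ := (sigmaOpenCover fun i => (U i).left).exists_eq (pullback.snd (sig u) (sig u) z)
      refine ⟨(i, j), ?_⟩
      show z ∈ Set.range ⇑(pullback.map (u i).left (u j).left (sig u) (sig u) (Sigma.ι (fun i => (U i).left) i)
        (Sigma.ι (fun i => (U i).left) j) (𝟙 _) (by simp) (by simp))
      rw [Scheme.Pullback.range_map]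
      exact ⟨⟨x, hx⟩, y, hy⟩
    · have e₁ : r p ≫ g₁ = a p ≫ sigI u p.1 := Over.OverMorphism.ext (pullback.lift_fst _ _ _)
      have e₂ : r p ≫ g₂ = b p ≫ sigI u p.2 := Over.OverMorphism.ext (pullback.lift_snd _ _ _)
      rw [rigPull_comp, rigPull_comp, e₁, e₂, ← rigPull_comp, ← rigPull_comp, hCi, hCi]
      simp only [c₀, rigPull_comp]
      refine hc _ _ _ _ _ (Over.OverMorphism.ext ?_)
      simp only [Over.comp_left, a, b, piece', Over.homMk_left, Category.assoc, Category.id_comp]
      exact pullback.condition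
  obtain ⟨d, hd, -⟩ := existsUnique_rig f σ hσ ha T (sig u) C (congrArg Subtype.val hglue)
  refine ⟨d, fun i => ?_⟩
  have hd' : rigPull f σ hσ (AbDual.ovrHom T (sig u)) d = C := Subtype.ext hd
  rw [show u i = (piece u i ≫ sigI u i) ≫ AbDual.ovrHom T (sig u) from Over.OverMorphism.ext (by
      simp only [Over.comp_left, piece, sigI, Over.homMk_left, Category.assoc, Category.id_comp]
      exact (Sigma.ι_desc (fun i => (u i).left) i).symm),
    ← rigPull_comp, hd', ← rigPull_comp, hCi, rigPull_comp]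
  rw [show piece u i ≫ piece' u i = 𝟙 _ from Over.OverMorphism.ext (by simp [piece, piece']), rigPull_id]

end Groth.Agent.PicCurve

end
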