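import Groth.Agent.CurveCohLib.Nonspecial
import Groth.Agent.CurveCohLib.RegularCurve
import Groth.Agent.Lib.CurvePoint
import Groth.Agent.H23.TrivBasic
import Groth.Agent.H23.PicInv

/-!
# Twisting by points to exactly one section on a curve over an algebraically closed field
-/

noncomputable section

set_option autoImplicit false
set_option linter.style.haveILetI false
set_option linter.unusedSectionVars false
set_option backward.isDefEq.respectTransparency false
set_option backward.isDefEq.respectTransparency.types false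
set_option maxHeartbeats 1000000
set_option synthInstance.maxHeartbeats 400000
attribute [-instance] CategoryTheory.catToReflQuiver

universe u

open CategoryTheory CategoryTheory.Limits AlgebraicGeometry TopologicalSpace Opposite
open Groth.Agent.H23.PicMul

namespace Groth.Agent.PicCurve.CurveField

open Groth.Agent

variable (k : Type u) [Field k] [IsAlgClosed k] {C : Scheme.{u}} [C.Over (Spec (CommRingCat.of k))]
  [IsIntegral C] [IsProper (C ↘ Spec (CommRingCat.of k))] [Smooth (C ↘ Spec (CommRingCat.of k))]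
  (hdim : topologicalKrullDim C = 1)

theorem tens {A B N : C.Modules} (h : PicF.cl A * PicF.cl B = PicF.cl N) :
    Nonempty ((DCoh.tensorBi.obj A).obj B ≅ N) := cl_eq_iff.1 h

include hdim in
/-- twisting by the ideal of a point lowers the Euler characteristic by one -/
theorem euler_twist_pt {N : C.Modules} (hN : PicF.IsInvertible N) (p : C) (hp : IsClosed ({p} : Set C)) :
    Curv2.euler k C ((DCoh.tensorBi.obj N).obj (CurvePoint.ptMod p hp)) = Curv2.euler k C N - 1 := by
  haveI := CurveCohLib.isNoetherian_of_proper (k := k) (X := C)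
  have h := CurvePsi.deg_tensor_locFree k hdim.le (InvEnd.isFinLocFreeOfRank_one hN)
    (InvEnd.isFinLocFreeOfRank_one (CurvePoint.isInvertible_ptMod p hp k hdim))
  rw [CurvePoint.deg_ptMod p hp k, show (1 * 1 : ℕ) = 1 from rfl] at h
  unfold Curv2.deg at h
  push_cast at h
  linarith

include k hdim in
theorem sections_ok {N : C.Modules} (hN : PicF.IsInvertible N) (φ : Coh.structureModule C ⟶ N) (hφ : φ ≠ 0) :
    Mono φ ∧ CurveBundle.rk (cokernel φ) = 0 :=
  haveI := CurveCohLib.isNoetherian_of_proper (k := k) (X := C)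
  CurveCohLib.Nonspecial.section_of_sub k (CurveDeg.isCoh_of_isInvertible hN) hN (𝟙 N) φ hφ

include hdim in
/-- a point where a given nonzero section generates loses exactly one section -/
theorem exists_drop {N : C.Modules} (hN : PicF.IsInvertible N) (h : Module.finrank k (Coh.HH C N 0) ≠ 0)
    {P : Set C} (hPcl : ∀ p ∈ P, IsClosed ({p} : Set C)) (hP : P.Infinite) :
    ∃ (p : C) (hp : IsClosed ({p} : Set C)), p ∈ P ∧
      Module.finrank k (Coh.HH C ((DCoh.tensorBi.obj N).obj (CurvePoint.ptMod p hp)) 0) + 1 =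
        Module.finrank k (Coh.HH C N 0) := by
  haveI := CurveCohLib.isNoetherian_of_proper (k := k) (X := C)
  haveI : Module.Finite k (Coh.HH C N 0) := CurveCohLib.finite_HH (k := k) (CurveDeg.isCoh_of_isInvertible hN) 0
  obtain ⟨t, ht⟩ : ∃ t : Coh.HH C N 0, t ≠ 0 :=
    Module.finrank_pos_iff_exists_ne_zero.1 (Nat.pos_of_ne_zero h)
  let e := Sheaf.H.equiv₀ (Coh.toAb N) isTerminalTop
  let s : Γ(N, ⊤) := e t
  have hs : s ≠ 0 := fun h0 => ht (e.injective (h0.trans (map_zero e).symm))
  let O := H23.TrivBasic.locus s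
  have hO : O ≠ ⊥ := H23.TrivBasic.locus_ne_bot hN hs
  have hfin : ((O : Set C)ᶜ).Finite := CurveCohLib.finite_of_closedPoints O.isOpen.isClosed_compl fun x hx => by
    by_contra hxc
    obtain rfl := CurveCohLib.eq_genericPoint_of_not_isClosed hdim hxc
    obtain ⟨z, hz⟩ : ∃ z, z ∈ O := by
      by_contra hne
      exact hO (eq_bot_iff.2 fun z hz => absurd ⟨z, hz⟩ hne)
    exact hx (((genericPoint_spec C).specializes (Set.mem_univ z)).mem_open O.isOpen hz)
  obtain ⟨p, hpP, hpO⟩ := hP.exists_notMem_finite hfin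
  have hp := hPcl p hpP
  refine ⟨p, hp, hpP, (CurvePoint.finrank_twist p hp k (InvEnd.isFinLocFreeOfRank_one hN)).2 fun v => ?_⟩
  obtain ⟨U, hpU, hU⟩ := H23.TrivBasic.mem_locus_iff.1 (not_not.1 hpO : p ∈ O)
  obtain ⟨a, ha⟩ := (hU.germ_bijective hpU).2 v
  obtain ⟨c, hc⟩ := CurveSection.exists_stalkMap_sub_mem k hp a
  refine ⟨c • t, ?_⟩
  have h1 : N.presheaf.germ U p hpU (AModX.res N (le_top : U ≤ ⊤) s) = N.presheaf.germ ⊤ p trivial s :=
    InvX.germ_res' _ hpU s
  rw [CurveCohLib.germ_h0Equiv_smul]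
  simp only [h1] at ha
  rw [← ha, ← sub_smul]
  exact Submodule.smul_mem_smul hc Submodule.mem_top

include hdim in
/-- twists by points reach a module with exactly one section and no first cohomology -/
theorem exists_one_section {P : Set C} (hPcl : ∀ p ∈ P, IsClosed ({p} : Set C)) (hP : P.Infinite)
    (Γs : Set (PicF.Cl C)) {M : C.Modules} (hM : PicF.IsInvertible M) (hMΓ : PicF.cl M ∈ Γs)
    (hmul : ∀ a ∈ Γs, ∀ (p : C) (hp : IsClosed ({p} : Set C)), p ∈ P → a * PicF.cl (CurvePoint.ptMod p hp) ∈ Γs)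
    (hdiv : ∀ a ∈ Γs, ∀ (p : C) (hp : IsClosed ({p} : Set C)), p ∈ P →
      ∀ b, b * PicF.cl (CurvePoint.ptMod p hp) = a → b ∈ Γs) :
    ∃ N : C.Modules, PicF.IsInvertible N ∧ PicF.cl N ∈ Γs ∧
      Module.finrank k (Coh.HH C N 0) = 1 ∧ Module.finrank k (Coh.HH C N 1) = 0 := by
  haveI := CurveCohLib.isNoetherian_of_proper (k := k) (X := C)
  obtain ⟨p₀, hp₀⟩ := hP.nonempty
  obtain ⟨J, hJ, hJi⟩ := H23.PicInv.exists_inverse (CurvePoint.isInvertible_ptMod p₀ (hPcl p₀ hp₀) k hdim)
  -- raise the Euler characteristic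
  have up : ∀ n : ℕ, ∃ N : C.Modules, PicF.IsInvertible N ∧ PicF.cl N ∈ Γs ∧
      Curv2.euler k C N = Curv2.euler k C M + n := by
    intro n
    induction n with
    | zero => exact ⟨M, hM, hMΓ, by simp⟩
    | succ n ih =>
      obtain ⟨N, hN, hNΓ, hχ⟩ := ih
      let N' := (DCoh.tensorBi.obj N).obj J
      have hN' : PicF.IsInvertible N' := isInvertible_tensor hN hJ
      have hback : PicF.cl N' * PicF.cl (CurvePoint.ptMod p₀ (hPcl p₀ hp₀)) = PicF.cl N := by
        rw [show PicF.cl N' = PicF.cl N * PicF.cl J from rfl, _root_.mul_assoc,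
          mul_comm (PicF.cl J), show PicF.cl (CurvePoint.ptMod p₀ (hPcl p₀ hp₀)) * PicF.cl J = 1 from cl_eq_iff.2 hJi,
          _root_.mul_one]
      refine ⟨N', hN', hdiv _ hNΓ p₀ _ hp₀ _ hback, ?_⟩
      obtain ⟨e⟩ := tens hback
      have h := euler_twist_pt k hdim hN' p₀ (hPcl p₀ hp₀)
      rw [Euler.euler_congr k e] at h
      push_cast
      linarith
  obtain ⟨N, hN, hNΓ, hχ⟩ := up ((Curv2.genus k C : ℤ) + 1 - Curv2.euler k C M).toNat
  have hχ' : (Curv2.genus k C : ℤ) + 1 ≤ Curv2.euler k C N := by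
    rw [hχ]; omega
  have h1 : Module.finrank k (Coh.HH C N 1) = 0 := by
    haveI := CurveCohLib.Nonspecial.h1_of_euler k hdim (CurveDeg.isCoh_of_isInvertible hN)
      (sections_ok k hdim hN) (by linarith)
    exact Module.finrank_zero_of_subsingleton
  -- lower the number of sections
  have down : ∀ (n : ℕ) (N : C.Modules), PicF.IsInvertible N → PicF.cl N ∈ Γs →
      Module.finrank k (Coh.HH C N 0) = n + 1 → Module.finrank k (Coh.HH C N 1) = 0 →
      ∃ N : C.Modules, PicF.IsInvertible N ∧ PicF.cl N ∈ Γs ∧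
        Module.finrank k (Coh.HH C N 0) = 1 ∧ Module.finrank k (Coh.HH C N 1) = 0 := by
    intro n
    induction n with
    | zero => exact fun N hN hNΓ h0 h1 => ⟨N, hN, hNΓ, h0, h1⟩
    | succ n ih =>
      intro N hN hNΓ h0 h1
      obtain ⟨p, hp, hpP, hdrop⟩ := exists_drop k hdim hN (by omega) hPcl hP
      let N' := (DCoh.tensorBi.obj N).obj (CurvePoint.ptMod p hp)
      have hN' : PicF.IsInvertible N' := isInvertible_tensor hN (CurvePoint.isInvertible_ptMod p hp k hdim)
      have hχN := CurveRR.euler_eq_h0_sub_h1 k hdim.le (CurveDeg.isCoh_of_isInvertible hN).1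
      have hχN' := CurveRR.euler_eq_h0_sub_h1 k hdim.le (CurveDeg.isCoh_of_isInvertible hN').1
      have hχ := euler_twist_pt k hdim hN p hp
      change Module.finrank k (Coh.HH C N' 0) + 1 = Module.finrank k (Coh.HH C N 0) at hdrop
      change Curv2.euler k C N' = Curv2.euler k C N - 1 at hχ
      refine ih N' hN' ?_ (by omega) (by omega)
      rw [show PicF.cl N' = PicF.cl N * PicF.cl (CurvePoint.ptMod p hp) from rfl]
      exact hmul _ hNΓ p hp hpP
  have hχN := CurveRR.euler_eq_h0_sub_h1 k hdim.le (CurveDeg.isCoh_of_isInvertible hN).1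
  exact down (Module.finrank k (Coh.HH C N 0) - 1) N hN hNΓ (by omega) h1

end Groth.Agent.PicCurve.CurveField

end
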