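import Groth.Agent.PicCurve.DivOf
import Groth.Agent.FamEuler.Main
import Groth.Agent.JacTangent.FibreDeg
import Groth.Agent.Snapper.DimVanish
import Groth.Agent.FibDim.BaseField
import Groth.Agent.CurveFibDeg.Geom

/-!
# The degree of classes on the fibres of a curve
-/

noncomputable section

set_option autoImplicit false
set_option linter.style.haveILetI false
set_option linter.unusedSectionVars false
set_option backward.isDefEq.respectTransparency false
set_option backward.isDefEq.respectTransparency.types false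
set_option maxHeartbeats 1000000
set_option synthInstance.maxHeartbeats 400000
attribute [-instance] CategoryTheory.catToReflQuiver

universe u

open CategoryTheory CategoryTheory.Limits AlgebraicGeometry TopologicalSpace Opposite
open Groth.Agent.H23.PicMul

namespace Groth.Agent.PicCurve

variable {P T : Scheme.{u}} (π : P ⟶ T)

/-- the Euler characteristic of the fibre, in degrees at most one -/
def chiAt (L : P.Modules) (t : T) : ℤ :=
  (CohIII.fiberRank π L 0 t : ℤ) - (CohIII.fiberRank π L 1 t : ℤ)

theorem chiAt_congr {L L' : P.Modules} (e : L ≅ L') (t : T) : chiAt π L t = chiAt π L' t := by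
  simp only [chiAt, PBC.fiberRank_congr π e]

theorem chiAt_bc [IsProper π] {P' T' : Scheme.{u}} {π' : P' ⟶ T'} {g' : P' ⟶ P} {g : T' ⟶ T}
    (h : IsPullback g' π' π g) {L : P.Modules} (hL : Coh.IsQCoh L) (t : T') :
    chiAt π' ((Scheme.Modules.pullback g').obj L) t = chiAt π L (g t) := by
  simp only [chiAt, PBC.fiberRank_bc h hL]

theorem fibreEuler_eq_chiAt [IsProper π] {L : P.Modules} (hL : Coh.IsQCoh L) (t : T)
    (hd : topologicalKrullDim (π.fiber t) ≤ 1) : FamEuler.fibreEuler π L t = chiAt π L t := by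
  haveI : IsProper (π.fiberToSpecResidueField t) :=
    inferInstanceAs (IsProper (pullback.snd π (T.fromSpecResidueField t)))
  letI : (π.fiber t).Over (Spec (CommRingCat.of (T.residueField t : Type u))) := ⟨π.fiberToSpecResidueField t⟩
  haveI : IsProper (π.fiber t ↘ Spec (CommRingCat.of (T.residueField t : Type u))) :=
    ‹IsProper (π.fiberToSpecResidueField t)›
  haveI := CurveCohLib.isNoetherian_of_proper (k := (T.residueField t : Type u)) (X := π.fiber t)
  haveI : (π.fiber t).IsSeparated := ⟨by
    rw [show terminal.from (π.fiber t) = π.fiberToSpecResidueField t ≫ terminal.from _ from terminal.hom_ext _ _]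
    infer_instance⟩
  show (∑ᶠ j : ℕ, (-1 : ℤ) ^ j * (CohIII.fiberRank π L j t : ℤ)) = _
  rw [finsum_eq_sum_of_support_subset (s := Finset.range 2), Finset.sum_range_succ, Finset.sum_range_one]
  · simp [chiAt, sub_eq_add_neg]
  intro j hj
  rw [Finset.coe_range, Set.mem_Iio]
  by_contra hj2
  refine hj ?_
  haveI : Subsingleton (CohIII.fiberH π L t j) :=
    Snapper.subsingleton_HH_of_dim_le (d := 1) hd (QCoh.isQCoh_pullback _ hL) (by omega)
  show (-1 : ℤ) ^ j * (CohIII.fiberRank π L j t : ℤ) = 0
  rw [show CohIII.fiberRank π L j t = 0 from Module.finrank_zero_of_subsingleton]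
  simp

/-- the fibrewise Euler characteristic of an invertible module is locally constant -/
theorem isLocallyConstant_chiAt [IsProper π] [IsLocallyNoetherian T] {L : P.Modules}
    (hL : PicF.IsInvertible L) [Flat π] [LocallyOfFinitePresentation π]
    (hd : ∀ t, topologicalKrullDim (π.fiber t) ≤ 1) : IsLocallyConstant (chiAt π L) := by
  haveI : IsLocallyNoetherian P := LocallyOfFiniteType.isLocallyNoetherian π
  haveI := KFlatLib.hasInjectiveResolutions_modules (X := P)
  rw [show chiAt π L = FamEuler.fibreEuler π L from funext fun t => (fibreEuler_eq_chiAt π (isQCoh_inv hL) t (hd t)).symm]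
  exact FamEuler.isLocallyConstant_fibreEuler π L (CurveDeg.isCoh_of_isInvertible hL)
    (H23.Seesaw.isFlatOver_of_isInvertible π hL)

section Fam

variable {X S : Scheme.{u}} (f : X ⟶ S)

theorem eulerCharLE_fibre (T : Over S) (L : (PicF.XT f T).Modules) (t : T.left) :
    FGA.eulerCharLE (T.left.residueField t) (FGA.fibreAt f T t).left (FGA.restrFibre f T t L) 1 =
      chiAt (PicF.XTproj f T) L t := by
  show (Finset.range 2).sum _ = _
  rw [Finset.sum_range_succ, Finset.sum_range_one, pow_zero, _root_.one_mul, pow_one, neg_one_mul, chiAt,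
    sub_eq_add_neg]
  rfl

variable [IsProper f]

theorem hasFibreDegreeZero_iff (T : Over S) (L : (PicF.XT f T).Modules) :
    FGA.HasFibreDegreeZero f T L ↔
      ∀ t, chiAt (PicF.XTproj f T) L t = chiAt (PicF.XTproj f T) (Coh.structureModule _) t := by
  refine forall_congr' fun t => ?_
  rw [eulerCharLE_fibre f T L t]
  have h : FGA.eulerCharLE (T.left.residueField t) (FGA.fibreAt f T t).left (Coh.structureModule _) 1 =
      chiAt (PicF.XTproj f T) (Coh.structureModule _) t := by
    rw [← eulerCharLE_fibre f T _ t]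
    exact JacTangent.eulerCharLE_iso (CurveBC.unitIso _).symm 1
  rw [h]

/-- the degree of a class is zero on the fibre at a point -/
def Deg0At {T : Over S} (a : PicF.Cl (PicF.XT f T)) (t : T.left) : Prop :=
  ∃ L, PicF.cl L = a ∧ chiAt (PicF.XTproj f T) L t = chiAt (PicF.XTproj f T) (Coh.structureModule _) t

theorem deg0At_cl {T : Over S} (L : (PicF.XT f T).Modules) (t : T.left) :
    Deg0At f (PicF.cl L) t ↔
      chiAt (PicF.XTproj f T) L t = chiAt (PicF.XTproj f T) (Coh.structureModule _) t := by
  refine ⟨fun ⟨M, hM, h⟩ => ?_, fun h => ⟨L, rfl, h⟩⟩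
  obtain ⟨e⟩ := cl_eq_iff.1 hM
  rwa [← chiAt_congr _ e t]

theorem hasFibreDegreeZeroCl_iff {T : Over S} (a : PicF.Cl (PicF.XT f T)) :
    FGA.HasFibreDegreeZeroCl f T a ↔ ∀ t, Deg0At f a t := by
  obtain ⟨L, rfl⟩ := Quot.exists_rep a
  refine ⟨fun ⟨M, hM, h⟩ t => ⟨M, hM, (hasFibreDegreeZero_iff f T M).1 h t⟩, fun h => ⟨L, rfl, ?_⟩⟩
  exact (hasFibreDegreeZero_iff f T L).2 fun t => (deg0At_cl f L t).1 (h t)

theorem chiAt_unit_pull {T T' : Over S} (g : T' ⟶ T) (t : T'.left) :
    chiAt (PicF.XTproj f T') (Coh.structureModule _) t = chiAt (PicF.XTproj f T) (Coh.structureModule _) (g.left t) := by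
  haveI : IsProper (PicF.XTproj f T) := inferInstanceAs (IsProper (pullback.snd f T.hom))
  rw [← chiAt_bc (PicF.XTproj f T) (FppfPic.isPullback_XTmap f g) (PnCoh.isQCoh_structureModule _) t]
  exact chiAt_congr _ (CurveBC.unitIso _).symm t

theorem deg0At_pull {T T' : Over S} (g : T' ⟶ T) {a : PicF.Cl (PicF.XT f T)} (ha : PicF.IsInvertibleCl a)
    (t : T'.left) : Deg0At f (PicF.pullCl (PicF.XTmap f g) a) t ↔ Deg0At f a (g.left t) := by
  haveI : IsProper (PicF.XTproj f T) := inferInstanceAs (IsProper (pullback.snd f T.hom))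
  obtain ⟨L, rfl, hL⟩ := ha
  rw [show PicF.pullCl (PicF.XTmap f g) (PicF.cl L) = PicF.cl ((Scheme.Modules.pullback (PicF.XTmap f g)).obj L) from rfl,
    deg0At_cl, deg0At_cl, chiAt_bc (PicF.XTproj f T) (FppfPic.isPullback_XTmap f g) (isQCoh_inv hL), chiAt_unit_pull f g]

theorem dim_fiber_le (hdim : ∀ s : S, topologicalKrullDim (f.fiber s) ≤ 1) (T : Over S) (t : T.left) :
    topologicalKrullDim ((PicF.XTproj f T).fiber t) ≤ 1 := by
  let r := T.left.fromSpecResidueField t ≫ T.hom
  let e : (PicF.XTproj f T).fiber t ≅ pullback f r := pullbackLeftPullbackSndIso f T.hom _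
  rw [(Scheme.homeoOfIso e).isHomeomorph.topologicalKrullDim_eq, CurveFibDeg.topologicalKrullDim_fieldFibre f r]
  exact hdim _

theorem isClopen_deg0At [Flat f] [LocallyOfFinitePresentation f] (hdim : ∀ s : S, topologicalKrullDim (f.fiber s) ≤ 1)
    {T : Over S} [IsLocallyNoetherian T.left] {a : PicF.Cl (PicF.XT f T)} (ha : PicF.IsInvertibleCl a) :
    IsClopen {t : T.left | Deg0At f a t} := by
  haveI : IsProper (PicF.XTproj f T) := inferInstanceAs (IsProper (pullback.snd f T.hom))
  haveI : Flat (PicF.XTproj f T) := inferInstanceAs (Flat (pullback.snd f T.hom))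
  haveI : LocallyOfFinitePresentation (PicF.XTproj f T) :=
    inferInstanceAs (LocallyOfFinitePresentation (pullback.snd f T.hom))
  obtain ⟨L, rfl, hL⟩ := ha
  have h := (isLocallyConstant_chiAt (PicF.XTproj f T) hL (dim_fiber_le f hdim T)).comp₂
    (isLocallyConstant_chiAt (PicF.XTproj f T) (PicLoc.isInvertible_structureModule _) (dim_fiber_le f hdim T))
    (fun x y => x = y)
  have h' := h.isClopen_fiber True
  simp only [deg0At_cl]
  simpa using h'

end Fam

end Groth.Agent.PicCurve

end
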