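import Groth.Agent.PicCurve.DegDiv
import Groth.Agent.PicCurve.Univ
import Groth.Agent.PicCurve.Chart
import Groth.Agent.GeomField.GlobalFunctions
import Groth.Agent.CurveBC.Coh

/-!
# Degrees of classes on the fibres of a family of curves over a field
-/

noncomputable section

set_option autoImplicit false
set_option linter.style.haveILetI false
set_option linter.unusedSectionVars false
set_option backward.isDefEq.respectTransparency false
set_option backward.isDefEq.respectTransparency.types false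
set_option maxHeartbeats 1000000
set_option synthInstance.maxHeartbeats 400000
attribute [-instance] CategoryTheory.catToReflQuiver

universe u

open CategoryTheory CategoryTheory.Limits AlgebraicGeometry TopologicalSpace Opposite
open Groth.Agent.InvX Groth.Agent.AModX Groth.Agent.H23.PicMul

namespace Groth.Agent.PicCurve

variable {k : Type u} [Field k] {X : Scheme.{u}} (f : X ⟶ Spec (CommRingCat.of k))

/-- the Euler characteristic of a class on a fibre -/
def chiCl {T : Over (Spec (CommRingCat.of k))} (a : PicF.Cl (PicF.XT f T)) (t : T.left) : ℤ :=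
  Quot.lift (fun L => chiAt (PicF.XTproj f T) L t) (fun _ _ ⟨e⟩ => chiAt_congr _ e t) a

/-- the degree of a class on a fibre -/
def degCl {T : Over (Spec (CommRingCat.of k))} (a : PicF.Cl (PicF.XT f T)) (t : T.left) : ℤ :=
  chiCl f a t - chiCl f 1 t

theorem degCl_one {T : Over (Spec (CommRingCat.of k))} (t : T.left) :
    degCl f (1 : PicF.Cl (PicF.XT f T)) t = 0 := sub_self _

theorem chiCl_cl {T : Over (Spec (CommRingCat.of k))} (L : (PicF.XT f T).Modules) (t : T.left) :
    chiCl f (PicF.cl L) t = chiAt (PicF.XTproj f T) L t := rfl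

variable [IsProper f]

theorem deg0At_iff {T : Over (Spec (CommRingCat.of k))} (a : PicF.Cl (PicF.XT f T)) (t : T.left) :
    Deg0At f a t ↔ degCl f a t = 0 := by
  obtain ⟨L, rfl⟩ := Quot.exists_rep a
  show Deg0At f (PicF.cl L) t ↔ _
  rw [deg0At_cl, degCl, sub_eq_zero]
  rfl

theorem chiCl_pull {T T' : Over (Spec (CommRingCat.of k))} (g : T' ⟶ T) {a : PicF.Cl (PicF.XT f T)}
    (ha : PicF.IsInvertibleCl a) (t : T'.left) :
    chiCl f (PicF.pullCl (PicF.XTmap f g) a) t = chiCl f a (g.left t) := by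
  obtain ⟨L, rfl, hL⟩ := ha
  haveI : IsProper (PicF.XTproj f T) := inferInstanceAs (IsProper (pullback.snd f T.hom))
  exact chiAt_bc (PicF.XTproj f T) (FppfPic.isPullback_XTmap f g) (isQCoh_inv hL) t

theorem degCl_pull {T T' : Over (Spec (CommRingCat.of k))} (g : T' ⟶ T) {a : PicF.Cl (PicF.XT f T)}
    (ha : PicF.IsInvertibleCl a) (t : T'.left) :
    degCl f (PicF.pullCl (PicF.XTmap f g) a) t = degCl f a (g.left t) := by
  rw [degCl, chiCl_pull f g ha, ← pullCl_one (PicF.XTmap f g),
    chiCl_pull f g (a := 1) ⟨_, rfl, PicLoc.isInvertible_structureModule _⟩, degCl]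

/-- every point of a family is the image of a point with values in a field -/
theorem exists_field_point {T : Over (Spec (CommRingCat.of k))} (t : T.left) :
    ∃ (K : Type u) (_ : Field K) (r : Spec (CommRingCat.of K) ⟶ Spec (CommRingCat.of k)) (m : Over.mk r ⟶ T)
      (z : (Over.mk r).left), m.left z = t :=
  ⟨(T.left.residueField t : Type u), inferInstance, T.left.fromSpecResidueField t ≫ T.hom,
    Over.homMk (T.left.fromSpecResidueField t) rfl, IsLocalRing.closedPoint _,
    T.left.fromSpecResidueField_apply t _⟩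

variable [Smooth f] [SmoothOfRelativeDimension 1 f] [GeometricallyIntegral f]
  (hdim : topologicalKrullDim X = 1)

section FieldFibre

variable {K : Type u} [Field K] (r : Spec (CommRingCat.of K) ⟶ Spec (CommRingCat.of k))

instance isIntegral_XT : IsIntegral (PicF.XT f (Over.mk r)) := by
  haveI : GeometricallyIntegral (pullback.snd f r) := inferInstance
  exact GeometricallyIntegral.isIntegral_of_subsingleton (pullback.snd f r)

include hdim in
theorem dim_XT : topologicalKrullDim (PicF.XT f (Over.mk r)) = 1 := by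
  haveI : Subsingleton (Spec (CommRingCat.of k)) := inferInstanceAs (Subsingleton (PrimeSpectrum k))
  haveI : Subsingleton (Spec (CommRingCat.of K)) := inferInstanceAs (Subsingleton (PrimeSpectrum K))
  haveI : Nonempty (Spec (CommRingCat.of K)) := inferInstanceAs (Nonempty (PrimeSpectrum K))
  exact (FibDim.topologicalKrullDim_baseChange (IsPullback.of_hasPullback f r)).trans hdim

include hdim in
theorem chiCl_field {L : (PicF.XT f (Over.mk r)).Modules} (hL : Coh.IsQCoh L) (t : (Over.mk r).left) :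
    letI : (PicF.XT f (Over.mk r)).Over (Spec (CommRingCat.of K)) := ⟨PicF.XTproj f (Over.mk r)⟩
    chiCl f (PicF.cl L) t = Curv2.euler K (PicF.XT f (Over.mk r)) L := by
  letI : (PicF.XT f (Over.mk r)).Over (Spec (CommRingCat.of K)) := ⟨PicF.XTproj f (Over.mk r)⟩
  haveI : IsProper (PicF.XT f (Over.mk r) ↘ Spec (CommRingCat.of K)) := isProper_proj f (Over.mk r)
  exact chiAt_field (dim_XT f hdim r).le hL t

theorem isNonzero_fibNZ {L : (PicF.XT f (Over.mk r)).Modules} (hL : PicF.IsInvertible L) (s : Γ(L, ⊤))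
    (hs : s ≠ 0) : FibNZ (PicF.XTproj f (Over.mk r)) L s := by
  intro x U hx e he c hc hmem
  have hm : mIdeal (PicF.XTproj f (Over.mk r)) x = ⊥ := by
    rw [mIdeal, show IsLocalRing.maximalIdeal ((Over.mk r).left.presheaf.stalk (PicF.XTproj f (Over.mk r) x)) = ⊥
      from AlgSpLib.maximalIdeal_stalk_spec_field _ _]
    exact Ideal.map_bot
  rw [hm, Ideal.mem_bot] at hmem
  haveI : Nonempty ↥U := ⟨⟨x, hx⟩⟩
  have hc0 : c = 0 := (map_eq_zero_iff ((PicF.XT f (Over.mk r)).presheaf.germ U x hx).hom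
    (germ_injective_of_isIntegral (X := PicF.XT f (Over.mk r)) x hx)).1 hmem
  rw [hc0, zero_smul] at hc
  exact hs (CurveCohLib.Hopf.eq_zero_of_germ_eq_zero hL s (x := x)
    ((InvX.germ_res' (le_top : U ≤ ⊤) hx s).symm.trans ((congrArg _ hc).trans (map_zero _))))

theorem cl_mul_idealMod {L : (PicF.XT f (Over.mk r)).Modules} (hL : PicF.IsInvertible L) (s : Γ(L, ⊤))
    (hs : s ≠ 0) : BlowUp.IsEffCartierIdeal (PicF2.zeroScheme L (ofSect s)) ∧
      PicF.cl L * PicF.cl (ClSub.idealMod (PicF2.zeroScheme L (ofSect s))) = 1 := by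
  refine Big.zeroScheme_divisor hL (ofSect s) fun x => ?_
  obtain ⟨W, hxW, e, he⟩ := exists_frame hL x
  obtain ⟨_, ⟨U, hU, rfl⟩, hxU, hUW⟩ :=
    (PicF.XT f (Over.mk r)).isBasis_affineOpens.exists_subset_of_mem_open (show x ∈ W from hxW) W.2
  have he' := he.res (show U ≤ W from hUW)
  obtain ⟨c, hc⟩ := he'.exists_coord le_rfl (AModX.res L (le_top : U ≤ ⊤) s)
  rw [AModX.res_self] at hc
  refine ⟨⟨U, hU⟩, hxU, _, c, he', (sv_ofSect s U).trans hc, fun h0 => hs ?_⟩
  rw [h0, zero_smul] at hc
  exact CurveCohLib.Hopf.eq_zero_of_germ_eq_zero hL s (x := x)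
    ((InvX.germ_res' (le_top : U ≤ ⊤) hxU s).symm.trans ((congrArg _ hc).trans (map_zero _)))

include hdim in
/-- the degree of a module with a section cutting out a divisor of degree d -/
theorem degCl_of_section {L : (PicF.XT f (Over.mk r)).Modules} (hL : PicF.IsInvertible L) (s : Γ(L, ⊤))
    (hs : s ≠ 0) (d : ℕ)
    (hd : Mor2.IsFinLocFreeOfDeg d ((PicF2.zeroScheme L (ofSect s)).subschemeι ≫ PicF.XTproj f (Over.mk r)))
    (t : (Over.mk r).left) : degCl f (PicF.cl L) t = d := by
  letI : (PicF.XT f (Over.mk r)).Over (Spec (CommRingCat.of K)) := ⟨PicF.XTproj f (Over.mk r)⟩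
  haveI : IsProper (PicF.XT f (Over.mk r) ↘ Spec (CommRingCat.of K)) := isProper_proj f (Over.mk r)
  obtain ⟨hD, hLD⟩ := cl_mul_idealMod f r hL s hs
  haveI : Flat ((PicF2.zeroScheme L (ofSect s)).subschemeι ≫ (PicF.XT f (Over.mk r) ↘ Spec (CommRingCat.of K))) :=
    hd.1.2.1
  have h := euler_eq_of_section (dim_XT f hdim r).le hL _ hD hLD t
  rw [degCl, chiCl_field f hdim r (isQCoh_inv hL), one_def,
    chiCl_field f hdim r (PnCoh.isQCoh_structureModule _), h]
  have := hd.2 t
  show _ + (((PicF2.zeroScheme L (ofSect s)).subschemeι ≫ PicF.XTproj f (Over.mk r)).finrank t : ℤ) - _ = _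
  rw [this]
  ring

include hdim in
theorem degCl_mul_field {a b : PicF.Cl (PicF.XT f (Over.mk r))} (ha : PicF.IsInvertibleCl a)
    (hb : PicF.IsInvertibleCl b) (t : (Over.mk r).left) :
    degCl f (a * b) t = degCl f a t + degCl f b t := by
  letI : (PicF.XT f (Over.mk r)).Over (Spec (CommRingCat.of K)) := ⟨PicF.XTproj f (Over.mk r)⟩
  haveI : IsProper (PicF.XT f (Over.mk r) ↘ Spec (CommRingCat.of K)) := isProper_proj f (Over.mk r)
  obtain ⟨L, rfl, hL⟩ := ha
  obtain ⟨M, rfl, hM⟩ := hb
  rw [← cl_tensor]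
  simp only [degCl, one_def, chiCl_field f hdim r (isQCoh_inv (isInvertible_tensor hL hM)),
    chiCl_field f hdim r (isQCoh_inv hL), chiCl_field f hdim r (isQCoh_inv hM),
    chiCl_field f hdim r (PnCoh.isQCoh_structureModule _)]
  have h := CurveRR.deg_tensor K (dim_XT f hdim r) hL hM
  simp only [Curv2.deg, Nat.cast_one, _root_.one_mul] at h
  exact h

include hdim in
theorem chiCl_one_field (σ : Spec (CommRingCat.of k) ⟶ X) (hσ : σ ≫ f = 𝟙 _)
    [X.Over (Spec (CommRingCat.of k))] (hf : X ↘ Spec (CommRingCat.of k) = f) (t : (Over.mk r).left) :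
    chiCl f (1 : PicF.Cl (PicF.XT f (Over.mk r))) t =
      1 - (Module.finrank k (Coh.HH X (Coh.structureModule X) 1) : ℤ) := by
  subst hf
  letI : (PicF.XT (X ↘ Spec (CommRingCat.of k)) (Over.mk r)).Over (Spec (CommRingCat.of K)) :=
    ⟨PicF.XTproj _ (Over.mk r)⟩
  haveI : IsProper (PicF.XT (X ↘ Spec (CommRingCat.of k)) (Over.mk r) ↘ Spec (CommRingCat.of K)) :=
    isProper_proj _ (Over.mk r)
  letI : Algebra k K := (Spec.preimage r).hom.toAlgebra
  have hr : Spec.map (CommRingCat.ofHom (algebraMap k K)) = r := Spec.map_preimage r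
  have hpb : IsPullback (pullback.fst (X ↘ Spec (CommRingCat.of k)) r)
      (PicF.XT (X ↘ Spec (CommRingCat.of k)) (Over.mk r) ↘ Spec (CommRingCat.of K))
      (X ↘ Spec (CommRingCat.of k)) (Spec.map (CommRingCat.ofHom (algebraMap k K))) := by
    rw [hr]; exact IsPullback.of_hasPullback _ r
  haveI : CompactSpace X := QuasiCompact.compactSpace_of_compactSpace (X ↘ Spec (CommRingCat.of k))
  haveI : QuasiSeparatedSpace X := quasiSeparatedSpace_of_quasiSeparated (X ↘ Spec (CommRingCat.of k))
  rw [one_def, chiCl_field _ hdim r (PnCoh.isQCoh_structureModule _),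
    CurveRR.euler_eq_h0_sub_h1 K (dim_XT _ hdim r).le (PnCoh.isQCoh_structureModule _),
    show Module.finrank K (Coh.HH (PicF.XT (X ↘ Spec (CommRingCat.of k)) (Over.mk r)) (Coh.structureModule _) 1) =
      Module.finrank k (Coh.HH X (Coh.structureModule X) 1) from
      CurveBC.finrank_hh_unit k K (pullback.fst (X ↘ Spec (CommRingCat.of k)) r) hpb 1]
  have h0 : Module.finrank K
      (Coh.HH (PicF.XT (X ↘ Spec (CommRingCat.of k)) (Over.mk r)) (Coh.structureModule _) 0) = 1 := by
    haveI hi := isIso_app (X ↘ Spec (CommRingCat.of k)) σ hσ (Over.mk r) ⊤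
    rw [GeomField.finrank_HH_zero]
    letI := GeomField.globalAlgebra K (PicF.XT (X ↘ Spec (CommRingCat.of k)) (Over.mk r))
    have hb : Function.Bijective (algebraMap K Γ(PicF.XT (X ↘ Spec (CommRingCat.of k)) (Over.mk r), ⊤)) :=
      show Function.Bijective (fun c : K => (PicF.XTproj (X ↘ Spec (CommRingCat.of k)) (Over.mk r)).app ⊤
          ((Scheme.ΓSpecIso (CommRingCat.of K)).inv c)) from
        Function.Bijective.comp (g := ⇑((PicF.XTproj (X ↘ Spec (CommRingCat.of k)) (Over.mk r)).app ⊤).hom)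
          (ConcreteCategory.bijective_of_isIso ((PicF.XTproj (X ↘ Spec (CommRingCat.of k)) (Over.mk r)).app ⊤))
          (ConcreteCategory.bijective_of_isIso (Scheme.ΓSpecIso (CommRingCat.of K)).inv)
    exact (LinearEquiv.ofBijective (Algebra.linearMap K _) hb).finrank_eq.symm.trans (Module.finrank_self K)
  rw [h0]
  rfl

end FieldFibre

include hdim in
/-- degrees add -/
theorem degCl_mul {T : Over (Spec (CommRingCat.of k))} {a b : PicF.Cl (PicF.XT f T)}
    (ha : PicF.IsInvertibleCl a) (hb : PicF.IsInvertibleCl b) (t : T.left) :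
    degCl f (a * b) t = degCl f a t + degCl f b t := by
  obtain ⟨K, _, r, m, z, hz⟩ := exists_field_point t
  rw [← hz, ← degCl_pull f m (isInvertibleCl_mul ha hb), ← degCl_pull f m ha, ← degCl_pull f m hb, pullCl_mul]
  exact degCl_mul_field f hdim r (FppfPic.isInvertibleCl_pull _ ha) (FppfPic.isInvertibleCl_pull _ hb) z

include hdim in
theorem degCl_invCl {T : Over (Spec (CommRingCat.of k))} {a : PicF.Cl (PicF.XT f T)}
    (ha : PicF.IsInvertibleCl a) (t : T.left) : degCl f (invCl ha) t = - degCl f a t := by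
  have h := degCl_mul f hdim ha (isInvertibleCl_invCl ha) t
  rw [mul_invCl, degCl_one] at h
  omega

include hdim in
theorem degCl_proj {T : Over (Spec (CommRingCat.of k))} {n : PicF.Cl T.left}
    (hn : PicF.IsInvertibleCl n) (t : T.left) : degCl f (PicF.pullCl (PicF.XTproj f T) n) t = 0 := by
  obtain ⟨V, htV, hV⟩ := exists_open_trivial hn t
  have hi : PicF.IsInvertibleCl (PicF.pullCl (PicF.XTproj f T) n) := FppfPic.isInvertibleCl_pull _ hn
  rw [show t = (AbDual.ovrHom T V.ι).left ⟨t, htV⟩ from rfl, ← degCl_pull f _ hi, pull_proj f]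
  exact (congrArg (fun a => degCl f a _) ((congrArg _ hV).trans (pullCl_one _))).trans (degCl_one f _)

include hdim in
theorem degCl_rigify (σ : Spec (CommRingCat.of k) ⟶ X) (hσ : σ ≫ f = 𝟙 _) {T : Over (Spec (CommRingCat.of k))}
    {a : PicF.Cl (PicF.XT f T)} (ha : PicF.IsInvertibleCl a) (t : T.left) :
    degCl f (rigify f σ hσ ha).1 t = degCl f a t := by
  show degCl f (a * _) t = _
  rw [degCl_mul f hdim ha (FppfPic.isInvertibleCl_pull _ (isInvertibleCl_invCl _)),
    degCl_proj f hdim (isInvertibleCl_invCl _), add_zero]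

end Groth.Agent.PicCurve

end
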