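import Groth.Agent.PicCurve.Deg
import Groth.Agent.FppfPic.HyperSec
import Groth.Agent.S1604
import Groth.Agent.Big.SectionDivisor
import Groth.Agent.QuotRep.BdAux
import Groth.Agent.Lib.CurveRR

/-!
# Degrees of divisors on a curve over a field
-/

noncomputable section

set_option autoImplicit false
set_option linter.style.haveILetI false
set_option linter.unusedSectionVars false
set_option backward.isDefEq.respectTransparency false
set_option backward.isDefEq.respectTransparency.types false
set_option maxHeartbeats 1000000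
set_option synthInstance.maxHeartbeats 400000
attribute [-instance] CategoryTheory.catToReflQuiver

universe u

open CategoryTheory CategoryTheory.Limits AlgebraicGeometry TopologicalSpace Opposite
open Groth.Agent.H23.PicMul

namespace Groth.Agent.PicCurve

variable (K : Type u) [Field K]

/-- global functions of a scheme finite over a field -/
theorem finrank_Γ_eq {Z : Scheme.{u}} (q : Z ⟶ Spec (CommRingCat.of K)) [IsFinite q] [Flat q]
    (t : Spec (CommRingCat.of K)) :
    letI := (Coh.toGlobal q).toAlgebra (R := K) (S := Γ(Z, ⊤))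
    Module.finrank K Γ(Z, ⊤) = q.finrank t := by
  letI := (Coh.toGlobal q).toAlgebra (R := K) (S := Γ(Z, ⊤))
  haveI : IsAffine Z := isAffine_of_isAffineHom q
  have hq : q = Z.isoSpec.hom ≫ Spec.map (CommRingCat.ofHom (algebraMap K Γ(Z, ⊤))) := by
    rw [RingHom.algebraMap_toAlgebra]
    show q = Z.toSpecΓ ≫ Spec.map ((Scheme.ΓSpecIso (CommRingCat.of K)).inv ≫ q.appTop)
    rw [Spec.map_comp, ← Category.assoc, ← Scheme.toSpecΓ_naturality q, Category.assoc,
      ← SpecMap_ΓSpecIso_hom, ← Spec.map_comp, Iso.inv_hom_id, Spec.map_id, Category.comp_id]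
  have h1 : IsFinite (Z.isoSpec.hom ≫ Spec.map (CommRingCat.ofHom (algebraMap K Γ(Z, ⊤)))) := hq ▸ ‹IsFinite q›
  haveI : IsFinite (Spec.map (CommRingCat.ofHom (algebraMap K Γ(Z, ⊤)))) :=
    (MorphismProperty.cancel_left_of_respectsIso @IsFinite _ _).1 h1
  haveI : Module.Finite K Γ(Z, ⊤) := RingHom.finite_algebraMap.1
    ((IsFinite.SpecMap_iff (f := CommRingCat.ofHom (algebraMap K Γ(Z, ⊤)))).1 inferInstance)
  haveI : Flat (Spec.map (CommRingCat.ofHom (algebraMap K Γ(Z, ⊤)))) :=
    Flat.SpecMap_iff.2 (RingHom.flat_algebraMap_iff.2 inferInstance)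
  conv_rhs => rw [hq]
  rw [Scheme.Hom.finrank_comp_left_of_isIso, Scheme.Hom.finrank_SpecMap_algebraMap,
    Module.rankAtStalk_eq_finrank_of_free]
  rfl

variable {K} {X : Scheme.{u}} [X.Over (Spec (CommRingCat.of K))]

/-- the sections of the structure sheaf of a finite subscheme -/
theorem finrank_quotMod (D : X.IdealSheafData) [IsFinite (D.subschemeι ≫ (X ↘ Spec (CommRingCat.of K)))]
    [Flat (D.subschemeι ≫ (X ↘ Spec (CommRingCat.of K)))] (t : Spec (CommRingCat.of K)) :
    Module.finrank K (Coh.HH X (ClSub.quotMod D) 0) = (D.subschemeι ≫ (X ↘ Spec (CommRingCat.of K))).finrank t := by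
  let q := D.subschemeι ≫ (X ↘ Spec (CommRingCat.of K))
  letI := (Coh.toGlobal q).toAlgebra (R := K) (S := Γ(D.subscheme, ⊤))
  letI := FppfPic.HyperSec.secMod K (X := X) (ClSub.quotMod D)
  rw [FppfPic.HyperSec.finrank_HH_zero K (ClSub.quotMod D), ← finrank_Γ_eq K q t]
  let e : Γ(ClSub.quotMod D, ⊤) ≃+ Γ(D.subscheme, ⊤) := AddEquiv.refl _
  let eL : Γ(ClSub.quotMod D, ⊤) ≃ₗ[K] Γ(D.subscheme, ⊤) :=
    { e with map_smul' := fun c x => rfl }
  exact eL.finrank_eq

variable [IsProper (X ↘ Spec (CommRingCat.of K))] [IsIntegral X]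

/-- the Euler characteristic of a module with a nonzero section -/
theorem euler_eq_of_section (hdim : topologicalKrullDim X ≤ 1) {L : X.Modules} (hL : PicF.IsInvertible L)
    (D : X.IdealSheafData) (hD : BlowUp.IsEffCartierIdeal D)
    (hLD : PicF.cl L * PicF.cl (ClSub.idealMod D) = 1) (t : Spec (CommRingCat.of K))
    [Flat (D.subschemeι ≫ (X ↘ Spec (CommRingCat.of K)))] :
    Curv2.euler K X L = Curv2.euler K X (Coh.structureModule X) +
      (D.subschemeι ≫ (X ↘ Spec (CommRingCat.of K))).finrank t := by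
  obtain ⟨hfin, h⟩ := S1604.result K X hdim D hD L hL ((PicGrp.cl_eq_cl_iff _ _).1 hLD) 1 (Coh.structureModule X)
    (InvEnd.isFinLocFreeOfRank_one (PicLoc.isInvertible_structureModule X))
  haveI := hfin
  rw [← finrank_quotMod D t]
  obtain ⟨e⟩ := cl_eq_iff.1 (show PicF.cl (CohB1.tensorMod (Coh.structureModule X) L) = PicF.cl L by
    rw [cl_tensor, ← one_def, _root_.one_mul])
  simp only [Curv2.deg, Nat.cast_one, _root_.one_mul, CurveCohLib.euler_congr (k := K) e, sub_self, add_zero] at h
  omega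

theorem chiAt_field (hdim : topologicalKrullDim X ≤ 1) {L : X.Modules} (hL : Coh.IsQCoh L)
    (t : Spec (CommRingCat.of K)) : chiAt (X ↘ Spec (CommRingCat.of K)) L t = Curv2.euler K X L := by
  rw [CurveRR.euler_eq_h0_sub_h1 K hdim hL, chiAt, QuotRep.fiberRank_field _ hL, QuotRep.fiberRank_field _ hL]

end Groth.Agent.PicCurve

end
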