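import Groth.Agent.H23.CocycleMod
import Groth.Agent.ZeroSchX.Basic
import Groth.Agent.InvX.GenLocusPull
import Groth.Agent.InvX.Tensor
import Groth.Agent.HTopCov.AlmostBlowUp
import Groth.Prelude.Def_BlowUp2

/-!
# Effective Cartier divisors and invertible modules with a section
-/

noncomputable section

set_option autoImplicit false
set_option linter.style.haveILetI false
set_option linter.unusedSectionVars false
set_option backward.isDefEq.respectTransparency false
set_option backward.isDefEq.respectTransparency.types false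
set_option maxHeartbeats 1000000
set_option synthInstance.maxHeartbeats 400000
attribute [-instance] CategoryTheory.catToReflQuiver

universe u

open CategoryTheory CategoryTheory.Limits AlgebraicGeometry TopologicalSpace Opposite
open Groth.Agent.InvX Groth.Agent.AModX

namespace Groth.Agent.PicCurve

variable {P : Scheme.{u}}

/-- a nonzerodivisor of an affine open is regular on smaller opens -/
theorem regular_res (V : P.affineOpens) {c : Γ(P, V.1)} (hc : c ∈ nonZeroDivisors Γ(P, V.1)) {W : P.Opens}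
    (h : W ≤ V.1) {a b : Γ(P, W)} (hab : a * resR h c = b * resR h c) : a = b := by
  refine eq_of_locally (M := Coh.structureModule P) a b fun p hp => ?_
  obtain ⟨r, hr, hpr⟩ := V.2.exists_basicOpen_le (V := W) ⟨p, hp⟩ (h hp)
  refine ⟨P.basicOpen r, hr, hpr, ?_⟩
  haveI := V.2.isLocalization_basicOpen r
  show resR hr a = resR hr b
  have h1 : (resR hr a - resR hr b) * algebraMap Γ(P, V.1) Γ(P, P.basicOpen r) c = 0 := by
    rw [show algebraMap Γ(P, V.1) Γ(P, P.basicOpen r) c = resR hr (resR h c) from (resR_resR h hr c).symm,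
      sub_mul, ← map_mul, ← map_mul, hab, sub_self]
  refine sub_eq_zero.1 ?_
  obtain ⟨⟨z, t⟩, hz⟩ := IsLocalization.surj (Submonoid.powers r) (resR hr a - resR hr b)
  have h2 : algebraMap Γ(P, V.1) Γ(P, P.basicOpen r) (z * c) = 0 := by
    rw [map_mul, ← hz, mul_right_comm, h1, zero_mul]
  obtain ⟨w, hw⟩ := (IsLocalization.map_eq_zero_iff (Submonoid.powers r) _ _).1 h2
  have h3 : w.1 * z = 0 := mem_nonZeroDivisors_iff_right.1 hc _ (by rw [mul_assoc]; exact hw)
  have h4 : algebraMap Γ(P, V.1) Γ(P, P.basicOpen r) z = 0 :=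
    (IsLocalization.map_eq_zero_iff (Submonoid.powers r) _ _).2 ⟨w, h3⟩
  exact (IsLocalization.map_units Γ(P, P.basicOpen r) t).mul_left_eq_zero.1 (hz.trans h4)

/-- the restriction of a generator of an ideal sheaf -/
theorem ideal_res (I : P.IdealSheafData) {V W : P.affineOpens} (h : W.1 ≤ V.1) {c : Γ(P, V.1)}
    (hI : I.ideal V = Ideal.span {c}) : I.ideal W = Ideal.span {resR h c} := by
  rw [← I.map_ideal (show W ≤ V from h), hI, Ideal.map_span, Set.image_singleton]
  rfl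

/-- two generators differ by a unique multiplier on every common open -/
theorem exists_ratio (I : P.IdealSheafData) {V V' : P.affineOpens} {c : Γ(P, V.1)} {c' : Γ(P, V'.1)}
    (hc : c ∈ nonZeroDivisors Γ(P, V.1)) (hI : I.ideal V = Ideal.span {c})
    (hI' : I.ideal V' = Ideal.span {c'}) :
    ∃ a : Γ(P, V.1 ⊓ V'.1), resR inf_le_right c' = a * resR inf_le_left c := by
  have hloc : ∀ p : ↥(V.1 ⊓ V'.1 : P.Opens), ∃ (W : P.Opens) (_ : p.1 ∈ W) (hW : W ≤ V.1 ⊓ V'.1)
      (a : Γ(P, W)), resR (hW.trans inf_le_right) c' = a * resR (hW.trans inf_le_left) c := by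
    rintro ⟨p, hp⟩
    obtain ⟨r, hr, hpr⟩ := V.2.exists_basicOpen_le (V := V.1 ⊓ V'.1) ⟨p, hp⟩ hp.1
    have e := (ideal_res I (W := P.affineBasicOpen r) (hr.trans inf_le_right) hI').symm.trans
      (ideal_res I (W := P.affineBasicOpen r) (hr.trans inf_le_left) hI)
    obtain ⟨a, ha⟩ := Ideal.mem_span_singleton'.1 (e ▸ Ideal.mem_span_singleton_self _)
    exact ⟨_, hpr, hr, a, ha.symm⟩
  choose W hpW hW a ha using hloc
  obtain ⟨g, hg, -⟩ := existsUnique_glue (M := Coh.structureModule P) (V := V.1 ⊓ V'.1) W hW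
    (fun p hp => ⟨⟨p, hp⟩, hpW _⟩) a fun i j => by
      show resR inf_le_left (a i) = resR inf_le_right (a j)
      refine regular_res V hc (inf_le_left.trans ((hW i).trans inf_le_left)) ?_
      have h1 := congrArg (resR (inf_le_left : W i ⊓ W j ≤ W i)) (ha i)
      have h2 := congrArg (resR (inf_le_right : W i ⊓ W j ≤ W j)) (ha j)
      rw [map_mul, resR_resR, resR_resR] at h1 h2
      exact h1.symm.trans h2
  refine ⟨(show Γ(P, V.1 ⊓ V'.1) from g), eq_of_locally (M := Coh.structureModule P) _ _ fun p hp => ⟨W ⟨p, hp⟩, hW _, hpW _, ?_⟩⟩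
  show resR _ (resR _ c') = resR _ ((show Γ(P, V.1 ⊓ V'.1) from g) * resR _ c)
  rw [map_mul, resR_resR, resR_resR, show resR (hW ⟨p, hp⟩) g = a ⟨p, hp⟩ from hg ⟨p, hp⟩]
  exact ha _

theorem sv_ofSect {L : P.Modules} (s : Γ(L, ⊤)) (U : P.Opens) : ZeroSchX.sv (ofSect s) U = res L (le_top : U ≤ ⊤) s := by
  conv_rhs => rw [← one_ofSect s]
  exact (ZeroSchX.res_sv (ofSect s) le_top).symm

/-- an effective Cartier divisor is the zero scheme of a section of an invertible module -/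
theorem exists_line (I : P.IdealSheafData) (hI : BlowUp.IsEffCartierIdeal I) :
    ∃ (L : P.Modules) (s : Γ(L, ⊤)), PicF.IsInvertible L ∧ PicF2.zeroScheme L (ofSect s) = I := by
  choose V hxV c hc hIV using hI
  let U : P → P.Opens := fun x => (V x).1
  choose a ha using fun x y => exists_ratio I (hc x) (hIV x) (hIV y)
  have ha' : ∀ (x y : P) (W : P.Opens) (hx : W ≤ U x) (hy : W ≤ U y),
      resR (le_inf hx hy) (a x y) * resR hx (c x) = resR hy (c y) := fun x y W hx hy => by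
    have h := congrArg (resR (le_inf hx hy)) (ha x y)
    rw [map_mul, resR_resR, resR_resR] at h
    exact h.symm
  have hinv : ∀ x y : P, a x y * resR (le_inf inf_le_right inf_le_left) (a y x) = 1 := fun x y => by
    refine regular_res (V y) (hc y) inf_le_right ?_
    have h1 := ha' x y _ inf_le_left inf_le_right
    rw [resR_self] at h1
    rw [one_mul, mul_assoc, ha' y x _ inf_le_right inf_le_left, h1]
  let t : H23.CocycleMod.Cocycle U :=
    { g := fun x y => Units.mkOfMulEqOne _ _ (hinv x y)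
      trans := fun i j k W hi hj hk => by
        refine regular_res (V i) (hc i) hi ?_
        show resR _ (a i k) * _ = resR _ (a j k) * resR _ (a i j) * _
        rw [ha' i k W hi hk, mul_assoc, ha' i j W hi hj, ha' j k W hj hk] }
  have hcov : iSup U = ⊤ := eq_top_iff.2 fun p _ => Opens.mem_iSup.2 ⟨p, hxV p⟩
  let L := H23.CocycleMod.mod t
  have hco : H23.CocycleMod.IsCo t (W := (⊤ : P.Opens)) fun x => resR inf_le_right (c x) := fun x y W hW hx hy => by
    rw [resR_resR, resR_resR]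
    exact (ha' x y W hx hy).symm
  let s : Γ(L, ⊤) := (⟨_, hco⟩ : H23.CocycleMod.grp t ⊤)
  have hL : PicF.IsInvertible L := H23.CocycleMod.isInvertible t hcov
  refine ⟨L, s, hL, Scheme.IdealSheafData.ext_of_iSup_eq_top V hcov fun x => ?_⟩
  have hs : res L (le_top : U x ≤ ⊤) s = c x • H23.CocycleMod.frame t x := by
    refine (show Function.Injective (H23.CocycleMod.fam t (W := U x)) from fun _ _ e => e)
      (H23.CocycleMod.grp_ext t fun y => ?_)
    rw [H23.CocycleMod.fam_res, H23.CocycleMod.fam_smul]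
    show resR _ (resR _ (c y)) = resR _ (c x) * H23.CocycleMod.tr t x y (U x ⊓ U y) inf_le_left inf_le_right
    rw [resR_resR, mul_comm]
    exact (ha' x y _ inf_le_left inf_le_right).symm
  have hsv : ZeroSchX.sv (ofSect s) (U x) = c x • H23.CocycleMod.frame t x := by
    rw [← hs]
    exact sv_ofSect s _
  rw [ZeroSchX.ideal_zeroScheme hL, ZeroSchX.zeroIdealOn_eq_span _ (H23.CocycleMod.isFrame_frame t x) hsv]
  exact (hIV x).symm

section Section

variable {L L' : P.Modules}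

theorem ideal_zero (hL : PicF.IsInvertible L) (s : Γ(L, ⊤)) (V : P.affineOpens) {e : Γ(L, V.1)} (he : IsFrame e)
    {c : Γ(P, V.1)} (hc : res L (le_top : V.1 ≤ ⊤) s = c • e) :
    (PicF2.zeroScheme L (ofSect s)).ideal V = Ideal.span {c} :=
  (ZeroSchX.ideal_zeroScheme hL _ V).trans (ZeroSchX.zeroIdealOn_eq_span _ he ((sv_ofSect s _).trans hc))

/-- isomorphisms keep the zero scheme -/
theorem zeroScheme_map_iso (hL : PicF.IsInvertible L) (hL' : PicF.IsInvertible L') (φ : L ≅ L') (s : Γ(L, ⊤)) :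
    PicF2.zeroScheme L' (ofSect (φ.hom.app ⊤ s)) = PicF2.zeroScheme L (ofSect s) := by
  have hx : ∀ x : P, ∃ (V : P.affineOpens), x ∈ V.1 ∧ ∃ e : Γ(L, V.1), IsFrame e := fun x => by
    obtain ⟨W, hxW, e, he⟩ := exists_frame hL x
    obtain ⟨_, ⟨V, hV, rfl⟩, hxV, hVW⟩ := P.isBasis_affineOpens.exists_subset_of_mem_open hxW W.isOpen
    exact ⟨⟨V, hV⟩, hxV, _, he.res hVW⟩
  choose V hxV e he using hx
  refine Scheme.IdealSheafData.ext_of_iSup_eq_top V (eq_top_iff.2 fun p _ => Opens.mem_iSup.2 ⟨p, hxV p⟩) fun x => ?_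
  obtain ⟨c, hc⟩ := (he x).exists_coord le_rfl (res L (le_top : (V x).1 ≤ ⊤) s)
  rw [res_self] at hc
  rw [ideal_zero hL s (V x) (he x) hc, ideal_zero hL' _ (V x) ((he x).map_iso φ) (c := c)]
  rw [← app_res, hc, Scheme.Modules.Hom.app_smul]

/-- units keep the zero scheme -/
theorem zeroScheme_smul (hL : PicF.IsInvertible L) {a : Γ(P, ⊤)} (ha : IsUnit a) (s : Γ(L, ⊤)) :
    PicF2.zeroScheme L (ofSect (a • s)) = PicF2.zeroScheme L (ofSect s) := by
  have hx : ∀ x : P, ∃ (V : P.affineOpens), x ∈ V.1 ∧ ∃ e : Γ(L, V.1), IsFrame e := fun x => by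
    obtain ⟨W, hxW, e, he⟩ := exists_frame hL x
    obtain ⟨_, ⟨V, hV, rfl⟩, hxV, hVW⟩ := P.isBasis_affineOpens.exists_subset_of_mem_open hxW W.isOpen
    exact ⟨⟨V, hV⟩, hxV, _, he.res hVW⟩
  choose V hxV e he using hx
  refine Scheme.IdealSheafData.ext_of_iSup_eq_top V (eq_top_iff.2 fun p _ => Opens.mem_iSup.2 ⟨p, hxV p⟩) fun x => ?_
  obtain ⟨c, hc⟩ := (he x).exists_coord le_rfl (res L (le_top : (V x).1 ≤ ⊤) s)
  rw [res_self] at hc
  rw [ideal_zero hL s (V x) (he x) hc,
    ideal_zero hL _ (V x) ((he x).isUnit_smul (ha.map (resR (le_top : (V x).1 ≤ ⊤)))) (c := c)]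
  rw [res_smul, hc, smul_comm]

/-- invertible modules with sections having the same divisor are isomorphic -/
theorem nonempty_iso_of_zeroScheme_eq (hL : PicF.IsInvertible L) (hL' : PicF.IsInvertible L') (s : Γ(L, ⊤))
    (s' : Γ(L', ⊤)) (hI : BlowUp.IsEffCartierIdeal (PicF2.zeroScheme L (ofSect s)))
    (heq : PicF2.zeroScheme L' (ofSect s') = PicF2.zeroScheme L (ofSect s)) : Nonempty (L ≅ L') := by
  have hx : ∀ x : P, ∃ (V : P.affineOpens), x ∈ V.1 ∧ ∃ (e : Γ(L, V.1)) (e' : Γ(L', V.1)) (c : Γ(P, V.1)),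
      IsFrame e ∧ IsFrame e' ∧ c ∈ nonZeroDivisors Γ(P, V.1) ∧
        res L (le_top : V.1 ≤ ⊤) s = c • e ∧ res L' (le_top : V.1 ≤ ⊤) s' = c • e' := fun x => by
    obtain ⟨V₀, hxV₀, c, hc, hIc⟩ := hI x
    obtain ⟨W, hxW, e, he⟩ := exists_frame hL x
    obtain ⟨W', hxW', e', he'⟩ := exists_frame hL' x
    obtain ⟨r, hr, hxr⟩ := V₀.2.exists_basicOpen_le (V := V₀.1 ⊓ (W ⊓ W')) ⟨x, hxV₀, hxW, hxW'⟩ hxV₀
    let V := P.affineBasicOpen r
    have h0 : V.1 ≤ V₀.1 := P.basicOpen_le r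
    have hIV := ideal_res _ (W := V) h0 hIc
    have hfr := he.res (W := V.1) (hr.trans (inf_le_right.trans inf_le_left))
    have hfr' := he'.res (W := V.1) (hr.trans (inf_le_right.trans inf_le_right))
    have hcV : resR h0 c ∈ nonZeroDivisors Γ(P, V.1) :=
      mem_nonZeroDivisors_iff_right.2 fun z hz => regular_res V₀ hc h0 (hz.trans (zero_mul _).symm)
    have key : ∀ {M : P.Modules}, PicF.IsInvertible M → ∀ (m : Γ(M, ⊤)) (ε : Γ(M, V.1)), IsFrame ε →
        (PicF2.zeroScheme M (ofSect m)).ideal V = Ideal.span {resR h0 c} →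
        ∃ ε' : Γ(M, V.1), IsFrame ε' ∧ res M (le_top : V.1 ≤ ⊤) m = resR h0 c • ε' := by
      intro M hM m ε hε hm
      obtain ⟨b, hb⟩ := hε.exists_coord le_rfl (res M (le_top : V.1 ≤ ⊤) m)
      rw [res_self] at hb
      rw [ideal_zero hM m V hε hb] at hm
      obtain ⟨v, hv⟩ := Ideal.mem_span_singleton'.1 (hm ▸ Ideal.mem_span_singleton_self b)
      obtain ⟨w, hw⟩ := Ideal.mem_span_singleton'.1 (hm.symm ▸ Ideal.mem_span_singleton_self (resR h0 c))
      have hvu : v * w = 1 := mem_nonZeroDivisors_iff_right.1 hcV _ |> fun k => sub_eq_zero.1 (k (by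
        rw [sub_mul, one_mul, mul_comm v, mul_assoc, hv, hw, sub_self]))
      refine ⟨v • ε, hε.isUnit_smul (IsUnit.of_mul_eq_one w hvu), ?_⟩
      rw [hb, smul_smul, ← hv, mul_comm]
    obtain ⟨ε, hε, hs⟩ := key hL s _ hfr hIV
    obtain ⟨ε', hε', hs'⟩ := key hL' s' _ hfr' (heq ▸ hIV)
    exact ⟨V, hxr, ε, ε', _, hε, hε', hcV, hs, hs'⟩
  choose V hxV e e' c he he' hc hs hs' using hx
  have hcov : ∀ x : P, ∃ a, x ∈ (V a).1 := fun x => ⟨x, hxV x⟩
  have key : ∀ {M N : P.Modules} (m : Γ(M, ⊤)) (n : Γ(N, ⊤)) (ε : ∀ a, Γ(M, (V a).1)) (δ : ∀ a, Γ(N, (V a).1)),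
      (∀ a, IsFrame (ε a)) → (∀ a, IsFrame (δ a)) → (∀ a, res M (le_top : (V a).1 ≤ ⊤) m = c a • ε a) →
      (∀ a, res N (le_top : (V a).1 ≤ ⊤) n = c a • δ a) → ∀ (a b : P) (W : P.Opens) (ha : W ≤ (V a).1)
        (hb : W ≤ (V b).1) (g : Γ(P, W)), res M ha (ε a) = g • res M hb (ε b) →
          res N ha (δ a) = g • res N hb (δ b) := by
    intro M N m n ε δ hε hδ hm hn a b W ha hb g h
    obtain ⟨t, ht⟩ := (hδ b).exists_coord hb (res N ha (δ a))
    have h1 := (congrArg (res M ha) (hm a)).symm.trans ((res_res _ _ _).trans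
      ((res_res _ hb m).symm.trans (congrArg (res M hb) (hm b))))
    rw [res_smul, res_smul, h, smul_smul] at h1
    have h2 := (congrArg (res N ha) (hn a)).symm.trans ((res_res _ _ _).trans
      ((res_res _ hb n).symm.trans (congrArg (res N hb) (hn b))))
    rw [res_smul, res_smul, ht, smul_smul] at h2
    have h3 := ((hδ b).coord_unique hb h2).trans ((hε b).coord_unique hb h1).symm
    rw [ht, regular_res (V a) (hc a) ha (a := t) (b := g) (by rw [mul_comm t, mul_comm g, h3])]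
  let φ : L ⟶ L' := ofFrames (U := fun a => (V a).1) (e := e) (n := e') hcov he fun a b W ha hb g h => key s s' e e' he he' hs hs' b a W hb ha g h
  let ψ : L' ⟶ L := ofFrames (U := fun a => (V a).1) (e := e') (n := e) hcov he' fun a b W ha hb g h => key s' s e' e he' he hs' hs b a W hb ha g h
  refine ⟨⟨φ, ψ, hom_ext_of_frames _ hcov e he fun a => ?_, hom_ext_of_frames _ hcov e' he' fun a => ?_⟩⟩
  · show ψ.app (V a).1 (φ.app (V a).1 (e a)) = e a
    rw [show φ.app (V a).1 (e a) = e' a from ofFrames_app _ _ _ a]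
    exact ofFrames_app _ _ _ a
  · show φ.app (V a).1 (ψ.app (V a).1 (e' a)) = e' a
    rw [show ψ.app (V a).1 (e' a) = e a from ofFrames_app _ _ _ a]
    exact ofFrames_app _ _ _ a

/-- zero schemes commute with pullback -/
theorem comap_zeroScheme {Q : Scheme.{u}} (g : Q ⟶ P) (hL : PicF.IsInvertible L)
    (hL' : PicF.IsInvertible ((Scheme.Modules.pullback g).obj L)) (s : Γ(L, ⊤)) :
    (PicF2.zeroScheme L (ofSect s)).comap g =
      PicF2.zeroScheme ((Scheme.Modules.pullback g).obj L) (ofSect (X := Q) (pullElt g (U := ⊤) s)) := by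
  have hx : ∀ q : Q, ∃ (U : P.affineOpens) (V : Q.affineOpens), q ∈ V.1 ∧ V.1 ≤ g ⁻¹ᵁ U.1 ∧
      ∃ e : Γ(L, U.1), IsFrame e := fun q => by
    obtain ⟨W, hxW, e, he⟩ := exists_frame hL (g q)
    obtain ⟨_, ⟨U, hU, rfl⟩, hxU, hUW⟩ := P.isBasis_affineOpens.exists_subset_of_mem_open hxW W.isOpen
    obtain ⟨V, hV, hqV, hle⟩ := exists_isAffineOpen_mem_and_subset (show q ∈ g ⁻¹ᵁ U from hxU)
    exact ⟨⟨U, hU⟩, ⟨V, hV⟩, hqV, hle, _, he.res hUW⟩
  choose U V hqV hle e he using hx
  refine Scheme.IdealSheafData.ext_of_iSup_eq_top V (eq_top_iff.2 fun p _ => Opens.mem_iSup.2 ⟨p, hqV p⟩) fun q => ?_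
  obtain ⟨c, hc⟩ := (he q).exists_coord le_rfl (res L (le_top : (U q).1 ≤ ⊤) s)
  rw [res_self] at hc
  rw [HTopCov.ideal_comap_appLE g _ (U q) (V q) (hle q), ideal_zero hL s (U q) (he q) hc, Ideal.map_span,
    Set.image_singleton, ideal_zero hL' _ (V q) ((isFrame_pullElt g (he q)).res (hle q))
      (c := g.appLE (U q).1 (V q).1 (hle q) c)]
  show res _ (show (V q).1 ≤ g ⁻¹ᵁ ⊤ from le_top) (pullElt g (U := ⊤) s) = _
  rw [← res_res (g.preimage_mono (le_top : (U q).1 ≤ ⊤)) (hle q),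
    res_pullElt g (le_top : (U q).1 ≤ ⊤), hc, pullElt_smul, res_smul]
  rfl

end Section

end Groth.Agent.PicCurve

end
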