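import Groth.Agent.RelCurveDiv.Regular
import Groth.Agent.RelCurveDiv.Scheme
import Groth.Agent.ZeroSchX.Basic
import Groth.Agent.InvX.GenLocusPull
import Groth.Agent.InvX.Tensor
import Groth.Agent.H23.TrivBasic
import Groth.Agent.AlgSpLib.FlatFibNoeth
import Groth.Agent.CurveCohLib.Hopf
import Groth.Agent.PicClLib.Basic
import Groth.Agent.PicCurve.DivClass
import Groth.Agent.QCoh.RpushExchange2
import Groth.Prelude.Def_Mor2

/-!
# Zero schemes of sections which are nonzero on all fibres are relative divisors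
-/

noncomputable section

set_option autoImplicit false
set_option linter.style.haveILetI false
set_option linter.unusedSectionVars false
set_option backward.isDefEq.respectTransparency false
set_option backward.isDefEq.respectTransparency.types false
set_option maxHeartbeats 1000000
set_option synthInstance.maxHeartbeats 400000
attribute [-instance] CategoryTheory.catToReflQuiver

universe u

open CategoryTheory CategoryTheory.Limits AlgebraicGeometry TopologicalSpace Opposite TensorProduct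
open Groth.Agent.InvX

namespace Groth.Agent.PicCurve

section Algebra

variable {A B : Type u} [CommRing A] [CommRing B] [Algebra A B]
  [Algebra.IsStandardSmoothOfRelativeDimension 1 A B]

theorem regular_of_fib (g : B) (hg : ∀ (q : Ideal B) [q.IsPrime], algebraMap B (EGA4.FibLocRing A B q) g ≠ 0) :
    g ∈ nonZeroDivisors B := by
  rw [mem_nonZeroDivisors_iff_right]
  intro x hx
  by_contra hx0
  have hne : (Ideal.span {(0 : B)} : Ideal B).colon {x} ≠ ⊤ := by
    intro h
    have h1 := (Ideal.eq_top_iff_one _).1 h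
    rw [Submodule.mem_colon_singleton] at h1
    exact hx0 (by simpa using h1)
  obtain ⟨q, hq, hle⟩ := Ideal.exists_le_maximal _ hne
  haveI := hq.isPrime
  have hreg := RelCurveDiv.isSMulRegular_of_fib_ne_zero (A := A) q g (hg q)
  have h1 : g • algebraMap B (Localization.AtPrime q) x = g • (0 : Localization.AtPrime q) := by
    rw [smul_zero, Algebra.smul_def, ← map_mul, mul_comm, hx, map_zero]
  obtain ⟨s, hs⟩ := (IsLocalization.map_eq_zero_iff q.primeCompl _ _).1 (hreg h1)
  exact s.2 (hle (by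
    rw [Submodule.mem_colon_singleton, smul_eq_mul, hs]
    exact Submodule.zero_mem _))

/-- a principal ideal which is nonzero on all fibre local rings has flat quotient -/
theorem flat_quotient_of_fib (g : B) (hg : ∀ (q : Ideal B) [q.IsPrime], algebraMap B (EGA4.FibLocRing A B q) g ≠ 0) :
    Module.Flat A (B ⧸ Ideal.span {g}) := by
  haveI : Algebra.IsStandardSmooth A B := Algebra.IsStandardSmoothOfRelativeDimension.isStandardSmooth 1
  haveI : Module.Flat A B := inferInstance
  -- multiplication by g is injective modulo every ideal of the base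
  have key : ∀ (I : Ideal A) (c : B), g * c ∈ I.map (algebraMap A B) → c ∈ I.map (algebraMap A B) := by
    intro I c hc
    let J := I.map (algebraMap A B)
    let e : (A ⧸ I) ⊗[A] B ≃ₐ[A ⧸ I] B ⧸ J :=
      (Algebra.TensorProduct.quotIdealMapEquivQuotTensor B I).symm
    haveI : Algebra.IsStandardSmoothOfRelativeDimension 1 (A ⧸ I) (B ⧸ J) :=
      Algebra.IsStandardSmoothOfRelativeDimension.of_algEquiv (n := 1) e
    have hnz := regular_of_fib (A := A ⧸ I) (Ideal.Quotient.mk J g) fun q _ h0 => ?_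
    · rw [← Ideal.Quotient.eq_zero_iff_mem]
      refine (mem_nonZeroDivisors_iff_right.1 hnz) _ ?_
      rw [← map_mul, Ideal.Quotient.eq_zero_iff_mem, mul_comm]
      exact hc
    · let q₀ : Ideal B := q.comap (Ideal.Quotient.mk J)
      apply hg q₀
      -- transport along the quotient map
      obtain ⟨⟨t, ht⟩, hts⟩ : ∃ t : q.primeCompl, (t : B ⧸ J) * Ideal.Quotient.mk J g ∈
          (q.comap (algebraMap (A ⧸ I) (B ⧸ J))).map (algebraMap (A ⧸ I) (B ⧸ J)) := by
        change Ideal.Quotient.mk _ (algebraMap (B ⧸ J) (Localization.AtPrime q) (Ideal.Quotient.mk J g)) = 0 at h0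
        rw [Ideal.Quotient.eq_zero_iff_mem, IsScalarTower.algebraMap_eq (A ⧸ I) (B ⧸ J), ← Ideal.map_map,
          IsLocalization.algebraMap_mem_map_algebraMap_iff q.primeCompl] at h0
        obtain ⟨m, hm, hmem⟩ := h0
        exact ⟨⟨m, hm⟩, hmem⟩
      obtain ⟨t, rfl⟩ := Ideal.Quotient.mk_surjective t
      have hmap : (q.comap (algebraMap (A ⧸ I) (B ⧸ J))).map (algebraMap (A ⧸ I) (B ⧸ J)) =
          ((q₀.comap (algebraMap A B)).map (algebraMap A B)).map (Ideal.Quotient.mk J) := by
        rw [Ideal.map_map, show (Ideal.Quotient.mk J).comp (algebraMap A B) =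
          (algebraMap (A ⧸ I) (B ⧸ J)).comp (Ideal.Quotient.mk I) from rfl, ← Ideal.map_map]
        congr 1
        rw [show q₀.comap (algebraMap A B) = (q.comap (algebraMap (A ⧸ I) (B ⧸ J))).comap (Ideal.Quotient.mk I)
          from rfl, Ideal.map_comap_of_surjective _ Ideal.Quotient.mk_surjective]
      rw [hmap, ← map_mul, Ideal.mem_map_iff_of_surjective _ Ideal.Quotient.mk_surjective] at hts
      obtain ⟨w, hw, hwt⟩ := hts
      have hJle : J ≤ (q₀.comap (algebraMap A B)).map (algebraMap A B) :=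
        Ideal.map_mono fun a ha => by
          show Ideal.Quotient.mk J (algebraMap A B a) ∈ q
          rw [Ideal.Quotient.eq_zero_iff_mem.2 (Ideal.mem_map_of_mem _ ha)]
          exact q.zero_mem
      have htg : t * g ∈ (q₀.comap (algebraMap A B)).map (algebraMap A B) := by
        have := Ideal.sub_mem _ hw (hJle (Ideal.Quotient.eq.1 hwt))
        rwa [sub_sub_cancel] at this
      show Ideal.Quotient.mk _ (algebraMap B (Localization.AtPrime q₀) g) = 0
      rw [Ideal.Quotient.eq_zero_iff_mem, IsScalarTower.algebraMap_eq A B, ← Ideal.map_map,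
        IsLocalization.algebraMap_mem_map_algebraMap_iff q₀.primeCompl]
      exact ⟨t, ht, htg⟩
  rw [Module.Flat.iff_rTensor_injective']
  intro I
  rw [injective_iff_map_eq_zero]
  intro x hx
  let π : B →ₗ[A] B ⧸ Ideal.span {g} := (Ideal.Quotient.mkₐ A (Ideal.span {g})).toLinearMap
  obtain ⟨y, rfl⟩ := LinearMap.lTensor_surjective I (g := π) Ideal.Quotient.mk_surjective x
  let ι : I ⊗[A] B →ₗ[A] B := (TensorProduct.lid A B).toLinearMap ∘ₗ (Submodule.subtype I).rTensor B
  have hι : Function.Injective ι :=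
    (TensorProduct.lid A B).injective.comp (Module.Flat.rTensor_preserves_injective_linearMap _ (Submodule.injective_subtype I))
  have hcomm : ∀ z : I ⊗[A] B, π (ι z) = TensorProduct.lid A _ ((Submodule.subtype I).rTensor _ (π.lTensor I z)) := by
    intro z
    induction z using TensorProduct.induction_on with
    | zero => simp
    | tmul a b => simp [ι, π]
    | add a b ha hb => simp [ha, hb]
  have h1 : π (ι y) = 0 := by rw [hcomm, hx, map_zero]
  obtain ⟨c, hc⟩ := Ideal.mem_span_singleton'.1 (Ideal.Quotient.eq_zero_iff_mem.1 h1)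
  have hrange : ∀ b : B, b ∈ I.map (algebraMap A B) → ∃ z, ι z = b := by
    intro b hb
    induction hb using Submodule.span_induction with
    | mem w hw =>
      obtain ⟨a, ha, rfl⟩ := hw
      exact ⟨⟨a, ha⟩ ⊗ₜ 1, by simp [ι, Algebra.algebraMap_eq_smul_one]⟩
    | zero => exact ⟨0, map_zero _⟩
    | add a b _ _ ha hb =>
      obtain ⟨za, rfl⟩ := ha
      obtain ⟨zb, rfl⟩ := hb
      exact ⟨za + zb, map_add _ _ _⟩
    | smul r a hm ha =>
      obtain ⟨za, rfl⟩ := ha
      refine ⟨(LinearMap.mulLeft A r).lTensor I za, ?_⟩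
      clear hm
      induction za using TensorProduct.induction_on with
      | zero => simp
      | tmul a b => simp [ι]
      | add a b ha hb => simp [ha, hb, mul_add]
  have hιmem : ∀ z, ι z ∈ I.map (algebraMap A B) := by
    intro z
    induction z using TensorProduct.induction_on with
    | zero => simp
    | tmul a b => simpa [ι, Algebra.smul_def] using Ideal.mul_mem_right b _ (Ideal.mem_map_of_mem (algebraMap A B) a.2)
    | add a b ha hb => rw [map_add]; exact add_mem ha hb
  obtain ⟨z, hz⟩ := hrange c (key I c (by rw [mul_comm, hc]; exact hιmem y))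
  have hy : y = (LinearMap.mulLeft A g).lTensor I z := by
    apply hι
    rw [← hc, mul_comm, ← hz]
    clear hz hc h1
    induction z using TensorProduct.induction_on with
    | zero => simp
    | tmul a b => simp [ι]
    | add a b ha hb => simp [← ha, ← hb, mul_add]
  rw [hy, ← LinearMap.comp_apply, ← LinearMap.lTensor_comp,
    show π ∘ₗ LinearMap.mulLeft A g = 0 from LinearMap.ext fun b =>
      Ideal.Quotient.eq_zero_iff_mem.2 (Ideal.mem_span_singleton'.2 ⟨b, mul_comm b g⟩),
    LinearMap.lTensor_zero, LinearMap.zero_apply]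

end Algebra

section Geometry

variable {P T : Scheme.{u}} (π : P ⟶ T)

/-- the extension of the maximal ideal of the base to a local ring upstairs -/
def mIdeal (x : P) : Ideal (P.presheaf.stalk x) :=
  (IsLocalRing.maximalIdeal (T.presheaf.stalk (π x))).map (π.stalkMap x).hom

/-- a section is nonzero on every fibre near each of its points -/
def FibNZ (L : P.Modules) (s : Γ(L, ⊤)) : Prop :=
  ∀ (x : P) (U : P.Opens) (hx : x ∈ U) (e : Γ(L, U)), IsFrame e → ∀ c : Γ(P, U),
    AModX.res L (le_top : U ≤ ⊤) s = c • e → P.presheaf.germ U x hx c ∉ mIdeal π x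

theorem map_maximalIdeal_eq_bot {F F' : Scheme.{u}} (m : F ⟶ T) (h : F ⟶ F') (k : F' ⟶ T) (w : m = h ≫ k) (z : F)
    (hk : IsLocalRing.maximalIdeal (F'.presheaf.stalk (h z)) = ⊥) :
    (IsLocalRing.maximalIdeal (T.presheaf.stalk (m z))).map (m.stalkMap z).hom = ⊥ := by
  subst w
  rw [Scheme.Hom.stalkMap_comp, CommRingCat.hom_comp, ← Ideal.map_map]
  refine le_bot_iff.1 ((Ideal.map_mono ?_).trans Ideal.map_bot.le)
  have hl : IsLocalHom (k.stalkMap (h z)).hom := inferInstance
  exact hk ▸ ((IsLocalRing.local_hom_TFAE (k.stalkMap (h z)).hom).out 0 2).1 hl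

/-- sections nonzero on integral fibres are nonzero on every fibre near each of their points -/
theorem germ_not_mem_mIdeal {L : P.Modules} (hL : PicF.IsInvertible L) (s : Γ(L, ⊤)) (t : T) [IsIntegral (π.fiber t)]
    (h : pullElt (π.fiberι t) s ≠ 0) (z : π.fiber t) (U : P.Opens) (hx : π.fiberι t z ∈ U) (e : Γ(L, U))
    (he : IsFrame e) (c : Γ(P, U)) (hc : AModX.res L (le_top : U ≤ ⊤) s = c • e) :
    P.presheaf.germ U (π.fiberι t z) hx c ∉ mIdeal π (π.fiberι t z) := by
  intro hmem
  set k := π.fiberι t with hk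
  have hm := map_maximalIdeal_eq_bot (k ≫ π) (π.fiberToSpecResidueField t) (T.fromSpecResidueField t)
    (π.fiber_fac t) z (AlgSpLib.maximalIdeal_stalk_spec_field _ _)
  rw [Scheme.Hom.stalkMap_comp, CommRingCat.hom_comp, ← Ideal.map_map] at hm
  have hg : (π.fiber t).presheaf.germ (k ⁻¹ᵁ U) z hx (k.app U c) = 0 := by
    rw [← Scheme.Hom.germ_stalkMap_apply]
    have h2 := Ideal.mem_map_of_mem (k.stalkMap z).hom hmem
    exact Ideal.mem_bot.1 (hm ▸ h2)
  haveI : Nonempty ↥(k ⁻¹ᵁ U) := ⟨⟨z, hx⟩⟩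
  have h0 : k.app U c = 0 :=
    (map_eq_zero_iff ((π.fiber t).presheaf.germ (k ⁻¹ᵁ U) z hx).hom
      (germ_injective_of_isIntegral (X := π.fiber t) z hx)).1 hg
  apply h
  have hres : AModX.res _ (k.preimage_mono (le_top : U ≤ ⊤)) (pullElt k s) = 0 := by
    rw [res_pullElt k (le_top : U ≤ ⊤), hc, pullElt_smul, h0, zero_smul]
  refine CurveCohLib.Hopf.eq_zero_of_germ_eq_zero (PicClLib.isInvertible_pullback k hL) (pullElt k s) (x := z) ?_
  show _ = _
  exact (InvX.germ_res' (k.preimage_mono (le_top : U ≤ ⊤)) (show z ∈ k ⁻¹ᵁ U from hx) (pullElt k s)).symm.trans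
    ((congrArg _ hres).trans (map_zero _))

/-- sections nonzero on integral fibres are nonzero on every fibre near each of their points -/
theorem fibNZ_of_fibres {L : P.Modules} (hL : PicF.IsInvertible L) (s : Γ(L, ⊤))
    (hint : ∀ t, IsIntegral (π.fiber t)) (h : ∀ t, pullElt (π.fiberι t) s ≠ 0) : FibNZ π L s := by
  intro x U hx e he c hc
  obtain ⟨z, hz⟩ : x ∈ Set.range (π.fiberι (π x)) := by
    rw [π.range_fiberι]; rfl
  haveI := hint (π x)
  have key := germ_not_mem_mIdeal π hL s (π x) (h (π x)) z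
  revert key
  generalize π.fiberι (π x) z = x' at hz ⊢
  subst hz
  exact fun key => key U hx e he c hc

/-- the chart form of being nonzero on fibres -/
theorem fib_ne_zero {W : T.affineOpens} {V : P.affineOpens} (e : V.1 ≤ π ⁻¹ᵁ W.1) (c : Γ(P, V.1))
    (hc : ∀ (x : P) (hx : x ∈ V.1), P.presheaf.germ V.1 x hx c ∉ mIdeal π x) :
    letI : Algebra Γ(T, W.1) Γ(P, V.1) := (π.appLE W.1 V.1 e).hom.toAlgebra
    ∀ (q : Ideal Γ(P, V.1)) [q.IsPrime], algebraMap Γ(P, V.1) (EGA4.FibLocRing Γ(T, W.1) Γ(P, V.1) q) c ≠ 0 := by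
  letI : Algebra Γ(T, W.1) Γ(P, V.1) := (π.appLE W.1 V.1 e).hom.toAlgebra
  intro q hq h0
  obtain ⟨x, hx, hxq'⟩ := QCoh.exists_point_fromSpec V.2 ⟨q, hq⟩
  have hxq : (V.2.primeIdealOf ⟨x, hx⟩).asIdeal = q := congrArg PrimeSpectrum.asIdeal hxq'
  apply hc x hx
  change Ideal.Quotient.mk _ (algebraMap Γ(P, V.1) (Localization.AtPrime q) c) = 0 at h0
  rw [Ideal.Quotient.eq_zero_iff_mem, IsScalarTower.algebraMap_eq Γ(T, W.1) Γ(P, V.1), ← Ideal.map_map,
    IsLocalization.algebraMap_mem_map_algebraMap_iff q.primeCompl] at h0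
  obtain ⟨m, hm, hmem⟩ := h0
  letI : Algebra Γ(P, V.1) (P.presheaf.stalk x) := TopCat.Presheaf.algebra_section_stalk P.presheaf (⟨x, hx⟩ : V.1)
  have hu : IsUnit (P.presheaf.germ V.1 x hx m) := by
    haveI := V.2.isLocalization_stalk ⟨x, hx⟩
    refine IsLocalization.map_units (M := (V.2.primeIdealOf ⟨x, hx⟩).asIdeal.primeCompl) (P.presheaf.stalk x) ⟨m, ?_⟩
    exact fun hh => hm (hxq ▸ hh)
  have h1 := Ideal.mem_map_of_mem (P.presheaf.germ V.1 x hx).hom hmem
  rw [map_mul, Ideal.map_map] at h1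
  refine (Ideal.unit_mul_mem_iff_mem _ hu).1 (Ideal.map_le_iff_le_comap.2 (fun a ha => ?_) h1)
  rw [Ideal.mem_comap, RingHom.comp_apply]
  show P.presheaf.germ V.1 x hx (π.appLE W.1 V.1 e a) ∈ mIdeal π x
  have hxW : π x ∈ W.1 := e hx
  rw [show P.presheaf.germ V.1 x hx (π.appLE W.1 V.1 e a) = π.stalkMap x (T.presheaf.germ W.1 (π x) hxW a) by
    rw [Scheme.Hom.germ_stalkMap_apply, Scheme.Hom.appLE, CommRingCat.comp_apply,
      TopCat.Presheaf.germ_res_apply]]
  refine Ideal.mem_map_of_mem _ ?_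
  rw [IsLocalRing.mem_maximalIdeal]
  intro hau
  haveI := V.2.isLocalization_stalk ⟨x, hx⟩
  have hu' : IsUnit (P.presheaf.germ V.1 x hx (π.appLE W.1 V.1 e a)) := by
    rw [show P.presheaf.germ V.1 x hx (π.appLE W.1 V.1 e a) = π.stalkMap x (T.presheaf.germ W.1 (π x) hxW a) by
      rw [Scheme.Hom.germ_stalkMap_apply, Scheme.Hom.appLE, CommRingCat.comp_apply,
        TopCat.Presheaf.germ_res_apply]]
    exact hau.map _
  have ha' : π.appLE W.1 V.1 e a ∈ (V.2.primeIdealOf ⟨x, hx⟩).asIdeal := by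
    rw [hxq]
    exact ha
  exact ((IsLocalization.AtPrime.isUnit_to_map_iff (P.presheaf.stalk x) _ _).1 hu') ha'

variable [SmoothOfRelativeDimension 1 π]

theorem exists_chart (x : P) {L : P.Modules} (hL : PicF.IsInvertible L) :
    ∃ (W : T.affineOpens) (V : P.affineOpens) (e : V.1 ≤ π ⁻¹ᵁ W.1) (ε : Γ(L, V.1)), x ∈ V.1 ∧ IsFrame ε ∧
      (π.appLE W.1 V.1 e).hom.IsStandardSmoothOfRelativeDimension 1 := by
  obtain ⟨W, V, e, hxV, hsm⟩ := RelCurveDiv.exists_smooth_chart π x
  obtain ⟨U, hxU, ε, hε⟩ := InvX.exists_frame hL x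
  obtain ⟨r, hr, hxr⟩ := V.2.exists_basicOpen_le (V := V.1 ⊓ U) ⟨x, hxV, hxU⟩ hxV
  exact ⟨W, P.affineBasicOpen r, (P.basicOpen_le r).trans e, _, hxr, hε.res (hr.trans inf_le_right),
    RelCurveDiv.standardSmooth_basicOpen π W V e hsm r⟩

/-- the zero scheme of a section nonzero on all fibres is an effective Cartier divisor, flat over the base -/
theorem isEffCartier_zeroScheme {L : P.Modules} (hL : PicF.IsInvertible L) (s : Γ(L, ⊤)) (hs : FibNZ π L s) :
    BlowUp.IsEffCartierIdeal (PicF2.zeroScheme L (ofSect s)) ∧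
      Flat ((PicF2.zeroScheme L (ofSect s)).subschemeι ≫ π) := by
  have key : ∀ x : P, ∃ (W : T.affineOpens) (V : P.affineOpens) (e : V.1 ≤ π ⁻¹ᵁ W.1), x ∈ V.1 ∧
      FlatX.LocGen (PicF2.zeroScheme L (ofSect s)) V ∧ (FlatX.quotApp π (PicF2.zeroScheme L (ofSect s)) W V e).Flat := by
    intro x
    obtain ⟨W, V, e, ε, hxV, hε, hsm⟩ := exists_chart π x hL
    obtain ⟨c, hc⟩ := hε.exists_coord le_rfl (AModX.res L (le_top : V.1 ≤ ⊤) s)
    rw [AModX.res_self] at hc
    have hsv : ZeroSchX.sv (ofSect s) V.1 = c • ε := by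
      rw [← hc]
      exact sv_ofSect s _
    have hI : (PicF2.zeroScheme L (ofSect s)).ideal V = Ideal.span {c} :=
      (ZeroSchX.ideal_zeroScheme hL _ V).trans (ZeroSchX.zeroIdealOn_eq_span _ hε hsv)
    letI : Algebra Γ(T, W.1) Γ(P, V.1) := (π.appLE W.1 V.1 e).hom.toAlgebra
    haveI : Algebra.IsStandardSmoothOfRelativeDimension 1 Γ(T, W.1) Γ(P, V.1) := hsm
    have hfib := fib_ne_zero π e c fun y hy => hs y V.1 hy ε hε c hc
    have hflat : Module.Flat Γ(T, W.1) (Γ(P, V.1) ⧸ Ideal.span {c}) := flat_quotient_of_fib c hfib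
    exact ⟨W, V, e, hxV, ⟨c, regular_of_fib (A := Γ(T, W.1)) c hfib, hI⟩,
      FlatX.flat_congr _ hI.symm (RingHom.flat_algebraMap_iff.2 hflat)⟩
  refine ⟨fun x => ?_, FlatX.flat_subscheme_of_charts π _ fun x => ?_⟩
  · obtain ⟨W, V, e, hxV, hgen, -⟩ := key x
    exact ⟨V, hxV, hgen⟩
  · obtain ⟨W, V, e, hxV, -, hflat⟩ := key x
    exact ⟨W, V, e, hxV, hflat⟩

/-- on a proper family of curves the zero scheme is finite locally free over the base -/
theorem isFinLocFree_zeroScheme [IsProper π] {L : P.Modules} (hL : PicF.IsInvertible L) (s : Γ(L, ⊤))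
    (hs : FibNZ π L s) : Mor2.IsFinLocFree ((PicF2.zeroScheme L (ofSect s)).subschemeι ≫ π) := by
  obtain ⟨hc, hflat⟩ := isEffCartier_zeroScheme π hL s hs
  haveI := hflat
  obtain ⟨hqf, hfp⟩ := RelCurveDiv.quasiFinite_and_fp_of_isEffCartier π _ hc
  haveI := hqf
  exact ⟨IsFinite.of_isProper_of_locallyQuasiFinite _, hflat, hfp⟩

end Geometry

end Groth.Agent.PicCurve

end
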