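import Groth.Agent.PicCurve.Good
import Groth.Agent.PicCurve.Div
import Groth.Agent.PicCurve.DivClass
import Groth.Agent.PicCurve.Rigify
import Groth.Agent.HilbDLib.Separated

/-!
# The divisor of a class which is good on all fibres
-/

noncomputable section

set_option autoImplicit false
set_option linter.style.haveILetI false
set_option linter.unusedSectionVars false
set_option backward.isDefEq.respectTransparency false
set_option backward.isDefEq.respectTransparency.types false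
set_option maxHeartbeats 1000000
set_option synthInstance.maxHeartbeats 400000
attribute [-instance] CategoryTheory.catToReflQuiver

universe u

open CategoryTheory CategoryTheory.Limits AlgebraicGeometry TopologicalSpace Opposite
open Groth.Agent.InvX Groth.Agent.AModX Groth.Agent.H23.PicMul

namespace Groth.Agent.PicCurve

variable {X S : Scheme.{u}} (f : X ⟶ S) [IsProper f] [Smooth f] [SmoothOfRelativeDimension 1 f]
  [GeometricallyIntegral f]

instance isProper_proj (T : Over S) : IsProper (PicF.XTproj f T) :=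
  MorphismProperty.pullback_snd _ _ inferInstance

instance flat_proj (T : Over S) : Flat (PicF.XTproj f T) :=
  MorphismProperty.pullback_snd _ _ inferInstance

instance lfp_proj (T : Over S) : LocallyOfFinitePresentation (PicF.XTproj f T) :=
  MorphismProperty.pullback_snd _ _ inferInstance

instance smooth1_proj (T : Over S) : SmoothOfRelativeDimension 1 (PicF.XTproj f T) :=
  haveI : MorphismProperty.IsStableUnderBaseChange (@SmoothOfRelativeDimension.{u} 1) :=
    smoothOfRelativeDimension_isStableUnderBaseChange 1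
  MorphismProperty.pullback_snd (P := @SmoothOfRelativeDimension 1) _ _ inferInstance

instance geomInt_proj (T : Over S) : GeometricallyIntegral (PicF.XTproj f T) :=
  inferInstanceAs (GeometricallyIntegral (pullback.snd f T.hom))

/-- a class is good at a point -/
def GoodCl {T : Over S} (a : PicF.Cl (PicF.XT f T)) (t : T.left) : Prop :=
  ∃ L, PicF.cl L = a ∧ PicF.IsInvertible L ∧ GoodAt (PicF.XTproj f T) L t

theorem goodCl_cl {T : Over S} {L : (PicF.XT f T).Modules} (hL : PicF.IsInvertible L) (t : T.left) :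
    GoodCl f (PicF.cl L) t ↔ GoodAt (PicF.XTproj f T) L t := by
  refine ⟨fun ⟨M, hM, _, h⟩ => ?_, fun h => ⟨L, rfl, hL, h⟩⟩
  obtain ⟨e⟩ := cl_eq_iff.1 hM
  exact (goodAt_congr _ e t).1 h

theorem goodCl_pull {T T' : Over S} (g : T' ⟶ T) {a : PicF.Cl (PicF.XT f T)} (ha : PicF.IsInvertibleCl a) (t : T'.left) :
    GoodCl f (PicF.pullCl (PicF.XTmap f g) a) t ↔ GoodCl f a (g.left t) := by
  obtain ⟨L, rfl, hL⟩ := ha
  rw [show PicF.pullCl (PicF.XTmap f g) (PicF.cl L) = PicF.cl ((Scheme.Modules.pullback (PicF.XTmap f g)).obj L) from rfl,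
    goodCl_cl f (PicClLib.isInvertible_pullback _ hL), goodCl_cl f hL]
  exact goodAt_bc (PicF.XTproj f T) (FppfPic.isPullback_XTmap f g) hL t

theorem isOpen_goodCl {T : Over S} {a : PicF.Cl (PicF.XT f T)} (ha : PicF.IsInvertibleCl a) :
    IsOpen {t : T.left | GoodCl f a t} := by
  obtain ⟨L, rfl, hL⟩ := ha
  simp only [goodCl_cl f hL]
  exact isOpen_goodAt (PicF.XTproj f T) hL

/-- `I` is the divisor of the class `a`, which is good on all fibres -/
def IsDiv {T : Over S} (a : PicF.Cl (PicF.XT f T)) (I : (PicF.XT f T).IdealSheafData) : Prop :=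
  ∃ (L : (PicF.XT f T).Modules) (s : Γ(L, ⊤)), PicF.cl L = a ∧ PicF.IsInvertible L ∧
    (∀ t, GoodAt (PicF.XTproj f T) L t) ∧ IsGen (PicF.XTproj f T) L ⊤ s ∧ PicF2.zeroScheme L (ofSect s) = I

variable {f}

theorem IsGen.map_iso {T : Over S} {L L' : (PicF.XT f T).Modules} (e : L ≅ L') {s : Γ(L, ⊤)}
    (hs : IsGen (PicF.XTproj f T) L ⊤ s) : IsGen (PicF.XTproj f T) L' ⊤ (e.hom.app ⊤ s) :=
  IsFrame.map_iso ((Scheme.Modules.pushforward (PicF.XTproj f T)).mapIso e) hs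

/-- two generating sections have the same divisor -/
theorem zeroScheme_gen_eq {T : Over S} {L : (PicF.XT f T).Modules} (hL : PicF.IsInvertible L) {s s' : Γ(L, ⊤)}
    (hs : IsGen (PicF.XTproj f T) L ⊤ s) (hs' : IsGen (PicF.XTproj f T) L ⊤ s') :
    PicF2.zeroScheme L (ofSect s') = PicF2.zeroScheme L (ofSect s) := by
  obtain ⟨a, ha⟩ := IsGen.exists_coord (PicF.XTproj f T) hs s'
  obtain ⟨b, hb⟩ := IsGen.exists_coord (PicF.XTproj f T) hs' s
  have h1 : b * a = 1 := (hs ⊤ le_rfl).1 (by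
    let s₁ : Γ(L, PicF.XTproj f T ⁻¹ᵁ ⊤) := s
    show (PicF.XTproj f T).app ⊤ (b * a) • res L (le_refl (PicF.XTproj f T ⁻¹ᵁ ⊤)) s₁ =
      (PicF.XTproj f T).app ⊤ 1 • res L (le_refl (PicF.XTproj f T ⁻¹ᵁ ⊤)) s₁
    rw [res_self, map_mul, mul_smul, map_one, one_smul]
    exact (congrArg _ ha).trans hb)
  rw [← ha]
  exact zeroScheme_smul hL (a := (PicF.XTproj f T).app ⊤ a) ((IsUnit.of_mul_eq_one b (by rw [mul_comm, h1])).map _) s

theorem IsGen.pullTop {T T' : Over S} (g : T' ⟶ T) {L : (PicF.XT f T).Modules} (hL : PicF.IsInvertible L)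
    (h : ∀ t, GoodAt (PicF.XTproj f T) L t) {s : Γ(L, ⊤)} (hs : IsGen (PicF.XTproj f T) L ⊤ s) :
    IsGen (PicF.XTproj f T') ((Scheme.Modules.pullback (PicF.XTmap f g)).obj L) ⊤
      (pullElt (PicF.XTmap f g) (U := ⊤) s) := by
  have h1 := IsGen.pull (PicF.XTproj f T) hL h (FppfPic.isPullback_XTmap f g) hs
  exact (res_self (M := (Scheme.Modules.pullback (PicF.XTmap f g)).obj L)
    (pullElt (PicF.XTmap f g) (U := ⊤) s)) ▸ h1

theorem fibNZ_gen {T : Over S} {L : (PicF.XT f T).Modules} (hL : PicF.IsInvertible L)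
    (h : ∀ t, GoodAt (PicF.XTproj f T) L t) {s : Γ(L, ⊤)} (hs : IsGen (PicF.XTproj f T) L ⊤ s) :
    FibNZ (PicF.XTproj f T) L s := by
  refine fibNZ_of_fibres _ hL s (fun t => inferInstance) fun t h0 => ?_
  have h1 := IsGen.pull (PicF.XTproj f T) hL h
    (IsPullback.of_hasPullback (PicF.XTproj f T) (T.left.fromSpecResidueField t)) hs
  have h2 := (h1 ⊤ le_rfl).1 (a₁ := 1) (a₂ := 0) ?_
  · exact one_ne_zero h2
  · show (1 : Γ(Spec (T.left.residueField t), ⊤)) • _ = (0 : Γ(Spec (T.left.residueField t), ⊤)) • _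
    rw [one_smul, zero_smul]
    refine (congrArg _ ((congrArg _ ?_).trans (map_zero _))).trans (map_zero _)
    exact h0

theorem IsDiv.unique {T : Over S} {a : PicF.Cl (PicF.XT f T)} {I I' : (PicF.XT f T).IdealSheafData}
    (h : IsDiv f a I) (h' : IsDiv f a I') : I = I' := by
  obtain ⟨L, s, hLa, hL, hg, hs, rfl⟩ := h
  obtain ⟨L', s', hLa', hL', -, hs', rfl⟩ := h'
  obtain ⟨e⟩ := cl_eq_iff.1 (hLa.trans hLa'.symm)
  rw [← zeroScheme_map_iso hL hL' e s]
  exact zeroScheme_gen_eq hL' hs' (hs.map_iso e)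

theorem IsDiv.pull {T T' : Over S} (g : T' ⟶ T) {a : PicF.Cl (PicF.XT f T)} {I : (PicF.XT f T).IdealSheafData}
    (h : IsDiv f a I) : IsDiv f (PicF.pullCl (PicF.XTmap f g) a) (HilbD.pull f g I) := by
  obtain ⟨L, s, rfl, hL, hg, hs, rfl⟩ := h
  have hL' := PicClLib.isInvertible_pullback (PicF.XTmap f g) hL
  refine ⟨_, pullElt (PicF.XTmap f g) (U := ⊤) s, rfl, hL', fun t => ?_, hs.pullTop g hL hg, ?_⟩
  · exact (goodAt_bc (PicF.XTproj f T) (FppfPic.isPullback_XTmap f g) hL t).2 (hg _)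
  · rw [HilbDLib.pull_eq_comap, comap_zeroScheme (PicF.XTmap f g) hL hL' s]

theorem IsDiv.effCartier {T : Over S} {a : PicF.Cl (PicF.XT f T)} {I : (PicF.XT f T).IdealSheafData}
    (h : IsDiv f a I) : BlowUp.IsEffCartierIdeal I ∧ Mor2.IsFinLocFree (I.subschemeι ≫ PicF.XTproj f T) := by
  obtain ⟨L, s, rfl, hL, hg, hs, rfl⟩ := h
  exact ⟨(isEffCartier_zeroScheme _ hL s (fibNZ_gen hL hg hs)).1, isFinLocFree_zeroScheme _ hL s (fibNZ_gen hL hg hs)⟩

theorem IsDiv.class_eq {T : Over S} {a b : PicF.Cl (PicF.XT f T)} {I : (PicF.XT f T).IdealSheafData}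
    (h : IsDiv f a I) (h' : IsDiv f b I) : a = b := by
  have hc := h.effCartier.1
  obtain ⟨L, s, rfl, hL, -, -, rfl⟩ := h
  obtain ⟨L', s', rfl, hL', -, -, he⟩ := h'
  exact cl_eq_iff.2 (nonempty_iso_of_zeroScheme_eq hL hL' s s' hc he)

theorem IsDiv.good {T : Over S} {a : PicF.Cl (PicF.XT f T)} {I : (PicF.XT f T).IdealSheafData}
    (h : IsDiv f a I) (t : T.left) : GoodCl f a t := by
  obtain ⟨L, s, rfl, hL, hg, -, -⟩ := h
  exact (goodCl_cl f hL t).2 (hg t)

/-- good classes have divisors near every point -/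
theorem exists_isDiv {T : Over S} {a : PicF.Cl (PicF.XT f T)} (ha : PicF.IsInvertibleCl a) {t : T.left}
    (h : GoodCl f a t) : ∃ (V : T.left.Opens), t ∈ V ∧ ∃ I, IsDiv f
      (PicF.pullCl (PicF.XTmap f (AbDual.ovrHom T V.ι)) a) I := by
  obtain ⟨L, rfl, hL⟩ := ha
  let U : T.left.Opens := ⟨_, isOpen_goodCl f ⟨L, rfl, hL⟩⟩
  let gU := AbDual.ovrHom T U.ι
  let L' := (Scheme.Modules.pullback (PicF.XTmap f gU)).obj L
  have hL' : PicF.IsInvertible L' := PicClLib.isInvertible_pullback _ hL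
  have hg : ∀ z, GoodAt (PicF.XTproj f (AbDual.ovr T U.ι)) L' z := fun z =>
    (goodAt_bc (PicF.XTproj f T) (FppfPic.isPullback_XTmap f gU) hL z).2 ((goodCl_cl f hL _).1 z.2)
  obtain ⟨W, htW, s, hs⟩ := exists_gen (PicF.XTproj f (AbDual.ovr T U.ι)) hL' hg ⟨t, h⟩
  let gW := AbDual.ovrHom (AbDual.ovr T U.ι) W.ι
  let L'' := (Scheme.Modules.pullback (PicF.XTmap f gW)).obj L'
  have hL'' : PicF.IsInvertible L'' := PicClLib.isInvertible_pullback _ hL'
  have hg' : ∀ z, GoodAt (PicF.XTproj f (AbDual.ovr (AbDual.ovr T U.ι) W.ι)) L'' z := fun z =>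
    (goodAt_bc (PicF.XTproj f _) (FppfPic.isPullback_XTmap f gW) hL' z).2 (hg _)
  have hs' := IsGen.pull (PicF.XTproj f (AbDual.ovr T U.ι)) hL' hg (FppfPic.isPullback_XTmap f gW) hs
  have hs'' := IsGen.res (PicF.XTproj f (AbDual.ovr (AbDual.ovr T U.ι) W.ι)) hs'
    (show ⊤ ≤ gW.left ⁻¹ᵁ W from fun z _ => z.2)
  have hI : IsDiv f (PicF.cl L'') _ := ⟨L'', _, rfl, hL'', hg', hs'', rfl⟩
  -- the composite open
  refine ⟨U.ι ''ᵁ W, ⟨⟨t, h⟩, htW, rfl⟩, ?_⟩
  let e := (U.ι.isoImage W)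
  let j : AbDual.ovr T (U.ι ''ᵁ W).ι ⟶ AbDual.ovr (AbDual.ovr T U.ι) W.ι :=
    Over.homMk e.inv (by
      show e.inv ≫ W.ι ≫ U.ι ≫ T.hom = (U.ι ''ᵁ W).ι ≫ T.hom
      rw [← reassoc_of% (Scheme.Hom.isoImage_inv_ι U.ι W)])
  have hj : j ≫ gW ≫ gU = AbDual.ovrHom T (U.ι ''ᵁ W).ι := Over.OverMorphism.ext (by
    show e.inv ≫ W.ι ≫ U.ι = _
    exact Scheme.Hom.isoImage_inv_ι U.ι W)
  have h1 := hI.pull j
  rw [show PicF.cl L'' = PicF.pullCl (PicF.XTmap f gW) (PicF.pullCl (PicF.XTmap f gU) (PicF.cl L)) from rfl,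
    FppfPic.pullCl_XTmap_comp, FppfPic.pullCl_XTmap_comp, Category.assoc, hj] at h1
  exact ⟨_, h1⟩

end Groth.Agent.PicCurve

end
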