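import Groth.Agent.PicCurve.Twist

/-!
# A finite extension of the ground field with many rational points on a curve
-/

noncomputable section

set_option autoImplicit false
set_option linter.style.haveILetI false
set_option linter.unusedSectionVars false
set_option backward.isDefEq.respectTransparency false
set_option backward.isDefEq.respectTransparency.types false
set_option maxHeartbeats 1000000
set_option synthInstance.maxHeartbeats 400000
attribute [-instance] CategoryTheory.catToReflQuiver

universe u

open CategoryTheory CategoryTheory.Limits AlgebraicGeometry TopologicalSpace Opposite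

namespace Groth.Agent.PicCurve

variable {k : Type u} [Field k] {X : Scheme.{u}} (f : X ⟶ Spec (CommRingCat.of k))
  [LocallyOfFiniteType f] [IsIntegral X]

/-- a finite extension over which a given number of closed points become rational -/
theorem exists_finite_field_points (hdim : topologicalKrullDim X = 1) (N : ℕ) :
    ∃ (L : Type u) (_ : Field L) (_ : Algebra k L) (_ : FiniteDimensional k L)
      (y : Fin N → (Spec (CommRingCat.of L) ⟶ X)),
      (∀ i, y i ≫ f = Spec.map (CommRingCat.ofHom (algebraMap k L))) ∧ Function.Injective y := by
  classical
  obtain ⟨P, hP, hcard⟩ := (HilbCurve.closedPoints_infinite f hdim).exists_subset_card_eq N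
  let e : Fin N ≃ P := (P.equivFinOfCardEq hcard).symm
  let φ : ∀ i : Fin N, CommRingCat.of k ⟶ X.residueField (e i).1 := fun i =>
    Spec.preimage (X.fromSpecResidueField (e i).1 ≫ f)
  have hfin : ∀ i, (φ i).hom.Finite := fun i => by
    have hx : IsClosed ({(e i).1} : Set X) := hP (e i).2
    haveI : IsFinite (X.fromSpecResidueField (e i).1 ≫ f) := by
      rw [isClosed_singleton_iff_isClosedImmersion] at hx
      rw [isFinite_iff_locallyOfFiniteType_of_jacobsonSpace]
      infer_instance
    rw [← IsFinite.SpecMap_iff, Spec.map_preimage]
    infer_instance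
  letI : ∀ i, Algebra k (X.residueField (e i).1) := fun i => (φ i).hom.toAlgebra
  haveI : ∀ i, Module.Finite k (X.residueField (e i).1) := hfin
  let Ω := AlgebraicClosure k
  let emb : ∀ i, X.residueField (e i).1 →ₐ[k] Ω := fun i => IsAlgClosed.lift
  haveI : ∀ i, FiniteDimensional k (emb i).fieldRange := fun i =>
    Module.Finite.of_surjective (emb i).rangeRestrict.toLinearMap (AlgHom.rangeRestrict_surjective _)
  let L : IntermediateField k Ω := ⨆ i, (emb i).fieldRange
  haveI : FiniteDimensional k L := IntermediateField.finiteDimensional_iSup_of_finite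
  let ψ : ∀ i, X.residueField (e i).1 →ₐ[k] L := fun i =>
    (IntermediateField.inclusion (le_iSup (fun i => (emb i).fieldRange) i)).comp (emb i).rangeRestrict
  let y : Fin N → (Spec (CommRingCat.of L) ⟶ X) := fun i =>
    Spec.map (CommRingCat.ofHom (ψ i).toRingHom) ≫ X.fromSpecResidueField (e i).1
  refine ⟨L, inferInstance, inferInstance, inferInstance, y, fun i => ?_, fun i j h => ?_⟩
  · rw [Category.assoc, show X.fromSpecResidueField (e i).1 ≫ f = Spec.map (φ i) from (Spec.map_preimage _).symm,
      ← Spec.map_comp]
    exact congrArg Spec.map (CommRingCat.hom_ext (ψ i).comp_algebraMap)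
  · have hpt : ∀ i, y i (IsLocalRing.closedPoint L) = (e i).1 := fun i => by
      have h' : y i (IsLocalRing.closedPoint L) ∈ Set.range (X.fromSpecResidueField (e i).1) := ⟨_, rfl⟩
      rwa [Scheme.range_fromSpecResidueField, Set.mem_singleton_iff] at h'
    refine e.injective (Subtype.ext ?_)
    rw [← hpt i, ← hpt j, h]

end Groth.Agent.PicCurve

end
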