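import Groth.Agent.FppfPic.SeesawH0
import Groth.Agent.PBC.Deg0Glob
import Groth.Agent.PBC.Top
import Groth.Agent.GenBC.FreeRank
import Groth.Agent.HilbSnap.UniformVan
import Groth.Agent.H23.Seesaw
import Groth.Agent.BertiniSec.Scheme

/-!
# Invertible modules with one section and no first cohomology on the fibres
-/

noncomputable section

set_option autoImplicit false
set_option linter.style.haveILetI false
set_option linter.unusedSectionVars false
set_option backward.isDefEq.respectTransparency false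
set_option backward.isDefEq.respectTransparency.types false
set_option maxHeartbeats 1000000
set_option synthInstance.maxHeartbeats 400000
attribute [-instance] CategoryTheory.catToReflQuiver

universe u

open CategoryTheory CategoryTheory.Limits AlgebraicGeometry TopologicalSpace Opposite
open Groth.Agent.InvX

namespace Groth.Agent.PicCurve

variable {P T : Scheme.{u}} (π : P ⟶ T) [IsProper π] [Flat π] [LocallyOfFinitePresentation π]

/-- the fibre at a point has one section and no first cohomology -/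
def GoodAt (L : P.Modules) (t : T) : Prop :=
  CohIII.fiberRank π L 0 t = 1 ∧ CohIII.fiberRank π L 1 t = 0

theorem isFP_inv {L : P.Modules} (hL : PicF.IsInvertible L) : CohB1.IsFP L :=
  QCoh.isFP_of_isFinLocFree fun x =>
    let ⟨U, hx, e⟩ := InvEnd.isFinLocFreeOfRank_one hL x
    ⟨U, 1, hx, e⟩

theorem isQCoh_inv {L : P.Modules} (hL : PicF.IsInvertible L) : Coh.IsQCoh L := QCoh.isQCoh_of_isFP (isFP_inv hL)

theorem goodAt_congr {L L' : P.Modules} (e : L ≅ L') (t : T) : GoodAt π L t ↔ GoodAt π L' t := by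
  simp only [GoodAt, PBC.fiberRank_congr π e]

theorem subsingleton_one {L : P.Modules} (hL : PicF.IsInvertible L) {t : T} (h : GoodAt π L t) :
    Subsingleton (CohIII.fiberH π L t 1) :=
  HilbSnap.subsingleton_fiberH_of_rank π (isFP_inv hL) 1 t h.2

/-- goodness of a pullback -/
theorem goodAt_bc {P' T' : Scheme.{u}} {π' : P' ⟶ T'} {g' : P' ⟶ P} {g : T' ⟶ T} (h : IsPullback g' π' π g)
    {L : P.Modules} (hL : PicF.IsInvertible L) (t' : T') :
    GoodAt π' ((Scheme.Modules.pullback g').obj L) t' ↔ GoodAt π L (g t') := by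
  simp only [GoodAt, PBC.fiberRank_bc h (isQCoh_inv hL)]

/-- degree zero direct images of modules good on all fibres -/
theorem isInvertible_push {L : P.Modules} (hL : PicF.IsInvertible L) (h : ∀ t, GoodAt π L t) :
    PicF.IsInvertible ((Scheme.Modules.pushforward π).obj L) := by
  have hF := isFP_inv hL
  have hfl := H23.Seesaw.isFlatOver_of_isInvertible π hL
  have hlf := PBC.isFinLocFree_of_restrict_top (PBC.isFinLocFree_and_isIso_bc0 π hF hfl ⊤ fun t _ =>
    Or.inr (subsingleton_one π hL (h t))).1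
  haveI := QCoh.preservesFiniteLimits_push π
  let ψ := (Scheme.Modules.pushforward π).rightDerivedZeroIsoSelf.app L
  have hlf' : FlatMod.IsFinLocFree ((Coh.Rpush π 0).obj L) := fun t =>
    let ⟨U, n, ht, ⟨e⟩⟩ := hlf t
    ⟨U, n, ht, ⟨(Scheme.Modules.restrictFunctor U.ι).mapIso ψ ≪≫ e⟩⟩
  refine H23.PicMul.isInvertible_of_iso ψ (BertiniSec.isInvertible_of_rank_one ?_)
  exact GenBC.FreeRank.isFinLocFreeOfRank π hF hfl 0 (fun t => subsingleton_one π hL (h t)) hlf' fun t => (h t).1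

/-- base change in degree zero -/
theorem isIso_bc0 {L : P.Modules} (hL : PicF.IsInvertible L) (h : ∀ t, GoodAt π L t) {P' T' : Scheme.{u}}
    {π' : P' ⟶ T'} {g' : P' ⟶ P} {g : T' ⟶ T} (sq : IsPullback g' π' π g) :
    IsIso (CohBC.bc0 π g π' g' sq.w L) :=
  (PBC.isFinLocFree_and_isIso_bc0 π (isFP_inv hL) (H23.Seesaw.isFlatOver_of_isInvertible π hL) ⊤ fun t _ =>
    Or.inr (subsingleton_one π hL (h t))).2 T' P' g π' g' sq fun _ => trivial

/-- goodness is an open condition -/
theorem isOpen_goodAt {L : P.Modules} (hL : PicF.IsInvertible L) : IsOpen {t : T | GoodAt π L t} := by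
  have hF := isFP_inv hL
  have hfl := H23.Seesaw.isFlatOver_of_isInvertible π hL
  let U : T.Opens := ⟨{t | CohIII.fiberRank π L 1 t < 1}, PBC.isOpen_fiberRank_lt π L hF hfl 1 1⟩
  refine isOpen_iff_mem_nhds.2 fun t ht => ?_
  have htU : t ∈ U := show CohIII.fiberRank π L 1 t < 1 by rw [ht.2]; exact Nat.one_pos
  haveI : IsProper (π ∣_ U) := MorphismProperty.of_isPullback (isPullback_morphismRestrict π U).flip ‹IsProper π›
  haveI : Flat (π ∣_ U) := MorphismProperty.of_isPullback (isPullback_morphismRestrict π U).flip ‹Flat π›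
  haveI : LocallyOfFinitePresentation (π ∣_ U) :=
    MorphismProperty.of_isPullback (isPullback_morphismRestrict π U).flip ‹LocallyOfFinitePresentation π›
  let L' := (Scheme.Modules.pullback (π ⁻¹ᵁ U).ι).obj L
  have hL' : PicF.IsInvertible L' := PicClLib.isInvertible_pullback _ hL
  have hF' := isFP_inv hL'
  have hfl' := H23.Seesaw.isFlatOver_of_isInvertible (π ∣_ U) hL'
  have hr := fun p z => PBC.fiberRank_restrict π (isQCoh_inv hL) U p z
  have hsub : ∀ z : U, Subsingleton (CohIII.fiberH (π ∣_ U) L' z 1) := fun z =>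
    HilbSnap.subsingleton_fiberH_of_rank (π ∣_ U) hF' 1 z ((hr 1 z).trans (Nat.lt_one_iff.1 z.2))
  have hlf := PBC.isFinLocFree_of_restrict_top (PBC.isFinLocFree_and_isIso_bc0 (π ∣_ U) hF' hfl' ⊤
    fun z _ => Or.inr (hsub z)).1
  haveI := QCoh.preservesFiniteLimits_push (π ∣_ U)
  let ψ := (Scheme.Modules.pushforward (π ∣_ U)).rightDerivedZeroIsoSelf.app L'
  obtain ⟨O, n, hzO, ⟨e⟩⟩ := hlf ⟨t, htU⟩
  have key : ∀ z ∈ O, CohIII.fiberRank π L 0 (z : U).1 = n := fun z hz => (hr 0 z).symm.trans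
    (GenBC.FreeRank.fiberRank_eq_of_free (π ∣_ U) hF' hfl' 0 hsub
      ((Scheme.Modules.restrictFunctor O.ι).mapIso ψ ≪≫ e) hz)
  refine mem_nhds_iff.2 ⟨Subtype.val '' (O : Set U), ?_, U.2.isOpenMap_subtype_val _ O.2, ⟨⟨t, htU⟩, hzO, rfl⟩⟩
  rintro _ ⟨z, hz, rfl⟩
  exact ⟨(key z hz).trans ((key ⟨t, htU⟩ hzO).symm.trans ht.1), Nat.lt_one_iff.1 z.2⟩

/-- a section over the preimage of an open generating the direct image there -/
def IsGen (L : P.Modules) (V : T.Opens) (s : Γ(L, π ⁻¹ᵁ V)) : Prop :=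
  IsFrame (M := (Scheme.Modules.pushforward π).obj L) (U := V) s

theorem exists_gen {L : P.Modules} (hL : PicF.IsInvertible L) (h : ∀ t, GoodAt π L t) (t : T) :
    ∃ (V : T.Opens), t ∈ V ∧ ∃ s : Γ(L, π ⁻¹ᵁ V), IsGen π L V s :=
  let ⟨V, htV, e, he⟩ := InvX.exists_frame (isInvertible_push π hL h) t
  ⟨V, htV, e, he⟩

theorem IsGen.res {L : P.Modules} {V : T.Opens} {s : Γ(L, π ⁻¹ᵁ V)} (hs : IsGen π L V s) {W : T.Opens} (hW : W ≤ V) :
    IsGen π L W (AModX.res L (π.preimage_mono hW) s) :=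
  IsFrame.res hs hW

theorem IsGen.exists_coord {L : P.Modules} {V : T.Opens} {s : Γ(L, π ⁻¹ᵁ V)} (hs : IsGen π L V s)
    (x : Γ(L, π ⁻¹ᵁ V)) : ∃ a : Γ(T, V), π.app V a • s = x := by
  obtain ⟨a, ha⟩ := (hs V le_rfl).2 x
  refine ⟨a, ?_⟩
  rw [← ha]
  simp only [AModX.res_self]
  rfl

/-- generators pull back to generators -/
theorem IsGen.pull {L : P.Modules} (hL : PicF.IsInvertible L) (h : ∀ t, GoodAt π L t) {P' T' : Scheme.{u}}
    {π' : P' ⟶ T'} {g' : P' ⟶ P} {g : T' ⟶ T} (sq : IsPullback g' π' π g) {V : T.Opens} {s : Γ(L, π ⁻¹ᵁ V)}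
    (hs : IsGen π L V s) :
    IsGen π' ((Scheme.Modules.pullback g').obj L) (g ⁻¹ᵁ V)
      (AModX.res _ (show π' ⁻¹ᵁ (g ⁻¹ᵁ V) ≤ g' ⁻¹ᵁ (π ⁻¹ᵁ V) by
        rw [← Scheme.Hom.comp_preimage, ← Scheme.Hom.comp_preimage, sq.w]) (pullElt g' s)) := by
  haveI := isIso_bc0 π hL h sq
  have h1 := (isFrame_pullElt g hs).map_iso (asIso (CohBC.bc0 π g π' g' sq.w L))
  have h2 : (CohBC.bc0 π g π' g' sq.w L).app (g ⁻¹ᵁ V) (pullElt g (U := V) (M := (Scheme.Modules.pushforward π).obj L) s) =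
      (CohBC.bc0Adj π g π' g' sq.w L).app V s := by
    have e := ((Scheme.Modules.pullbackPushforwardAdjunction g).homEquiv_unit
      (f := CohBC.bc0 π g π' g' sq.w L)).symm
    rw [CohBC.bc0, Equiv.apply_symm_apply] at e
    exact congr(($e).app V s)
  have h3 : IsFrame (M := (Scheme.Modules.pushforward π').obj ((Scheme.Modules.pullback g').obj L)) (U := g ⁻¹ᵁ V)
      ((CohBC.bc0Adj π g π' g' sq.w L).app V s) := h2 ▸ h1
  exact h3

end Groth.Agent.PicCurve

end
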