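import Groth.Agent.PicCurve.Chart
import Groth.Agent.HilbCurve.Main
import Groth.Agent.S7791
import Groth.Agent.S6487
import Groth.Agent.PicH1Lib.Main
import Groth.Agent.QuotRep.BdAux
import Groth.Prelude.Def_Curve

/-!
# The rigidified Picard functor of a curve over a separably closed field is representable
-/

noncomputable section

set_option autoImplicit false
set_option linter.style.haveILetI false
set_option linter.unusedSectionVars false
set_option backward.isDefEq.respectTransparency false
set_option backward.isDefEq.respectTransparency.types false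
set_option maxHeartbeats 1000000
set_option synthInstance.maxHeartbeats 400000
attribute [-instance] CategoryTheory.catToReflQuiver

universe u

open CategoryTheory CategoryTheory.Limits AlgebraicGeometry TopologicalSpace Opposite
open Groth.Agent.H23.PicMul

namespace Groth.Agent.PicCurve

/-- invertible classes are parametrized by a small type -/
theorem exists_classes (X : Scheme.{u}) :
    ∃ (ι : Type u) (γ : ι → PicF.Cl X), (∀ i, PicF.IsInvertibleCl (γ i)) ∧
      ∀ c, PicF.IsInvertibleCl c → ∃ i, γ i = c := by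
  letI := law X
  obtain ⟨e⟩ := PicH1.nonempty_addEquiv X
  refine ⟨CohTop.H (UnitsSh.unitsAb X) 1, fun i => (Additive.toMul (e.symm i)).1,
    fun i => (Additive.toMul (e.symm i)).2, fun c hc => ⟨e (Additive.ofMul ⟨c, hc⟩), ?_⟩⟩
  exact congrArg (fun a => (Additive.toMul a).1) (e.symm_apply_apply _)

section Gen

variable {k : Type u} [Field k] {X : Scheme.{u}} (f : X ⟶ Spec (CommRingCat.of k))
  [IsProper f] [Smooth f] [IsIntegral X] (hdim : topologicalKrullDim X = 1)

include hdim in
/-- the rigidified Picard functor is represented by a smooth scheme as soon as every class has good twists -/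
theorem exists_rig_smooth_of [SmoothOfRelativeDimension 1 f] [GeometricallyIntegral f]
    (htwist : ∀ (T : Over (Spec (CommRingCat.of k))) (a : PicF.Cl (PicF.XT f T)), PicF.IsInvertibleCl a →
      ∀ t : T.left, ∃ γ, PicF.IsInvertibleCl γ ∧ GoodCl f (a * tw f γ T) t)
    (σ : Spec (CommRingCat.of k) ⟶ X) (hσ : σ ≫ f = 𝟙 _) :
    ∃ (P : Over (Spec (CommRingCat.of k))) (ξ : PicF.Rig f σ hσ P), Smooth P.hom ∧
      ∀ (T : Over (Spec (CommRingCat.of k))) (c : PicF.Rig f σ hσ T),
        ∃! g : T ⟶ P, PicF.pullCl (PicF.XTmap f g) ξ.1 = c.1 := by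
  choose H Z hU hpr hsm using HilbCurve.exists_proper_smooth f hdim
  obtain ⟨ι, γ, hγ, hsurj⟩ := exists_classes X
  let A : Atlas f σ hσ :=
    { ι := ι × ULift.{u} ℕ
      W := fun p => chW (Z p.2.down)
      ξ := fun p => chξ (Z p.2.down) (hγ p.1)
      mono := fun p T g g' h => ch_mono (Z p.2.down) (hγ p.1) (hU p.2.down) T g g' h
      loc := fun T c p => ch_loc (Z p.2.down) (hγ p.1) (hU p.2.down) T c
      cover := fun T c t => by
        obtain ⟨γ₀, hγ₀, hgood⟩ := htwist T c.1 c.2.1 t
        obtain ⟨i, rfl⟩ := hsurj γ₀ hγ₀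
        obtain ⟨V, htV, I, hI⟩ := exists_isDiv (isInvertibleCl_mul c.2.1 (isInvertibleCl_tw (hγ i) T)) hgood
        obtain ⟨W, htW, g, hg⟩ := exists_of_isDiv (Z ((I.subschemeι ≫ PicF.XTproj f (opn T V)).finrank ⟨t, htV⟩))
          (hγ i) (hU _) c hI htV rfl
        exact ⟨(i, ULift.up _), opn T W, AbDual.ovrHom T W.ι, g, ⟨⟨t, htW⟩, rfl⟩, hg⟩ }
  obtain ⟨ξP, hξP⟩ := A.exists_universal (isIso_app f σ hσ)
  refine ⟨A.P, ξP, ?_, hξP⟩
  refine IsZariskiLocalAtSource.of_openCover A.glueData.openCover fun p => ?_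
  show Smooth (A.glueData.ι p ≫ A.P.hom)
  rw [A.ι_hom]
  haveI := hsm p.2.down
  show Smooth ((good (Z p.2.down)).ι ≫ (H p.2.down).hom)
  infer_instance

end Gen

variable {k : Type u} [Field k] [IsSepClosed k] {X : Scheme.{u}} (f : X ⟶ Spec (CommRingCat.of k))
  [IsProper f] [Smooth f] [IsIntegral X] (hdim : topologicalKrullDim X = 1)

include hdim in
/-- on every point of a family some twist of a class is good -/
theorem exists_goodCl [SmoothOfRelativeDimension 1 f] [GeometricallyIntegral f]
    {T : Over (Spec (CommRingCat.of k))} {a : PicF.Cl (PicF.XT f T)} (ha : PicF.IsInvertibleCl a) (t : T.left) :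
    ∃ γ, PicF.IsInvertibleCl γ ∧ GoodCl f (a * tw f γ T) t := by
  let m := T.left.fromSpecResidueField t
  let φ := Spec.preimage (m ≫ T.hom)
  letI : Algebra k (T.left.residueField t : Type u) := φ.hom.toAlgebra
  let T' := AbDual.ovr T m
  let mm : T' ⟶ T := AbDual.ovrHom T m
  letI : X.Over (Spec (CommRingCat.of k)) := ⟨f⟩
  letI : (PicF.XT f T').Over (Spec (CommRingCat.of (T.left.residueField t : Type u))) := ⟨PicF.XTproj f T'⟩
  haveI : IsProper (X ↘ Spec (CommRingCat.of k)) := ‹IsProper f›
  haveI : Smooth (X ↘ Spec (CommRingCat.of k)) := ‹Smooth f›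
  have hpb : IsPullback (pullback.fst f T'.hom) (PicF.XTproj f T') f
      (Spec.map (CommRingCat.ofHom (algebraMap k (T.left.residueField t : Type u)))) := by
    rw [show Spec.map (CommRingCat.ofHom (algebraMap k (T.left.residueField t : Type u))) = T'.hom from
      Spec.map_preimage (m ≫ T.hom)]
    exact IsPullback.of_hasPullback f T'.hom
  obtain ⟨L, hL, hLi⟩ := FppfPic.isInvertibleCl_pull (PicF.XTmap f mm) ha
  obtain ⟨L₀, hL₀, h0, h1⟩ := S6487.result k X ⟨‹_›, ‹_›, ‹_›, hdim⟩ (T.left.residueField t : Type u)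
    (PicF.XT f T') (pullback.fst f T'.hom) hpb L hLi
  refine ⟨PicF.cl L₀, ⟨L₀, rfl, hL₀⟩, ?_⟩
  let z : T'.left := IsLocalRing.closedPoint (T.left.residueField t)
  have hz : mm.left z = t := T.left.fromSpecResidueField_apply t z
  rw [← hz, ← goodCl_pull f mm (isInvertibleCl_mul ha (isInvertibleCl_tw ⟨L₀, rfl, hL₀⟩ T)) z, pullCl_mul,
    tw_pull, ← hL]
  let N := CohB1.tensorMod L ((Scheme.Modules.pullback (pullback.fst f T'.hom)).obj L₀)
  have hN : PicF.IsInvertible N := isInvertible_tensor hLi (PicClLib.isInvertible_pullback _ hL₀)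
  refine (goodCl_cl f (L := N) hN z).2 ⟨?_, ?_⟩
  · exact (QuotRep.fiberRank_field (PicF.XTproj f T') (isQCoh_inv hN) 0 z).trans h0
  · haveI := h1
    exact (QuotRep.fiberRank_field (PicF.XTproj f T') (isQCoh_inv hN) 1 z).trans Module.finrank_zero_of_subsingleton

include hdim in
/-- the rigidified Picard functor of the curve is represented by a smooth scheme -/
theorem exists_rig_smooth (σ : Spec (CommRingCat.of k) ⟶ X) (hσ : σ ≫ f = 𝟙 _) :
    ∃ (P : Over (Spec (CommRingCat.of k))) (ξ : PicF.Rig f σ hσ P), Smooth P.hom ∧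
      ∀ (T : Over (Spec (CommRingCat.of k))) (c : PicF.Rig f σ hσ T),
        ∃! g : T ⟶ P, PicF.pullCl (PicF.XTmap f g) ξ.1 = c.1 := by
  haveI := HilbCurve.smoothOfRelativeDimension_one f hdim
  haveI : GeometricallyIntegral f := S7791.result f σ hσ
  exact exists_rig_smooth_of f hdim (fun T a ha t => exists_goodCl f hdim ha t) σ hσ

include hdim in
/-- the rigidified Picard functor of the curve is representable -/
theorem rigRepresentable (σ : Spec (CommRingCat.of k) ⟶ X) (hσ : σ ≫ f = 𝟙 _) :
    PicF.RigRepresentable f σ hσ :=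
  let ⟨P, ξ, _, h⟩ := exists_rig_smooth f hdim σ hσ
  ⟨P, ξ, h⟩

end Groth.Agent.PicCurve

end
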