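import Groth.Agent.PicCurve.DegCl
import Groth.Agent.PicCurve.HilbIrr
import Groth.Agent.PicCurve.Main
import Groth.Agent.PicCurve.Group
import Groth.Agent.GrpSchLib.CharZeroPts

/-!
# The Jacobian of a curve over a separably closed field
-/

noncomputable section

set_option autoImplicit false
set_option linter.style.haveILetI false
set_option linter.unusedSectionVars false
set_option backward.isDefEq.respectTransparency false
set_option backward.isDefEq.respectTransparency.types false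
set_option maxHeartbeats 1000000
set_option synthInstance.maxHeartbeats 400000
attribute [-instance] CategoryTheory.catToReflQuiver

universe u

open CategoryTheory CategoryTheory.Limits AlgebraicGeometry TopologicalSpace Opposite
open Groth.Agent.InvX Groth.Agent.AModX Groth.Agent.H23.PicMul

namespace Groth.Agent.PicCurve

variable {k : Type u} [Field k] {X : Scheme.{u}} {f : X ⟶ Spec (CommRingCat.of k)}
  [IsProper f] [Smooth f] [SmoothOfRelativeDimension 1 f] [GeometricallyIntegral f]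
  (hdim : topologicalKrullDim X = 1)
  {σ : Spec (CommRingCat.of k) ⟶ X} {hσ : σ ≫ f = 𝟙 _}

section Universal

variable {d : ℕ} {H : Over (Spec (CommRingCat.of k))} (Z : HilbD.Obj f d H)
  (p : Over.mk (𝟙 (Spec (CommRingCat.of k))) ⟶ H)

include hdim in
/-- the universal divisor has degree d -/
theorem degCl_uL (z : H.left) : degCl f (PicF.cl (uL Z)) z = d := by
  obtain ⟨K, _, r, m, w, rfl⟩ := exists_field_point z
  rw [← degCl_pull f m (isInvertibleCl_uL Z)]
  have hL := (uL_spec Z).1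
  have hL' := PicClLib.isInvertible_pullback (PicF.XTmap f m) hL
  refine degCl_of_section f hdim r hL' (pullElt (PicF.XTmap f m) (U := ⊤) (uS Z)) ?_ d ?_ w
  · refine pullElt_ne_zero hL (uS Z) ?_ m inferInstance
    rw [(uL_spec Z).2]
    exact Z.2.1
  · rw [← comap_zeroScheme (PicF.XTmap f m) hL hL', (uL_spec Z).2, ← HilbDLib.pull_eq_comap]
    exact HilbDLib.isFinLocFreeOfDeg_pull f m Z.1 Z.2

/-- a class of degree d on the curve -/
def clDeg : PicF.Cl X :=
  PicF.pullCl (pullback.lift (𝟙 X) f (by simp) : X ⟶ PicF.XT f (Over.mk (𝟙 (Spec (CommRingCat.of k)))))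
    (PicF.pullCl (PicF.XTmap f p) (PicF.cl (uL Z)))

theorem isInvertibleCl_clDeg : PicF.IsInvertibleCl (clDeg Z p) :=
  FppfPic.isInvertibleCl_pull _ (FppfPic.isInvertibleCl_pull _ (isInvertibleCl_uL Z))

theorem tw_clDeg (T : Over (Spec (CommRingCat.of k))) :
    tw f (clDeg Z p) T = PicF.pullCl (PicF.XTmap f ((Over.homMk T.hom : T ⟶ Over.mk (𝟙 _)) ≫ p))
      (PicF.cl (uL Z)) := by
  rw [tw, clDeg, PicClLib.pullCl_comp, ← FppfPic.pullCl_XTmap_comp f _ p]
  refine congrArg (fun g => PicF.pullCl g _) (pullback.hom_ext ?_ ?_)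
  · simp [PicF.XTmap]
  · simp [PicF.XTmap, pullback.condition]

include hdim in
theorem degCl_tw {T : Over (Spec (CommRingCat.of k))} (t : T.left) : degCl f (tw f (clDeg Z p) T) t = d := by
  rw [tw_clDeg, degCl_pull f _ (isInvertibleCl_uL Z), degCl_uL hdim Z]

variable (σ hσ) in
/-- the class of the map to the degree zero part -/
def abelRig : PicF.Rig f σ hσ H :=
  rigify f σ hσ (isInvertibleCl_mul (isInvertibleCl_uL Z)
    (isInvertibleCl_invCl (isInvertibleCl_tw (isInvertibleCl_clDeg Z p) H)))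

include hdim in
theorem degCl_abelRig (z : H.left) : degCl f (abelRig σ hσ Z p).1 z = 0 := by
  rw [abelRig, degCl_rigify f hdim, degCl_mul f hdim (isInvertibleCl_uL Z) (isInvertibleCl_invCl _),
    degCl_invCl f hdim, degCl_uL hdim Z, degCl_tw hdim Z p, add_neg_cancel]

end Universal

section Rep

variable {P : Over (Spec (CommRingCat.of k))} (ξ : PicF.Rig f σ hσ P)
  (hP : ∀ (T : Over (Spec (CommRingCat.of k))) (c : PicF.Rig f σ hσ T),
    ∃! g : T ⟶ P, PicF.pullCl (PicF.XTmap f g) ξ.1 = c.1)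

include hdim in
theorem isClopen_deg0 [Smooth P.hom] : IsClopen {t : P.left | Deg0At f ξ.1 t} := by
  haveI : IsLocallyNoetherian P.left := LocallyOfFiniteType.isLocallyNoetherian P.hom
  refine isClopen_deg0At f (fun s => ?_) ξ.2.1
  haveI : Subsingleton (Spec (CommRingCat.of k)) := inferInstanceAs (Subsingleton (PrimeSpectrum k))
  let r := (Spec (CommRingCat.of k)).fromSpecResidueField s
  haveI : Subsingleton (Spec ((Spec (CommRingCat.of k)).residueField s)) :=
    inferInstanceAs (Subsingleton (PrimeSpectrum ((Spec (CommRingCat.of k)).residueField s : Type u)))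
  haveI : Nonempty (Spec ((Spec (CommRingCat.of k)).residueField s)) :=
    inferInstanceAs (Nonempty (PrimeSpectrum ((Spec (CommRingCat.of k)).residueField s : Type u)))
  exact ((FibDim.topologicalKrullDim_baseChange (IsPullback.of_hasPullback f r)).trans hdim).le

variable {g : ℕ} (hchi : ∀ (K : Type u) [Field K] (r : Spec (CommRingCat.of K) ⟶ Spec (CommRingCat.of k))
    (t : (Over.mk r).left), chiCl f (1 : PicF.Cl (PicF.XT f (Over.mk r))) t = 1 - (g : ℤ))
  {H : Over (Spec (CommRingCat.of k))} (Z : HilbD.Obj f g H) (hU : HilbD.IsUniversal f g H Z)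
  (p : Over.mk (𝟙 (Spec (CommRingCat.of k))) ⟶ H)
  (Φ : H ⟶ P) (hΦ : PicF.pullCl (PicF.XTmap f Φ) ξ.1 = (abelRig σ hσ Z p).1)

include hdim hP hchi hU hΦ in
/-- the classes of effective divisors of degree g fill the degree zero part -/
theorem range_eq_deg0 : Set.range Φ.left = {t : P.left | Deg0At f ξ.1 t} := by
  refine Set.Subset.antisymm ?_ fun t ht => ?_
  · rintro _ ⟨z, rfl⟩
    show Deg0At f ξ.1 (Φ.left z)
    rw [deg0At_iff, ← degCl_pull f Φ ξ.2.1, hΦ, degCl_abelRig hdim Z p]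
  obtain ⟨K, _, r, m, z, rfl⟩ := exists_field_point t
  let T := Over.mk r
  let γ := clDeg Z p
  have hγ : PicF.IsInvertibleCl (tw f γ T) := isInvertibleCl_tw (isInvertibleCl_clDeg Z p) T
  let c := rigPull f σ hσ m ξ
  have hc0 : degCl f c.1 z = 0 := (degCl_pull f m ξ.2.1 z).trans ((deg0At_iff f _ _).1 ht)
  obtain ⟨N, hN, hNi⟩ := isInvertibleCl_mul c.2.1 hγ
  have hchiN : chiCl f (PicF.cl N) z = 1 := by
    have h1 : degCl f (PicF.cl N) z = g := by
      rw [hN, degCl_mul f hdim c.2.1 hγ, hc0, degCl_tw hdim Z p, zero_add]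
    have h2 := hchi K r z
    rw [degCl] at h1
    change chiCl f (PicF.cl N) z - chiCl f (1 : PicF.Cl (PicF.XT f (Over.mk r))) z = (g : ℤ) at h1
    omega
  letI : (PicF.XT f T).Over (Spec (CommRingCat.of K)) := ⟨PicF.XTproj f T⟩
  haveI : IsProper (PicF.XT f T ↘ Spec (CommRingCat.of K)) := isProper_proj f T
  have hh : 0 < Module.finrank K (Coh.HH (PicF.XT f T) N 0) := by
    rw [chiCl_field f hdim r (isQCoh_inv hNi), CurveRR.euler_eq_h0_sub_h1 K (dim_XT f hdim r).le (isQCoh_inv hNi)]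
      at hchiN
    change (Module.finrank K (Coh.HH (PicF.XT f T) N 0) : ℤ) -
      Module.finrank K (Coh.HH (PicF.XT f T) N 1) = 1 at hchiN
    omega
  rw [FppfPic.HyperSec.finrank_HH_zero K N] at hh
  letI := FppfPic.HyperSec.secMod K (X := PicF.XT f T) N
  obtain ⟨s, hs⟩ : ∃ s : Γ(N, ⊤), s ≠ 0 := by
    haveI := Module.nontrivial_of_finrank_pos hh
    exact exists_ne 0
  have hflf := isFinLocFree_zeroScheme (PicF.XTproj f T) hNi s (isNonzero_fibNZ f r hNi s hs)
  haveI : Subsingleton T.left := inferInstanceAs (Subsingleton (PrimeSpectrum K))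
  have hd := degCl_of_section f hdim r hNi s hs _
    (⟨hflf, fun y => by rw [Subsingleton.elim y z]⟩ : Mor2.IsFinLocFreeOfDeg _ _) z
  have hdg : ((PicF2.zeroScheme N (ofSect s)).subschemeι ≫ PicF.XTproj f T).finrank z = g := by
    rw [hN, degCl_mul f hdim c.2.1 hγ, hc0, degCl_tw hdim Z p, zero_add] at hd
    exact_mod_cast hd.symm
  obtain ⟨h, hh', -⟩ := hU T ⟨PicF2.zeroScheme N (ofSect s), hflf, fun y => by rw [Subsingleton.elim y z, hdg]⟩
  have hL' := PicClLib.isInvertible_pullback (PicF.XTmap f h) (uL_spec Z).1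
  obtain ⟨e⟩ := nonempty_iso_of_zeroScheme_eq hNi hL' s (pullElt (PicF.XTmap f h) (U := ⊤) (uS Z))
    (cl_mul_idealMod f r hNi s hs).1
    (by rw [← comap_zeroScheme (PicF.XTmap f h) (uL_spec Z).1 hL', (uL_spec Z).2, ← HilbDLib.pull_eq_comap]
        exact hh')
  have hab : rigPull f σ hσ h (abelRig σ hσ Z p) = c := by
    rw [abelRig, rigPull_rigify]
    refine (rigify_congr f σ hσ _ c.2.1 ?_).trans (rigify_self f σ hσ c)
    rw [pullCl_mul, show PicF.pullCl (PicF.XTmap f h) (PicF.cl (uL Z)) = c.1 * tw f γ T from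
      (cl_eq_iff.2 ⟨e.symm⟩).trans hN, pull_invCl, _root_.mul_assoc,
      ← eq_invCl (a := PicF.pullCl (PicF.XTmap f h) (tw f γ H)) (b := invCl hγ) _
        (by rw [tw_pull, mul_invCl]), mul_invCl, _root_.mul_one]
  have hm : h ≫ Φ = m := (hP T c).unique (by
    rw [← FppfPic.pullCl_XTmap_comp, hΦ]
    exact congrArg Subtype.val hab) rfl
  exact ⟨h.left z, by rw [← Scheme.Hom.comp_apply, ← Over.comp_left, hm]⟩

end Rep

section Main

variable [IsIntegral X]

include hdim in
theorem chi_one (σ : Spec (CommRingCat.of k) ⟶ X) (hσ : σ ≫ f = 𝟙 _) [X.Over (Spec (CommRingCat.of k))]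
    (hf : X ↘ Spec (CommRingCat.of k) = f) (K : Type u) [Field K]
    (r : Spec (CommRingCat.of K) ⟶ Spec (CommRingCat.of k)) (t : (Over.mk r).left) :
    chiCl f (1 : PicF.Cl (PicF.XT f (Over.mk r))) t =
      1 - (Module.finrank k (Coh.HH X (Coh.structureModule X) 1) : ℤ) :=
  chiCl_one_field f hdim r σ hσ hf t

include hdim in
/-- the degree zero part of the Picard scheme is proper, smooth and geometrically irreducible -/
theorem exists_jacobian_of (htwist : ∀ (T : Over (Spec (CommRingCat.of k))) (a : PicF.Cl (PicF.XT f T)),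
      PicF.IsInvertibleCl a → ∀ t : T.left, ∃ γ, PicF.IsInvertibleCl γ ∧ GoodCl f (a * tw f γ T) t)
    (σ : Spec (CommRingCat.of k) ⟶ X) (hσ : σ ≫ f = 𝟙 _) :
    ∃ (J : Over (Spec (CommRingCat.of k))) (ξ : PicF.Rig f σ hσ J),
      IsProper J.hom ∧ Smooth J.hom ∧ GeometricallyIrreducible J.hom ∧
      FGA.HasFibreDegreeZeroCl f J ξ.1 ∧
      ∀ (T : Over (Spec (CommRingCat.of k))) (c : PicF.Rig f σ hσ T), FGA.HasFibreDegreeZeroCl f T c.1 →
        ∃! g : T ⟶ J, PicF.pullCl (PicF.XTmap f g) ξ.1 = c.1 := by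
  letI : X.Over (Spec (CommRingCat.of k)) := ⟨f⟩
  obtain ⟨P, ξ, hsm, hP⟩ := exists_rig_smooth_of f hdim htwist σ hσ
  haveI := hsm
  letI := grpObj f σ hσ ξ hP
  haveI : IsSeparated P.hom := GrpSchLib.CharZeroPts.isSeparated_grp P
  let J0 : P.left.Opens := ⟨_, (isClopen_deg0 hdim ξ).isOpen⟩
  let J := opn P J0
  let ι : J ⟶ P := AbDual.ovrHom P J0.ι
  haveI : IsOpenImmersion ι.left := inferInstanceAs (IsOpenImmersion J0.ι)
  haveI hJs : Smooth J.hom := inferInstanceAs (Smooth (J0.ι ≫ P.hom))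
  haveI : IsSeparated J.hom := inferInstanceAs (IsSeparated (J0.ι ≫ P.hom))
  let g := Module.finrank k (Coh.HH X (Coh.structureModule X) 1)
  obtain ⟨H, Z, hU, hpr, -⟩ := HilbCurve.exists_proper_smooth f hdim g
  haveI := hpr
  obtain ⟨hirr, ⟨p⟩⟩ := irreducible_of_isUniversal f σ hσ (HilbCurve.representable f hdim) g H Z hU
  haveI := hirr
  obtain ⟨Φ, hΦ, -⟩ := hP H (abelRig σ hσ Z p)
  have hr := range_eq_deg0 hdim ξ hP (fun K _ r t => chi_one hdim σ hσ rfl K r t) Z hU p Φ hΦ
  have hsub : Set.range Φ.left ⊆ Set.range J0.ι := by rw [hr, Scheme.Opens.range_ι]; exact subset_rfl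
  let Ψ : H.left ⟶ J.left := IsOpenImmersion.lift J0.ι Φ.left hsub
  have hΨ : Ψ ≫ J0.ι = Φ.left := IsOpenImmersion.lift_fac _ _ _
  haveI : Surjective Ψ := ⟨fun y => by
    obtain ⟨z, hz⟩ : J0.ι y ∈ Set.range Φ.left := by rw [hr]; exact y.2
    refine ⟨z, J0.ι.isOpenEmbedding.injective ?_⟩
    exact ((Scheme.Hom.comp_apply Ψ J0.ι z).symm.trans (congrArg (fun q : H.left ⟶ P.left => q z) hΨ)).trans hz⟩
  haveI : UniversallyClosed (Ψ ≫ J.hom) := by
    rw [show Ψ ≫ J.hom = H.hom by
      show Ψ ≫ J0.ι ≫ P.hom = _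
      rw [reassoc_of% hΨ, Over.w Φ]]
    infer_instance
  haveI : UniversallyClosed J.hom := UniversallyClosed.of_comp_surjective Ψ J.hom
  haveI : IrreducibleSpace J.left := (irreducibleSpace_def _).2 (by
    have h := (IrreducibleSpace.isIrreducible_univ H.left).image Ψ Ψ.continuous.continuousOn
    rwa [Set.image_univ, (Surjective.surj (f := Ψ)).range_eq] at h)
  haveI : IsProper J.hom := by constructor
  haveI : GeometricallyIntegral J.hom := S7791.result J.hom (p.left ≫ Ψ) (by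
    show (p.left ≫ Ψ) ≫ J0.ι ≫ P.hom = _
    rw [Category.assoc, reassoc_of% hΨ, Over.w Φ, Over.w p]
    rfl)
  refine ⟨J, rigPull f σ hσ ι ξ, inferInstance, hJs, inferInstance,
    (hasFibreDegreeZeroCl_iff f _).2 fun t => (deg0At_pull f ι ξ.2.1 t).2 t.2, fun T c hc => ?_⟩
  obtain ⟨m, hm, hm'⟩ := hP T c
  have hms : Set.range m.left ⊆ Set.range J0.ι := by
    rw [Scheme.Opens.range_ι]
    rintro _ ⟨t, rfl⟩
    show Deg0At f ξ.1 (m.left t)
    rw [← deg0At_pull f m ξ.2.1, hm]
    exact (hasFibreDegreeZeroCl_iff f _).1 hc t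
  let n : T ⟶ J := Over.homMk (IsOpenImmersion.lift J0.ι m.left hms) (by
    show _ ≫ J0.ι ≫ P.hom = _
    rw [IsOpenImmersion.lift_fac_assoc, Over.w m])
  have hn : n ≫ ι = m := Over.OverMorphism.ext (IsOpenImmersion.lift_fac _ _ _)
  refine ⟨n, ?_, fun n' hn' => ?_⟩
  · show PicF.pullCl _ (PicF.pullCl _ ξ.1) = _
    rw [FppfPic.pullCl_XTmap_comp, hn, hm]
  · haveI : Mono ι := (Over.forget _).mono_of_mono_map (show Mono ι.left from inferInstance)
    rw [← cancel_mono ι, hn]
    refine hm' _ ?_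
    rw [← hn']
    exact (FppfPic.pullCl_XTmap_comp f n' ι ξ.1).symm

include hdim in
/-- the Jacobian over a separably closed field -/
theorem exists_jacobian [IsSepClosed k] (σ : Spec (CommRingCat.of k) ⟶ X) (hσ : σ ≫ f = 𝟙 _) :
    ∃ (J : Over (Spec (CommRingCat.of k))) (ξ : PicF.Rig f σ hσ J),
      IsProper J.hom ∧ Smooth J.hom ∧ GeometricallyIrreducible J.hom ∧
      FGA.HasFibreDegreeZeroCl f J ξ.1 ∧
      ∀ (T : Over (Spec (CommRingCat.of k))) (c : PicF.Rig f σ hσ T), FGA.HasFibreDegreeZeroCl f T c.1 →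
        ∃! g : T ⟶ J, PicF.pullCl (PicF.XTmap f g) ξ.1 = c.1 :=
  exists_jacobian_of hdim (fun T a ha t => exists_goodCl f hdim ha t) σ hσ

end Main

end Groth.Agent.PicCurve

end
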