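import Groth.Agent.PicCurve.BaseChange
import Groth.Agent.PicCurve.FiniteExt
import Groth.Agent.PicCurve.Jacobian
import Groth.Agent.Lib.AVProj
import Groth.Agent.DescLib.DescFinite
import Groth.Agent.AmpleX.FiniteSet
import Groth.Agent.AmpleX.Separated
import Groth.Agent.EtFound.Descent
import Mathlib.AlgebraicGeometry.Morphisms.LocalFlatDescent

/-!
# The Jacobian of a curve with a rational point over any field
-/

noncomputable section

set_option autoImplicit false
set_option linter.style.haveILetI false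
set_option linter.unusedSectionVars false
set_option backward.isDefEq.respectTransparency false
set_option backward.isDefEq.respectTransparency.types false
set_option maxHeartbeats 1000000
set_option synthInstance.maxHeartbeats 400000
attribute [-instance] CategoryTheory.catToReflQuiver

universe u

open CategoryTheory CategoryTheory.Limits AlgebraicGeometry TopologicalSpace Opposite Desc
  MonoidalCategory CartesianMonoidalCategory
open scoped MonObj
open Groth.Agent.H23.PicMul

namespace Groth.Agent.PicCurve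

open RepDescent (below)

/-- descent data on a scheme with an ample module are effective along a finite flat covering -/
theorem effective_of_ample {B S : Scheme.{u}} (p : B ⟶ S) [Surjective p] [IsFinite p] [Flat p]
    [LocallyOfFinitePresentation p] (D : SchDD p) {L : D.obj.left.Modules} (hL : CohB1.IsAmple L) :
    ∃ W : Over S, Nonempty ((toDD p).obj W ≅ D) := by
  refine DescLib.effective_of_orbits p D fun v => ?_
  haveI : IsFinite (pullback.fst (DescLib.IndQA.sv p D) p) := MorphismProperty.pullback_fst _ _ inferInstance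
  haveI : D.obj.left.IsSeparated := AmpleX.isSeparated_of_isAmple hL
  obtain ⟨n, s, hs, -, haff⟩ := AmpleX.exists_finite_nhd hL
    (((pullback.fst (DescLib.IndQA.sv p D) p).finite_preimage_singleton v).image (DescLib.IndQA.d₁ p D))
    (U := ⊤) (fun _ _ => trivial)
  exact ⟨_, haff, fun r hr => hs ⟨r, hr, rfl⟩⟩

variable {k : Type u} [Field k] {X : Scheme.{u}} (f : X ⟶ Spec (CommRingCat.of k))
  [IsProper f] [Smooth f] [IsIntegral X] (hdim : topologicalKrullDim X = 1)
  (σ : Spec (CommRingCat.of k) ⟶ X) (hσ : σ ≫ f = 𝟙 _)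

include hdim in
/-- over a suitable finite extension the Jacobian exists and is projective -/
theorem exists_over_extension [SmoothOfRelativeDimension 1 f] [GeometricallyIntegral f] :
    ∃ (L : Type u) (_ : Field L) (ρ : Spec (CommRingCat.of L) ⟶ Spec (CommRingCat.of k)),
      IsFinite ρ ∧ Flat ρ ∧ Surjective ρ ∧ LocallyOfFinitePresentation ρ ∧
      ∃ (J : Over (Spec (CommRingCat.of L)))
        (ξ : PicF.Rig (fL f ρ) (σL f ρ σ hσ) (hσL f ρ σ hσ) J),
        IsProper J.hom ∧ Smooth J.hom ∧ IrreducibleSpace J.left ∧ (∃ M : J.left.Modules, CohB1.IsAmple M) ∧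
        FGA.HasFibreDegreeZeroCl (fL f ρ) J ξ.1 ∧
        ∀ (T : Over (Spec (CommRingCat.of L))) (c : PicF.Rig (fL f ρ) (σL f ρ σ hσ) (hσL f ρ σ hσ) T),
          FGA.HasFibreDegreeZeroCl (fL f ρ) T c.1 →
          ∃! g : T ⟶ J, PicF.pullCl (PicF.XTmap (fL f ρ) g) ξ.1 = c.1 := by
  classical
  letI : X.Over (Spec (CommRingCat.of k)) := ⟨f⟩
  haveI : IsProper (X ↘ Spec (CommRingCat.of k)) := ‹IsProper f›
  obtain ⟨L, _, _, _, y, hy, hinj⟩ := exists_finite_field_points f hdim (2 * Curv2.genus k X + 1)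
  let ρ : Spec (CommRingCat.of L) ⟶ Spec (CommRingCat.of k) := Spec.map (CommRingCat.ofHom (algebraMap k L))
  haveI : IsFinite ρ := (IsFinite.SpecMap_iff (f := CommRingCat.ofHom (algebraMap k L))).2 (RingHom.finite_algebraMap.2 inferInstance)
  haveI : Flat ρ := Flat.SpecMap_iff.2 (RingHom.flat_algebraMap_iff.2 inferInstance)
  haveI : Subsingleton (Spec (CommRingCat.of k)) := inferInstanceAs (Subsingleton (PrimeSpectrum k))
  haveI : Subsingleton (Spec (CommRingCat.of L)) := inferInstanceAs (Subsingleton (PrimeSpectrum L))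
  haveI : Nonempty (Spec (CommRingCat.of L)) := inferInstanceAs (Nonempty (PrimeSpectrum L))
  haveI : Surjective ρ := ⟨fun x => ⟨Classical.arbitrary _, Subsingleton.elim _ _⟩⟩
  haveI : LocallyOfFinitePresentation ρ := inferInstance
  haveI := smoothOfRelativeDimension_isStableUnderBaseChange 1
  haveI : SmoothOfRelativeDimension 1 (fL f ρ) :=
    MorphismProperty.pullback_snd (P := @SmoothOfRelativeDimension 1) _ _ inferInstance
  haveI : IsIntegral (pullback f ρ) := GeometricallyIntegral.isIntegral_of_subsingleton (pullback.snd f ρ)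
  have hdimL : topologicalKrullDim ↥(pullback f ρ) = 1 :=
    (FibDim.topologicalKrullDim_baseChange (IsPullback.of_hasPullback f ρ)).trans hdim
  let S : Finset (Spec (CommRingCat.of L) ⟶ pullback f ρ) :=
    Finset.univ.image fun i => pullback.lift (y i) (𝟙 _) (by rw [hy, Category.id_comp])
  have hS : ∀ s ∈ S, s ≫ fL f ρ = 𝟙 _ := by
    intro s hs
    obtain ⟨i, -, rfl⟩ := Finset.mem_image.1 hs
    exact pullback.lift_snd _ _ _
  letI : (pullback f ρ).Over (Spec (CommRingCat.of L)) := ⟨fL f ρ⟩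
  haveI : CompactSpace X := QuasiCompact.compactSpace_of_compactSpace f
  haveI : QuasiSeparatedSpace X := quasiSeparatedSpace_of_quasiSeparated f
  have hgen : Curv2.genus L (pullback f ρ) = Curv2.genus k X :=
    CurveBC.genus_eq k L (pullback.fst f ρ) (IsPullback.of_hasPullback f ρ)
  have hcard : 2 * Curv2.genus L (pullback f ρ) < S.card := by
    rw [hgen, Finset.card_image_of_injective _ (fun i j h => hinj (by
      simpa using congrArg (· ≫ pullback.fst f ρ) h)), Finset.card_univ, Fintype.card_fin]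
    omega
  obtain ⟨J, ξ, hpr, hsm, hirr, hξ, huniv⟩ := exists_jacobian_of (f := fL f ρ) hdimL
    (fun T a ha t => exists_goodCl_of_points (fL f ρ) hdimL S hS hcard ha t) (σL f ρ σ hσ) (hσL f ρ σ hσ)
  haveI := hpr
  haveI := hsm
  haveI := hirr
  haveI : IrreducibleSpace J.left := GeometricallyIrreducible.irreducibleSpace_of_subsingleton J.hom
  letI := jacGrpObj (fL f ρ) hdimL (σL f ρ σ hσ) (hσL f ρ σ hσ) ξ hξ huniv
  haveI : GeometricallyIntegral J.hom := S7791.result J.hom η[J].left (Over.w η[J])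
  have hamp : ∃ M : J.left.Modules, CohB1.IsAmple M := AVProj.exists_isAmple (X := J)
  exact ⟨L, _, ρ, ‹IsFinite ρ›, ‹Flat ρ›, ‹Surjective ρ›, ‹LocallyOfFinitePresentation ρ›, J, ξ, hpr, hsm,
    ‹IrreducibleSpace J.left›, hamp, hξ, huniv⟩

include hdim in
/-- the Jacobian of a curve with a rational point -/
theorem exists_jacobian_field [SmoothOfRelativeDimension 1 f] [GeometricallyIntegral f] :
    ∃ (J : Over (Spec (CommRingCat.of k))) (ξ : PicF.Rig f σ hσ J),
      IsProper J.hom ∧ Smooth J.hom ∧ GeometricallyIrreducible J.hom ∧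
      FGA.HasFibreDegreeZeroCl f J ξ.1 ∧
      ∀ (T : Over (Spec (CommRingCat.of k))) (c : PicF.Rig f σ hσ T), FGA.HasFibreDegreeZeroCl f T c.1 →
        ∃! g : T ⟶ J, PicF.pullCl (PicF.XTmap f g) ξ.1 = c.1 := by
  obtain ⟨L, _, ρ, h1, h2, h3, h4, J, ξ, hpr, hsm, hirr, ⟨M, hM⟩, hξ, huniv⟩ :=
    exists_over_extension f hdim σ hσ
  haveI := h1; haveI := h2; haveI := h3; haveI := h4; haveI := hirr
  let υ : Rig0 f σ hσ (below ρ J) := ⟨toBelow f ρ σ hσ ξ, (deg0Cl_toBelow f ρ σ hσ ξ).2 hξ⟩
  have hV : RepDescent.IsUnivOn (rig0Functor f σ hσ) J υ := by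
    intro T x hx c
    let T' : Over (Spec (CommRingCat.of L)) := Over.mk x
    let i : below ρ T' ⟶ T := Over.homMk (𝟙 T.left) ((Category.id_comp _).trans hx.symm)
    let i' : T ⟶ below ρ T' := Over.homMk (𝟙 T.left) ((Category.id_comp _).trans hx)
    have hii : i' ≫ i = 𝟙 T := Over.OverMorphism.ext (Category.id_comp _)
    have hii' : i ≫ i' = 𝟙 _ := Over.OverMorphism.ext (Category.id_comp _)
    let c' := ofBelow f ρ σ hσ (rigPull f σ hσ i c.1)
    have hc' : FGA.HasFibreDegreeZeroCl (fL f ρ) T' c'.1 := by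
      rw [← deg0Cl_toBelow f ρ σ hσ, toBelow_ofBelow]
      exact (rig0Pull f σ hσ i c).2
    obtain ⟨g, hg, hg'⟩ := huniv T' c' hc'
    have key : ∀ (g₂ : T' ⟶ J) (v : T ⟶ below ρ J), i ≫ v = bmap ρ g₂ →
        ((rig0Functor f σ hσ).map v.op υ = c ↔ PicF.pullCl (PicF.XTmap (fL f ρ) g₂) ξ.1 = c'.1) := by
      intro g₂ v hv
      have e : rigPull f σ hσ i (rigPull f σ hσ v (toBelow f ρ σ hσ ξ)) =
          toBelow f ρ σ hσ (rigPull _ (σL f ρ σ hσ) (hσL f ρ σ hσ) g₂ ξ) := by
        rw [rigPull_comp, hv, toBelow_pull]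
      constructor
      · intro h
        rw [show rigPull f σ hσ v (toBelow f ρ σ hσ ξ) = c.1 from congrArg Subtype.val h] at e
        show (rigPull _ (σL f ρ σ hσ) (hσL f ρ σ hσ) g₂ ξ).1 = c'.1
        rw [show c' = ofBelow f ρ σ hσ (rigPull f σ hσ i c.1) from rfl, e, ofBelow_toBelow]
      · intro h
        rw [show rigPull _ (σL f ρ σ hσ) (hσL f ρ σ hσ) g₂ ξ = c' from Subtype.ext h, toBelow_ofBelow] at e
        have e' := congrArg (rigPull f σ hσ i') e
        rw [rigPull_comp, rigPull_comp, hii, Category.id_comp] at e'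
        exact Subtype.ext (e'.trans ((rigPull_comp f σ hσ i' i c.1).trans
          ((congrArg (fun m => rigPull f σ hσ m c.1) hii).trans (rigPull_id f σ hσ c.1))))
    let v : T ⟶ below ρ J := i' ≫ bmap ρ g
    have hv : i ≫ v = bmap ρ g := by rw [← Category.assoc, hii', Category.id_comp]
    refine ⟨v, ⟨?_, (key g v hv).2 hg⟩, fun w hw => ?_⟩
    · show (𝟙 T.left ≫ g.left) ≫ J.hom = x
      rw [Category.id_comp]
      exact Over.w g
    · let g₂ : T' ⟶ J := Over.homMk w.left hw.1
      have hv₂ : i ≫ w = bmap ρ g₂ := Over.OverMorphism.ext (Category.id_comp _)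
      have hg₂ : g₂ = g := hg' g₂ ((key g₂ w hv₂).1 hw.2)
      refine Over.OverMorphism.ext ?_
      show w.left = 𝟙 T.left ≫ g.left
      rw [← hg₂, Category.id_comp]
      rfl
  obtain ⟨W, ⟨e⟩⟩ := effective_of_ample ρ (RepDescent.dd hV) hM
  obtain ⟨ξW, hξW⟩ := RepDescent.exists_representing hV (hasDescent f σ hσ ρ) e
  have huW : ∀ (T : Over (Spec (CommRingCat.of k))) (c : PicF.Rig f σ hσ T), FGA.HasFibreDegreeZeroCl f T c.1 →
      ∃! g : T ⟶ W, PicF.pullCl (PicF.XTmap f g) ξW.1.1 = c.1 := fun T c hc => by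
    obtain ⟨g, hg, hg'⟩ := hξW T ⟨c, hc⟩
    exact ⟨g, congrArg (fun z : Rig0 f σ hσ T => z.1.1) hg,
      fun g' hg'' => hg' g' (Subtype.ext (Subtype.ext hg''))⟩
  let ε : pullback ρ W.hom ≅ J.left :=
    { hom := e.hom.hom.left
      inv := e.inv.hom.left
      hom_inv_id := congrArg (fun m : (toDD ρ).obj W ⟶ (toDD ρ).obj W => m.hom.left) e.hom_inv_id
      inv_hom_id := congrArg (fun m : RepDescent.dd hV ⟶ RepDescent.dd hV => m.hom.left) e.inv_hom_id }
  have hε : ε.hom ≫ J.hom = pullback.fst ρ W.hom := Over.w e.hom.hom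
  haveI := hpr
  haveI := hsm
  haveI : IsIso ε.hom := ε.isIso_hom
  haveI : IsProper (pullback.fst ρ W.hom) := hε ▸ MorphismProperty.RespectsIso.precomp @IsProper ε.hom J.hom hpr
  haveI : Smooth (pullback.fst ρ W.hom) := hε ▸ MorphismProperty.RespectsIso.precomp @Smooth ε.hom J.hom hsm
  haveI := EtFound.fpqc_isProper.{u}
  have hρ : (@Surjective ⊓ @Flat ⊓ @QuasiCompact : MorphismProperty Scheme.{u}) ρ :=
    ⟨⟨inferInstance, inferInstance⟩, inferInstance⟩
  haveI hWp : IsProper W.hom :=
    MorphismProperty.of_pullback_fst_of_descendsAlong (P := @IsProper) (f := ρ) (g := W.hom) hρ inferInstance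
  haveI hWs : Smooth W.hom :=
    MorphismProperty.of_pullback_fst_of_descendsAlong (P := @Smooth) (f := ρ) (g := W.hom) hρ inferInstance
  haveI : IrreducibleSpace ↥(pullback ρ W.hom) := (Scheme.homeoOfIso ε).irreducibleSpace_iff.2 inferInstance
  haveI : IrreducibleSpace W.left := (irreducibleSpace_def _).2 (by
    have h := (IrreducibleSpace.isIrreducible_univ ↥(pullback ρ W.hom)).image (pullback.snd ρ W.hom)
      (pullback.snd ρ W.hom).continuous.continuousOn
    rwa [Set.image_univ, (Surjective.surj (f := pullback.snd ρ W.hom)).range_eq] at h)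
  letI := jacGrpObj f hdim σ hσ ξW.1 ξW.2 huW
  haveI : GeometricallyIntegral W.hom := S7791.result W.hom η[W].left (Over.w η[W])
  exact ⟨W, ξW.1, hWp, hWs, inferInstance, ξW.2, huW⟩

end Groth.Agent.PicCurve

end
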