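import Groth.Agent.PicCurve.PointsTwist
import Groth.Agent.PicCurve.Jacobian

/-!
# Enough rational points give good twists
-/

noncomputable section

set_option autoImplicit false
set_option linter.style.haveILetI false
set_option linter.unusedSectionVars false
set_option backward.isDefEq.respectTransparency false
set_option backward.isDefEq.respectTransparency.types false
set_option maxHeartbeats 1000000
set_option synthInstance.maxHeartbeats 400000
attribute [-instance] CategoryTheory.catToReflQuiver

universe u

open CategoryTheory CategoryTheory.Limits AlgebraicGeometry TopologicalSpace Opposite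
open Groth.Agent.H23.PicMul

namespace Groth.Agent.PicCurve

variable {k : Type u} [Field k] {X : Scheme.{u}} (f : X ⟶ Spec (CommRingCat.of k))
  [IsProper f] [Smooth f] [IsIntegral X] (hdim : topologicalKrullDim X = 1)

/-- rational points are determined by their images -/
theorem section_ext {s s' : Spec (CommRingCat.of k) ⟶ X} (hs : s ≫ f = 𝟙 _) (hs' : s' ≫ f = 𝟙 _)
    (h : s (IsLocalRing.closedPoint k) = s' (IsLocalRing.closedPoint k)) : s = s' := by
  letI : X.Over (Spec (CommRingCat.of k)) := ⟨f⟩
  have hr := SepCurveTwist.surjective_resMap_section k s hs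
  have hpt : ∀ (y : X) (φ : X.residueField y ⟶ CommRingCat.of k),
      (Spec.map φ ≫ X.fromSpecResidueField y) (IsLocalRing.closedPoint k) = y := fun y φ => by
    have h' : (Spec.map φ ≫ X.fromSpecResidueField y) (IsLocalRing.closedPoint k) ∈
        Set.range (X.fromSpecResidueField y) := ⟨_, rfl⟩
    rwa [Scheme.range_fromSpecResidueField, Set.mem_singleton_iff] at h'
  obtain ⟨⟨x, φ⟩, rfl⟩ := (Scheme.SpecToEquivOfField k X).symm.surjective s
  obtain ⟨⟨x', φ'⟩, rfl⟩ := (Scheme.SpecToEquivOfField k X).symm.surjective s'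
  change (Spec.map φ ≫ X.fromSpecResidueField x) _ = (Spec.map φ' ≫ X.fromSpecResidueField x') _ at h
  rw [hpt, hpt] at h
  subst h
  change (Spec.map φ ≫ X.fromSpecResidueField x) ≫ f = 𝟙 _ at hs
  change (Spec.map φ' ≫ X.fromSpecResidueField x) ≫ f = 𝟙 _ at hs'
  change Function.Surjective (Curv2.resMap k X ((Spec.map φ ≫ X.fromSpecResidueField x) (IsLocalRing.closedPoint k))) at hr
  rw [hpt] at hr
  have key : ∀ ψ : X.residueField x ⟶ CommRingCat.of k, (Spec.map ψ ≫ X.fromSpecResidueField x) ≫ f = 𝟙 _ →
      CommRingCat.ofHom (Curv2.resMap k X x) ≫ ψ = 𝟙 (CommRingCat.of k) := fun ψ e =>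
    Spec.map_injective (by
      rw [Spec.map_comp, ← GeomConn5.spec_resMap, Spec.map_id]
      exact (Category.assoc _ _ _).symm.trans e)
  suffices φ = φ' by rw [this]
  ext y
  obtain ⟨c, rfl⟩ := hr y
  exact (congr($(key φ hs) c) : _).trans (congr($(key φ' hs') c) : _).symm

include hdim in
/-- with enough rational points every class has a good twist at every point -/
theorem exists_goodCl_of_points [SmoothOfRelativeDimension 1 f] [GeometricallyIntegral f]
    (S : Finset (Spec (CommRingCat.of k) ⟶ X)) (hS : ∀ s ∈ S, s ≫ f = 𝟙 _)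
    (hcard : letI : X.Over (Spec (CommRingCat.of k)) := ⟨f⟩
      2 * Curv2.genus k X < S.card)
    {T : Over (Spec (CommRingCat.of k))} {a : PicF.Cl (PicF.XT f T)} (ha : PicF.IsInvertibleCl a) (t : T.left) :
    ∃ γ, PicF.IsInvertibleCl γ ∧ GoodCl f (a * tw f γ T) t := by
  let m := T.left.fromSpecResidueField t
  let φ := Spec.preimage (m ≫ T.hom)
  letI : Algebra k (T.left.residueField t : Type u) := φ.hom.toAlgebra
  let T' := AbDual.ovr T m
  let mm : T' ⟶ T := AbDual.ovrHom T m
  letI : X.Over (Spec (CommRingCat.of k)) := ⟨f⟩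
  letI : (PicF.XT f T').Over (Spec (CommRingCat.of (T.left.residueField t : Type u))) := ⟨PicF.XTproj f T'⟩
  haveI : IsProper (X ↘ Spec (CommRingCat.of k)) := ‹IsProper f›
  haveI : Smooth (X ↘ Spec (CommRingCat.of k)) := ‹Smooth f›
  have hpb : IsPullback (pullback.fst f T'.hom) (PicF.XTproj f T') f
      (Spec.map (CommRingCat.ofHom (algebraMap k (T.left.residueField t : Type u)))) := by
    rw [show Spec.map (CommRingCat.ofHom (algebraMap k (T.left.residueField t : Type u))) = T'.hom from
      Spec.map_preimage (m ≫ T.hom)]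
    exact IsPullback.of_hasPullback f T'.hom
  obtain ⟨L, hL, hLi⟩ := FppfPic.isInvertibleCl_pull (PicF.XTmap f mm) ha
  classical
  let P : Finset X := S.image fun s => s (IsLocalRing.closedPoint k)
  have hP : ∀ x ∈ P, IsClosed ({x} : Set X) ∧ Function.Surjective (Curv2.resMap k X x) := by
    intro x hx
    obtain ⟨s, hs, rfl⟩ := Finset.mem_image.1 hx
    refine ⟨?_, SepCurveTwist.surjective_resMap_section k s (hS s hs)⟩
    haveI : IsClosedImmersion (s ≫ f) := by rw [hS s hs]; infer_instance
    haveI : IsClosedImmersion s := IsClosedImmersion.of_comp s f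
    convert s.isClosedEmbedding.isClosed_range
    ext z
    constructor
    · rintro rfl
      exact ⟨_, rfl⟩
    · rintro ⟨w, rfl⟩
      exact congrArg s (@Subsingleton.elim (Spec (CommRingCat.of k)) inferInstance w _)
  have hinj : P.card = S.card := Finset.card_image_of_injOn fun s hs s' hs' e =>
    section_ext f (hS s hs) (hS s' hs') e
  haveI : GeometricallyConnected (X ↘ Spec (CommRingCat.of k)) := FppfPic.geometricallyConnected_of_integral f
  obtain ⟨L₀, hL₀, h0, h1⟩ := exists_twist_of_card k hdim (T.left.residueField t : Type u)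
    (pullback.fst f T'.hom) hpb P hP (hinj ▸ hcard) hLi
  refine ⟨PicF.cl L₀, ⟨L₀, rfl, hL₀⟩, ?_⟩
  let z : T'.left := IsLocalRing.closedPoint (T.left.residueField t)
  have hz : mm.left z = t := T.left.fromSpecResidueField_apply t z
  rw [← hz, ← goodCl_pull f mm (isInvertibleCl_mul ha (isInvertibleCl_tw ⟨L₀, rfl, hL₀⟩ T)) z, pullCl_mul,
    tw_pull, ← hL]
  let N := CohB1.tensorMod L ((Scheme.Modules.pullback (pullback.fst f T'.hom)).obj L₀)
  have hN : PicF.IsInvertible N := isInvertible_tensor hLi (PicClLib.isInvertible_pullback _ hL₀)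
  refine (goodCl_cl f (L := N) hN z).2 ⟨?_, ?_⟩
  · exact (QuotRep.fiberRank_field (PicF.XTproj f T') (isQCoh_inv hN) 0 z).trans h0
  · haveI := h1
    exact (QuotRep.fiberRank_field (PicF.XTproj f T') (isQCoh_inv hN) 1 z).trans Module.finrank_zero_of_subsingleton

end Groth.Agent.PicCurve

end
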